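import Mathlib.AlgebraicGeometry.Pullbacks
import Mathlib.CategoryTheory.Comma.Over.Pullback
import Mathlib.CategoryTheory.MorphismProperty.Limits

set_option autoImplicit false
universe u

namespace Groth.Agent.H27

open CategoryTheory CategoryTheory.Limits AlgebraicGeometry

/-- The map induced by `Over.pullback f` on a morphism `g` is a base change of `g.left`. -/
theorem isPullback_pullback_map_left {S S' : Scheme.{u}} (f : S' ⟶ S) {X Y : Over S} (g : X ⟶ Y) :
    IsPullback ((Over.pullback f).map g).left (pullback.fst X.hom f) (pullback.fst Y.hom f)
      g.left := by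
  have hout : IsPullback (((Over.pullback f).map g).left ≫ pullback.snd Y.hom f)
      (pullback.fst X.hom f) f (g.left ≫ Y.hom) := by
    have h1 : ((Over.pullback f).map g).left ≫ pullback.snd Y.hom f = pullback.snd X.hom f := by
      simp only [Over.pullback, Over.homMk_left]
      exact pullback.lift_snd _ _ _
    rw [h1, Over.w g]
    exact (IsPullback.of_hasPullback X.hom f).flip
  refine IsPullback.of_right hout ?_ (IsPullback.of_hasPullback Y.hom f).flip
  simp only [Over.pullback, Over.homMk_left]
  exact pullback.lift_fst _ _ _

theorem pullback_map_left_of_stable (P : MorphismProperty Scheme.{u}) [P.IsStableUnderBaseChange]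
    {S S' : Scheme.{u}} (f : S' ⟶ S) {X Y : Over S} (g : X ⟶ Y) (h : P g.left) :
    P ((Over.pullback f).map g).left :=
  P.of_isPullback (isPullback_pullback_map_left f g).flip h

end Groth.Agent.H27
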