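import Groth.Prelude.Def_Red
import Groth.Agent.H27.OverPullback
import Mathlib.RingTheory.Bialgebra.MonoidAlgebra

set_option autoImplicit false
universe u

namespace Groth.Agent.H27

open CategoryTheory MonoidalCategory CartesianMonoidalCategory MonObj GrpObj AlgebraicGeometry
  CategoryTheory.Limits Opposite

variable (R : Type u) [CommRing R]

/-- The homomorphism of diagonalisable groups `D_R(N) ⟶ D_R(M)` induced by `f : M →+ N`. -/
noncomputable def diagMap {M N : Type} [AddCommGroup M] [AddCommGroup N] (f : M →+ N) :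
    Red.diag R N ⟶ Red.diag R M :=
  ((bialgSpec (CommRingCat.of R)).map (Quiver.Hom.op (CommBialgCat.ofHom
    (MonoidAlgebra.mapDomainBialgHom R (AddMonoidHom.toMultiplicative f))))).hom

theorem diagMap_isMonHom {M N : Type} [AddCommGroup M] [AddCommGroup N] (f : M →+ N) :
    IsMonHom (diagMap R f) :=
  Mon.Hom.isMonHom_hom ((bialgSpec (CommRingCat.of R)).map (Quiver.Hom.op (CommBialgCat.ofHom
    (MonoidAlgebra.mapDomainBialgHom R (AddMonoidHom.toMultiplicative f)))))

theorem diagMap_left {M N : Type} [AddCommGroup M] [AddCommGroup N] (f : M →+ N) :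
    (diagMap R f).left = Spec.map (CommRingCat.ofHom
      (MonoidAlgebra.mapDomainBialgHom R (AddMonoidHom.toMultiplicative f) :
        MonoidAlgebra R (Multiplicative M) →+* MonoidAlgebra R (Multiplicative N))) := rfl

theorem mapDomainBialgHom_surjective {G H : Type} [Monoid G] [Monoid H] (f : G →* H)
    (hf : Function.Surjective f) :
    Function.Surjective (MonoidAlgebra.mapDomainBialgHom R f) := by
  intro y
  induction y using MonoidAlgebra.induction_linear with
  | zero => exact ⟨0, map_zero _⟩
  | add x y hx hy =>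
    obtain ⟨a, rfl⟩ := hx
    obtain ⟨b, rfl⟩ := hy
    exact ⟨a + b, map_add _ _ _⟩
  | single h r =>
    obtain ⟨g, rfl⟩ := hf h
    exact ⟨MonoidAlgebra.single g r, MonoidAlgebra.mapDomainBialgHom_single f g r⟩

theorem diagMap_isClosedImmersion {M N : Type} [AddCommGroup M] [AddCommGroup N] (f : M →+ N)
    (hf : Function.Surjective f) : IsClosedImmersion (diagMap R f).left := by
  rw [diagMap_left]
  apply IsClosedImmersion.spec_of_surjective
  exact mapDomainBialgHom_surjective R (AddMonoidHom.toMultiplicative f) hf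

/-- The homomorphism `D_S(N) ⟶ D_S(M)` induced by `f : M →+ N`. -/
noncomputable def dsMap (S : Scheme.{u}) {M N : Type} [AddCommGroup M] [AddCommGroup N]
    (f : M →+ N) : Red.DS S N ⟶ Red.DS S M :=
  (Over.pullback (Limits.IsTerminal.from specULiftZIsTerminal S)).map (diagMap (ULift.{u} ℤ) f)

theorem dsMap_isMonHom (S : Scheme.{u}) {M N : Type} [AddCommGroup M] [AddCommGroup N]
    (f : M →+ N) : IsMonHom (dsMap S f) := by
  have := diagMap_isMonHom (ULift.{u} ℤ) f
  exact Functor.map.instIsMonHom _ _ (diagMap (ULift.{u} ℤ) f)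

theorem dsMap_isClosedImmersion (S : Scheme.{u}) {M N : Type} [AddCommGroup M] [AddCommGroup N]
    (f : M →+ N) (hf : Function.Surjective f) : IsClosedImmersion (dsMap S f).left :=
  pullback_map_left_of_stable @IsClosedImmersion _ _
    (diagMap_isClosedImmersion (ULift.{u} ℤ) f hf)

end Groth.Agent.H27
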