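import Groth.Prelude.Def_Red2
import Groth.Agent.H27.OverPullback
import Mathlib.RingTheory.Bialgebra.MonoidAlgebra

/-!
# Hom-group calculus for diagonalisable groups `D_S(M)`

`Red.DSmap S (φ₁ + φ₂) = Red.DSmap S φ₁ * Red.DSmap S φ₂` in the group `D_S(N) ⟶ D_S(M)`,
functoriality, and faithfulness of `φ ↦ Red.DSmap (Spec k) φ` over a nontrivial ring `k`.
-/

set_option autoImplicit false
universe u

namespace Groth.Agent.H27.DiagHom

open CategoryTheory MonoidalCategory CartesianMonoidalCategory MonObj GrpObj AlgebraicGeometry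
  CategoryTheory.Limits Opposite

section diag
variable (R : Type u) [CommRing R] {M N P : Type} [AddCommGroup M] [AddCommGroup N]
  [AddCommGroup P]

theorem diagMap_eq (φ : M →+ N) :
    Red.diagMap R φ = Spec.mapMulEquiv (R := R)
      (WithConv.toConv (MonoidAlgebra.mapDomainAlgHom R R (AddMonoidHom.toMultiplicative φ))) :=
  rfl

theorem diagMap_add (φ₁ φ₂ : M →+ N) :
    Red.diagMap R (φ₁ + φ₂) = Red.diagMap R φ₁ * Red.diagMap R φ₂ := by
  rw [diagMap_eq, diagMap_eq, diagMap_eq, ← map_mul]
  congr 1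
  apply WithConv.ofConv_injective
  refine MonoidAlgebra.algHom_ext (fun m => ?_) (by ext)
  rw [AlgHom.convMul_apply]
  simp

theorem diagMap_zero : Red.diagMap R (0 : M →+ N) = 1 := by
  rw [diagMap_eq, ← map_one (Spec.mapMulEquiv (R := R)
    (S := MonoidAlgebra R (Multiplicative M)) (T := MonoidAlgebra R (Multiplicative N)))]
  congr 1
  apply WithConv.ofConv_injective
  refine MonoidAlgebra.algHom_ext (fun m => ?_) (by ext)
  rw [AlgHom.convOne_apply]
  simp

theorem diagMap_id : Red.diagMap R (AddMonoidHom.id M) = 𝟙 _ := by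
  ext1
  have : (MonoidAlgebra.mapDomainAlgHom R R
      (AddMonoidHom.toMultiplicative (AddMonoidHom.id M))).toRingHom = RingHom.id _ := by
    ext <;> simp
  simp only [Red.diagMap, this]
  simp

theorem diagMap_comp (φ : M →+ N) (ψ : N →+ P) :
    Red.diagMap R (ψ.comp φ) = Red.diagMap R ψ ≫ Red.diagMap R φ := by
  ext1
  have : (MonoidAlgebra.mapDomainAlgHom R R
      (AddMonoidHom.toMultiplicative (ψ.comp φ))).toRingHom =
      (MonoidAlgebra.mapDomainAlgHom R R (AddMonoidHom.toMultiplicative ψ)).toRingHom.comp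
        (MonoidAlgebra.mapDomainAlgHom R R (AddMonoidHom.toMultiplicative φ)).toRingHom := by
    ext <;> simp
  simp only [Red.diagMap, this]
  simp [Spec.map_comp]
  rfl

end diag

section DS
variable (S : Scheme.{u}) {M N P : Type} [AddCommGroup M] [AddCommGroup N] [AddCommGroup P]

theorem DSmap_add (φ₁ φ₂ : M →+ N) :
    Red.DSmap S (φ₁ + φ₂) = Red.DSmap S φ₁ * Red.DSmap S φ₂ := by
  unfold Red.DSmap
  rw [diagMap_add]
  exact Functor.map_mul _ _ _

theorem DSmap_id : Red.DSmap S (AddMonoidHom.id M) = 𝟙 _ := by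
  unfold Red.DSmap
  rw [diagMap_id]
  exact CategoryTheory.Functor.map_id _ _

theorem DSmap_comp (φ : M →+ N) (ψ : N →+ P) :
    Red.DSmap S (ψ.comp φ) = Red.DSmap S ψ ≫ Red.DSmap S φ := by
  unfold Red.DSmap
  rw [diagMap_comp]
  exact CategoryTheory.Functor.map_comp _ _ _

theorem DSmap_zero : Red.DSmap S (0 : M →+ N) = 1 := by
  unfold Red.DSmap
  rw [diagMap_zero]
  exact Functor.map_one _

theorem DSmap_nsmul (n : ℕ) (φ : M →+ N) : Red.DSmap S (n • φ) = Red.DSmap S φ ^ n := by
  induction n with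
  | zero => rw [zero_smul, pow_zero, DSmap_zero]
  | succ n ih => rw [succ_nsmul, DSmap_add, ih, pow_succ]

end DS

section faithful
variable (k : Type u) [CommRing k] [Nontrivial k] {M N : Type} [AddCommGroup M] [AddCommGroup N]

/-- The canonical ring map `ℤ → k` from the lifted integers. -/
noncomputable def cst : ULift.{u} ℤ →+* k :=
  (Int.castRingHom k).comp (ULift.ringEquiv : ULift.{u} ℤ ≃+* ℤ).toRingHom

/-- The tautological point `Spec k[N] ⟶ D_{Spec k}(N)`. -/
noncomputable def tautPt (N : Type) [AddCommGroup N] :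
    Spec (CommRingCat.of (MonoidAlgebra k (Multiplicative N))) ⟶
      (Red.DS (Spec (CommRingCat.of k)) N).left :=
  pullback.lift
    (Spec.map (CommRingCat.ofHom (MonoidAlgebra.mapRingHom (Multiplicative N) (cst k))))
    (Spec.map (CommRingCat.ofHom (algebraMap k (MonoidAlgebra k (Multiplicative N)))))
    (specULiftZIsTerminal.hom_ext _ _)

theorem tautPt_fst (N : Type) [AddCommGroup N] :
    tautPt k N ≫ pullback.fst _ _ =
      Spec.map (CommRingCat.ofHom (MonoidAlgebra.mapRingHom (Multiplicative N) (cst k))) :=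
  pullback.lift_fst _ _ _

theorem tautPt_DSmap_fst (φ : M →+ N) :
    tautPt k N ≫ (Red.DSmap (Spec (CommRingCat.of k)) φ).left ≫ pullback.fst _ _ =
      Spec.map (CommRingCat.ofHom ((MonoidAlgebra.mapRingHom (Multiplicative N) (cst k)).comp
        (MonoidAlgebra.mapDomainAlgHom (ULift.{u} ℤ) (ULift.{u} ℤ)
          (AddMonoidHom.toMultiplicative φ)).toRingHom)) := by
  unfold Red.DSmap
  rw [(isPullback_pullback_map_left _ (Red.diagMap (ULift.{u} ℤ) φ)).w, ← Category.assoc]
  rw [tautPt_fst]
  simp only [Red.diagMap]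
  rw [CommRingCat.ofHom_comp, Spec.map_comp]
  rfl

theorem DSmap_injective {φ φ' : M →+ N}
    (h : Red.DSmap (Spec (CommRingCat.of k)) φ = Red.DSmap (Spec (CommRingCat.of k)) φ') :
    φ = φ' := by
  have h1 := tautPt_DSmap_fst k φ
  rw [h, tautPt_DSmap_fst k φ'] at h1
  have h2 := congrArg CommRingCat.Hom.hom (Spec.map_injective h1)
  simp only [CommRingCat.hom_ofHom] at h2
  ext m
  have h3 := congrArg (fun f => f (MonoidAlgebra.single (Multiplicative.ofAdd m) 1)) h2
  simp only [RingHom.comp_apply] at h3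
  simp at h3
  have h4 := (MonoidAlgebra.single_left_inj (R := k) (by simp [cst])).mp h3
  simpa using h4.symm

end faithful

end Groth.Agent.H27.DiagHom
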