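import Mathlib
import Groth.Agent.S9282
import Groth.Agent.H14.H1Residue

/-!
# (V2) for helper10's S6824: finiteness of `H₁(L_{K/k})` for the residue field (helper27)
-/

set_option autoImplicit false
universe u
open IsLocalRing

namespace Groth.Agent.H27.FiniteH1Res

/-- (V2) finiteness of `H₁(L_{K/k})` -/
theorem finite_h1Cotangent_residueField {k S : Type u} [Field k] [CommRing S] [IsLocalRing S]
    [IsNoetherianRing S] [Algebra k S]
    (hS : CAlgX.IsAdicFormallySmooth k S (maximalIdeal S)) :
    Module.Finite (ResidueField S) (Algebra.H1Cotangent k (ResidueField S)) := by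
  haveI : IsLocalHom (algebraMap k S) := by
    constructor
    intro a ha
    rcases eq_or_ne a 0 with rfl | h
    · rw [map_zero] at ha
      exact absurd ha not_isUnit_zero
    · exact isUnit_iff_ne_zero.2 h
  have hinj := Groth.Agent.S9282.result k S hS
  haveI : Module.Finite (ResidueField S) (CotangentSpace S) := inferInstance
  haveI : Module.Finite (ResidueField S) (Algebra.H1Cotangent S (ResidueField S)) :=
    Module.Finite.equiv (Groth.Agent.H14.H1Residue.h1Equiv S).symm
  exact Module.Finite.of_injective _ hinj

end Groth.Agent.H27.FiniteH1Res
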