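import Mathlib

/-!
# (V9) for helper10's S6824: the image of `k[T][Y]` in the residue field (helper27)
-/

set_option autoImplicit false
universe u
open IsLocalRing

namespace Groth.Agent.H27.ResidueImage

/-- (V9) the image of `P = k[T][Y]` in the residue field -/
theorem residue_image {k Λ : Type u} [Field k] [CommRing Λ] [Algebra k Λ] (𝔮 : Ideal Λ)
    [𝔮.IsPrime] {s t : ℕ} (u : Fin t → Λ)
    [Algebra (MvPolynomial (Fin t) k) Λ] [IsScalarTower k (MvPolynomial (Fin t) k) Λ]
    (hu : ∀ l, algebraMap (MvPolynomial (Fin t) k) Λ (MvPolynomial.X l) = u l)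
    [Algebra (MvPolynomial (Fin s) (MvPolynomial (Fin t) k)) Λ]
    [IsScalarTower (MvPolynomial (Fin t) k) (MvPolynomial (Fin s) (MvPolynomial (Fin t) k)) Λ]
    (hy : ∀ l, algebraMap (MvPolynomial (Fin s) (MvPolynomial (Fin t) k)) Λ (MvPolynomial.X l) ∈ 𝔮) :
    (∀ p : MvPolynomial (Fin s) (MvPolynomial (Fin t) k),
      residue (Localization.AtPrime 𝔮) (algebraMap Λ (Localization.AtPrime 𝔮)
        (algebraMap _ Λ p)) ∈
      Algebra.adjoin k (Set.range fun l => residue (Localization.AtPrime 𝔮)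
        (algebraMap Λ (Localization.AtPrime 𝔮) (u l)))) ∧
    (∀ c ∈ IntermediateField.adjoin k (Set.range fun l => residue (Localization.AtPrime 𝔮)
        (algebraMap Λ (Localization.AtPrime 𝔮) (u l))),
      ∃ p₁ p₂ : MvPolynomial (Fin s) (MvPolynomial (Fin t) k), algebraMap _ Λ p₂ ∉ 𝔮 ∧
        c * residue (Localization.AtPrime 𝔮) (algebraMap Λ (Localization.AtPrime 𝔮)
          (algebraMap _ Λ p₂)) =
        residue (Localization.AtPrime 𝔮) (algebraMap Λ (Localization.AtPrime 𝔮)
          (algebraMap _ Λ p₁))) := by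
  classical
  let K := ResidueField (Localization.AtPrime 𝔮)
  let ρ : Λ →+* K := (residue (Localization.AtPrime 𝔮)).comp (algebraMap Λ (Localization.AtPrime 𝔮))
  have hρ : ∀ x : Λ, ρ x = residue (Localization.AtPrime 𝔮)
      (algebraMap Λ (Localization.AtPrime 𝔮) x) := fun x => rfl
  have hρk : ∀ a : k, ρ (algebraMap k Λ a) = algebraMap k K a := by
    intro a
    rw [hρ, ← IsScalarTower.algebraMap_apply k Λ (Localization.AtPrime 𝔮)]
    rfl
  have hρ0 : ∀ x : Λ, ρ x = 0 ↔ x ∈ 𝔮 := by
    intro x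
    rw [hρ, residue_eq_zero_iff, IsLocalization.AtPrime.to_map_mem_maximal_iff
      (Localization.AtPrime 𝔮) 𝔮 x]
  let v : Fin t → K := fun l => ρ (u l)
  have hP1 : ∀ a : MvPolynomial (Fin t) k,
      ρ (algebraMap (MvPolynomial (Fin t) k) Λ a) = MvPolynomial.aeval v a := by
    intro a
    induction a using MvPolynomial.induction_on with
    | C c =>
      rw [MvPolynomial.aeval_C, ← MvPolynomial.algebraMap_eq,
        ← IsScalarTower.algebraMap_apply k (MvPolynomial (Fin t) k) Λ, hρk]
    | add p q hp hq => rw [map_add, map_add, map_add, hp, hq]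
    | mul_X p l hp =>
      rw [map_mul, map_mul, map_mul, hp, hu, MvPolynomial.aeval_X]
  have hP2C : ∀ a : MvPolynomial (Fin t) k,
      algebraMap (MvPolynomial (Fin s) (MvPolynomial (Fin t) k)) Λ (MvPolynomial.C a) =
        algebraMap (MvPolynomial (Fin t) k) Λ a := by
    intro a
    rw [IsScalarTower.algebraMap_apply (MvPolynomial (Fin t) k)
      (MvPolynomial (Fin s) (MvPolynomial (Fin t) k)) Λ, MvPolynomial.algebraMap_eq]
  refine ⟨?_, ?_⟩
  · intro p
    show ρ (algebraMap _ Λ p) ∈ Algebra.adjoin k (Set.range v)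
    induction p using MvPolynomial.induction_on with
    | C a =>
      rw [hP2C, hP1]
      have h1 : (MvPolynomial.aeval v a : K) ∈
          (MvPolynomial.aeval (R := k) v : MvPolynomial (Fin t) k →ₐ[k] K).range := ⟨a, rfl⟩
      rw [← Algebra.adjoin_range_eq_range_aeval] at h1
      exact h1
    | add p q hp hq =>
      rw [map_add, map_add]
      exact Subalgebra.add_mem _ hp hq
    | mul_X p l hp =>
      rw [map_mul, map_mul, (hρ0 _).2 (hy l), mul_zero]
      exact Subalgebra.zero_mem _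
  · intro c hc
    show ∃ p₁ p₂ : MvPolynomial (Fin s) (MvPolynomial (Fin t) k), algebraMap _ Λ p₂ ∉ 𝔮 ∧
      c * ρ (algebraMap _ Λ p₂) = ρ (algebraMap _ Λ p₁)
    obtain ⟨r, s', hrs⟩ := (IntermediateField.mem_adjoin_range_iff (F := k) v c).1 hc
    by_cases h0 : MvPolynomial.aeval v s' = 0
    · refine ⟨0, 1, ?_, ?_⟩
      · rw [map_one]
        exact fun h => (inferInstance : 𝔮.IsPrime).ne_top ((Ideal.eq_top_iff_one _).2 h)
      · rw [hrs, h0, div_zero, zero_mul, map_zero, map_zero]
    · refine ⟨MvPolynomial.C r, MvPolynomial.C s', ?_, ?_⟩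
      · rw [← hρ0, hP2C, hP1]
        exact h0
      · rw [hP2C, hP2C, hP1, hP1, hrs, div_mul_cancel₀ _ h0]

end Groth.Agent.H27.ResidueImage
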