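import Mathlib
import Groth.Prelude.Def_CohB1
import Groth.Agent.H22.FPExt.Defs
import Groth.Agent.H8.FPAffine
import Groth.Agent.H8.QCohAffine
set_option autoImplicit false
set_option linter.style.haveILetI false
universe u
open CategoryTheory CategoryTheory.Limits AlgebraicGeometry TopologicalSpace Opposite
open AlgebraicGeometry.Scheme.Modules
open Groth.Agent.H22.FPExt

namespace Groth.Agent.H27.FPExt_P9

/-- finite presentation of a localized module does not depend on the model. -/
theorem fp_localizedModule_of_model {R : Type u} [CommRing R] (f : R) {M : Type u} [AddCommGroup M]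
    [Module R M] {B N : Type u} [CommRing B] [Algebra R B] [IsLocalization.Away f B]
    [AddCommGroup N] [Module R N] [Module B N] [IsScalarTower R B N] (ρ : M →ₗ[R] N)
    [IsLocalizedModule (Submonoid.powers f) ρ] (h : Module.FinitePresentation B N) :
    Module.FinitePresentation (Localization.Away f) (LocalizedModule (Submonoid.powers f) M) := by
  let A := Localization.Away f
  let LM := LocalizedModule (Submonoid.powers f) M
  let σ : B ≃ₐ[R] A := IsLocalization.algEquiv (Submonoid.powers f) B A
  letI : Algebra B A := σ.toAlgHom.toRingHom.toAlgebra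
  haveI : IsScalarTower R B A := IsScalarTower.of_algebraMap_eq fun r => by
    change algebraMap R A r = σ (algebraMap R B r)
    exact (σ.commutes r).symm
  letI : Module B LM := Module.compHom LM (algebraMap B A)
  haveI : IsScalarTower B A LM := ⟨fun b a x => by
    change (algebraMap B A b * a) • x = algebraMap B A b • (a • x)
    rw [mul_smul]⟩
  haveI : IsScalarTower R B LM := ⟨fun r b x => by
    change algebraMap B A (r • b) • x = r • (algebraMap B A b • x)
    rw [Algebra.smul_def, map_mul, mul_smul, ← IsScalarTower.algebraMap_apply,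
      algebraMap_smul]⟩
  have hρ : IsBaseChange B ρ :=
    (isLocalizedModule_iff_isBaseChange (Submonoid.powers f) B ρ).mp inferInstance
  have hmk : IsBaseChange A (LocalizedModule.mkLinearMap (Submonoid.powers f) M) :=
    (isLocalizedModule_iff_isBaseChange (Submonoid.powers f) A _).mp inferInstance
  let hh : N →ₗ[B] LM := hρ.lift (LocalizedModule.mkLinearMap (Submonoid.powers f) M)
  have hc : (hh.restrictScalars R) ∘ₗ ρ = LocalizedModule.mkLinearMap (Submonoid.powers f) M :=
    hρ.lift_comp _
  have hb : IsBaseChange A hh := by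
    refine IsBaseChange.of_comp hρ ?_
    rw [show ((hh : N →ₗ[R] LM) ∘ₗ ρ) = LocalizedModule.mkLinearMap (Submonoid.powers f) M from hc]
    exact hmk
  exact FinitePresentation.of_isBaseChange hh hb

/-- a quasi-coherent module that is f.p. near every point of `W` has f.p. sections on every
affine open inside `W`. -/
theorem fp_sections_of_fpOn {X : Scheme.{u}} (M : X.Modules) [M.IsQuasicoherent] {W D : X.Opens}
    (hD : IsAffineOpen D) (hDW : D ≤ W) (hF : FPOn M W) :
    Module.FinitePresentation Γ(X, D) Γ(M, D) := by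
  have key : ∀ x : D, ∃ a : Γ(X, D), (x : X) ∈ X.basicOpen a ∧
      Module.FinitePresentation Γ(X, X.basicOpen a) Γ(M, X.basicOpen a) := by
    intro x
    obtain ⟨O, hO, hxO, hOW, hfp⟩ := hF x (hDW x.2)
    obtain ⟨a, g, hag, hxa⟩ := exists_basicOpen_le_affine_inter hD hO x ⟨x.2, hxO⟩
    refine ⟨a, hxa, ?_⟩
    have := Groth.Agent.H8.finitePresentation_basicOpen M hO g hfp
    rw [hag]
    exact this
  choose a ha1 ha2 using key
  refine Groth.Agent.H8.finitePresentation_of_span M hD (Set.range a) ?_ ?_
  · rw [← hD.self_le_iSup_basicOpen_iff]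
    intro x hx
    rw [iSup_range', Opens.mem_iSup]
    exact ⟨⟨x, hx⟩, ha1 ⟨x, hx⟩⟩
  · rintro ⟨_, x, rfl⟩
    exact ha2 x

set_option backward.isDefEq.respectTransparency false in
/-- (P9) -/
theorem exists_finset_fp_localized (R : CommRingCat.{u}) (F : (Spec R).Modules) [F.IsQuasicoherent] (W : (Spec R).Opens) (hW : IsCompact (W : Set (Spec R))) (hF : FPOn F W) : ∃ s : Finset R, (⨆ f ∈ s, (PrimeSpectrum.basicOpen f : (Spec R).Opens)) = W ∧ ∀ f ∈ s, Module.FinitePresentation (Localization.Away f) (LocalizedModule (Submonoid.powers f) ((moduleSpecΓFunctor (R := R)).obj F)) := by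
  classical
  obtain ⟨Us, hUsB, hfin, hU⟩ :=
    (PrimeSpectrum.isBasis_basic_opens (R := R)).exists_finite_of_isCompact (U := W) hW
  have hUsB' : ∀ u ∈ Us, ∃ f : R, PrimeSpectrum.basicOpen f = u := fun u hu => hUsB hu
  choose! g hg using hUsB'
  refine ⟨hfin.toFinset.image g, ?_, ?_⟩
  · rw [hU]
    apply le_antisymm
    · simp only [iSup_le_iff]
      intro f hf
      obtain ⟨u, hu, rfl⟩ := Finset.mem_image.mp hf
      rw [hg u (hfin.mem_toFinset.mp hu)]
      exact le_sSup (hfin.mem_toFinset.mp hu)
    · apply sSup_le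
      intro u hu
      rw [← hg u hu]
      exact le_iSup₂_of_le (g u) (Finset.mem_image_of_mem _ (hfin.mem_toFinset.mpr hu)) le_rfl
  · intro f hf
    obtain ⟨u, hu, rfl⟩ := Finset.mem_image.mp hf
    have hu' := hfin.mem_toFinset.mp hu
    have hle : (PrimeSpectrum.basicOpen (g u) : (Spec R).Opens) ≤ W := by
      rw [hg u hu', hU]
      exact le_sSup hu'
    have hD : IsAffineOpen (X := Spec R) (PrimeSpectrum.basicOpen (g u)) := by
      rw [← basicOpen_eq_of_affine]
      exact (isAffineOpen_top (Spec R)).basicOpen _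
    have hfp := fp_sections_of_fpOn F hD hle hF
    let ρ0 := ((modulesSpecToSheaf.obj F).obj.map (PrimeSpectrum.basicOpen (g u)).leTop.op).hom
    have hloc : IsLocalizedModule (Submonoid.powers (g u)) ρ0 :=
      Groth.Agent.H8.spec_isLocalizing F (g u)
    let ρ : ↑((moduleSpecΓFunctor (R := R)).obj F) →ₗ[R] Γ(F, PrimeSpectrum.basicOpen (g u)) := ρ0
    haveI : IsLocalizedModule (Submonoid.powers (g u)) ρ := hloc
    exact fp_localizedModule_of_model (g u) (B := Γ(Spec R, PrimeSpectrum.basicOpen (g u)))
      (N := Γ(F, PrimeSpectrum.basicOpen (g u))) ρ hfp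

end Groth.Agent.H27.FPExt_P9
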