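import Mathlib
import Groth.Prelude.Def_CohB1
import Groth.Agent.H22.FPExt.Defs
import Groth.Agent.S9827
import Groth.Agent.H19.FPExt_P7
import Groth.Agent.H1.FPExt_P8
import Groth.Agent.H27.FPExt_P9
set_option autoImplicit false
universe u
open CategoryTheory CategoryTheory.Limits AlgebraicGeometry TopologicalSpace Opposite
open AlgebraicGeometry.Scheme.Modules
open Groth.Agent.H22.FPExt
variable {X : Scheme.{u}}

namespace Groth.Agent.H27.FPExt_P10

theorem bijective_app_of_isIso {X : Scheme.{u}} {A B : X.Modules} (ψ : A ⟶ B) [IsIso ψ]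
    (O : X.Opens) : Function.Bijective (ψ.app O) := by
  refine Function.bijective_iff_has_inverse.mpr ⟨(inv ψ).app O, fun x => ?_, fun x => ?_⟩
  · have h : (ψ ≫ inv ψ).app O = ψ.app O ≫ (inv ψ).app O := rfl
    rw [IsIso.hom_inv_id] at h
    exact (ConcreteCategory.congr_hom h x).symm
  · have h : (inv ψ ≫ ψ).app O = (inv ψ).app O ≫ ψ.app O := rfl
    rw [IsIso.inv_hom_id] at h
    exact (ConcreteCategory.congr_hom h x).symm

theorem spec_case (R : CommRingCat.{u}) (F : (Spec R).Modules) [F.IsQuasicoherent] (W : (Spec R).Opens) (hW : IsCompact (W : Set (Spec R))) (hF : FPOn F W) : ∃ (G : (Spec R).Modules) (φ : G ⟶ F), CohB1.IsFP G ∧ BijOn φ W := by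
  obtain ⟨s, hsW, hs⟩ := Groth.Agent.H27.FPExt_P9.exists_finset_fp_localized R F W hW hF
  obtain ⟨N, _, _, g, hN, hg⟩ := Groth.Agent.H19.FPExt_P7.exists_fp_map_localized_bijective
    ((moduleSpecΓFunctor (R := R)).obj F) s hs
  refine ⟨(tilde.functor R).obj (ModuleCat.of R N),
    (tilde.functor R).map (ModuleCat.ofHom g) ≫ F.fromTildeΓ, ?_, ?_⟩
  · exact (Groth.Agent.S9827.result R (ModuleCat.of R N)).mpr hN
  · rw [← hsW]
    refine BijOn.comp (Groth.Agent.H1.FPExt_P8.tilde_map_bijOn R (ModuleCat.ofHom g) s hg) ?_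
    intro O _
    exact bijective_app_of_isIso F.fromTildeΓ O

end Groth.Agent.H27.FPExt_P10
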