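import Mathlib
set_option autoImplicit false
open CategoryTheory AlgebraicGeometry TensorProduct
universe u

namespace Groth.Agent.H27.DX5

/-- (DX5) closed subscheme of an affine scheme from an ideal of global sections. -/
theorem exists_closed_of_ideal {X : Scheme.{u}} [IsAffine X] (I : Ideal Γ(X, ⊤)) :
    ∃ (Z : Scheme.{u}) (j : Z ⟶ X), IsAffine Z ∧ IsClosedImmersion j ∧
      I ≤ RingHom.ker j.appTop.hom ∧
      ∀ {T : Scheme.{u}} (x : T ⟶ X),
        (∀ (V : Scheme.{u}) (v : V ⟶ T), IsAffine V → IsOpenImmersion v →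
          I ≤ RingHom.ker (v ≫ x).appTop.hom) →
        ∃ z : T ⟶ Z, z ≫ j = x := by
  let q : Γ(X, ⊤) ⟶ CommRingCat.of (Γ(X, ⊤) ⧸ I) := CommRingCat.ofHom (Ideal.Quotient.mk I)
  have hq : Function.Surjective q := Ideal.Quotient.mk_surjective
  have : IsClosedImmersion (Spec.map q) := IsClosedImmersion.spec_of_surjective q hq
  refine ⟨Spec (CommRingCat.of (Γ(X, ⊤) ⧸ I)), Spec.map q ≫ X.isoSpec.inv, inferInstance,
    inferInstance, ?_, ?_⟩
  · intro a ha
    rw [RingHom.mem_ker]
    have h1 : (Spec.map q ≫ X.isoSpec.inv).appTop ≫ (Scheme.ΓSpecIso _).hom = q := by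
      rw [Scheme.Hom.comp_appTop, Category.assoc, Scheme.ΓSpecIso_naturality,
        ← Category.assoc]
      have h2 : X.isoSpec.inv.appTop ≫ (Scheme.ΓSpecIso Γ(X, ⊤)).hom = 𝟙 _ := by
        rw [← Scheme.toSpecΓ_appTop, ← Scheme.Hom.comp_appTop]
        have : X.toSpecΓ ≫ X.isoSpec.inv = 𝟙 _ := X.toSpecΓ_isoSpec_inv
        rw [this]
        rfl
      rw [h2, Category.id_comp]
    have h3 : (Scheme.ΓSpecIso _).hom ((Spec.map q ≫ X.isoSpec.inv).appTop a) = q a := by
      rw [← CommRingCat.comp_apply, h1]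
    have h4 : q a = 0 := (Ideal.Quotient.eq_zero_iff_mem).2 ha
    rw [h4] at h3
    have hinj : Function.Injective (Scheme.ΓSpecIso (CommRingCat.of (Γ(X, ⊤) ⧸ I))).hom :=
      (ConcreteCategory.bijective_of_isIso _).1
    exact hinj (by rw [h3, map_zero])
  · intro T x hx
    have hker : I ≤ RingHom.ker x.appTop.hom := by
      intro a ha
      rw [RingHom.mem_ker]
      apply Scheme.zero_of_zero_cover (U := ⊤) _ T.affineCover
      intro i
      have := hx _ (T.affineCover.f i) inferInstance inferInstance ha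
      rw [RingHom.mem_ker] at this
      rw [Scheme.Hom.comp_appTop] at this
      exact this
    let φ : CommRingCat.of (Γ(X, ⊤) ⧸ I) ⟶ Γ(T, ⊤) :=
      CommRingCat.ofHom (Ideal.Quotient.lift I x.appTop.hom (fun a ha => hker ha))
    have hφ : q ≫ φ = x.appTop := by
      ext a
      simp only [q, φ, CommRingCat.hom_comp, CommRingCat.hom_ofHom, RingHom.comp_apply]
      exact Ideal.Quotient.lift_mk I _ _
    refine ⟨T.toSpecΓ ≫ Spec.map φ, ?_⟩
    rw [Category.assoc, ← Category.assoc (Spec.map φ), ← Spec.map_comp, hφ,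
      ← Scheme.toSpecΓ_naturality_assoc, Scheme.toSpecΓ_isoSpec_inv, Category.comp_id]

end Groth.Agent.H27.DX5
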