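import Mathlib
import Groth.Prelude.Def_HTop
import Groth.Prelude.Def_HTop3
set_option autoImplicit false
universe u
open CategoryTheory CategoryTheory.Limits AlgebraicGeometry

namespace Groth.Agent.H27.ABU_AW

/-- (AW) on a principal chart, the complement of the support is the basic open of the generator. -/
theorem AW {W : Scheme.{u}} (𝓙 : W.IdealSheafData) (U : W.affineOpens) (f : Γ(W, U.1))
    (hf : 𝓙.ideal U = Ideal.span {f}) : U.1 ⊓ HTop.awayFrom 𝓙 = W.basicOpen f := by
  ext x
  constructor
  · rintro ⟨hxU, hx⟩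
    have hx' : x ∉ 𝓙.support := hx
    rw [Scheme.IdealSheafData.mem_support_iff_of_mem hxU, hf, Scheme.zeroLocus_span,
      Scheme.zeroLocus_singleton] at hx'
    simpa using hx'
  · intro hx
    have hxU : x ∈ U.1 := W.basicOpen_le f hx
    refine ⟨hxU, ?_⟩
    change x ∉ 𝓙.support
    rw [Scheme.IdealSheafData.mem_support_iff_of_mem hxU, hf, Scheme.zeroLocus_span,
      Scheme.zeroLocus_singleton]
    simpa using hx

end Groth.Agent.H27.ABU_AW
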