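import Mathlib
import Groth.Prelude.Def_HTop
import Groth.Prelude.Def_HTop3
import Groth.Agent.H27.ABU_AW
set_option autoImplicit false
universe u
open CategoryTheory CategoryTheory.Limits AlgebraicGeometry

namespace Groth.Agent.H27.ABU_QC

/-- the image under `V.ι` of the preimage of `U` is `U ⊓ V`. -/
theorem image_preimage_ι {W : Scheme.{u}} (V U : W.Opens) :
    (V.ι ''ᵁ (V.ι ⁻¹ᵁ U) : W.Opens) = U ⊓ V := by
  ext x
  constructor
  · rintro ⟨y, hy, rfl⟩
    exact ⟨hy, y.2⟩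
  · rintro ⟨hxU, hxV⟩
    exact ⟨⟨x, hxV⟩, hxU, rfl⟩

/-- (QC) the inclusion of the complement of the support of a locally principal ideal sheaf is
quasi-compact. -/
theorem QC {W : Scheme.{u}} (𝓙 : W.IdealSheafData) (h : HTop.IsLocPrincipal 𝓙) :
    QuasiCompact (HTop.awayFrom 𝓙).ι := by
  choose U hxU f hf using h
  have hU : (⨆ x : W, (U x).1) = ⊤ := by
    rw [eq_top_iff]
    rintro x -
    simp only [TopologicalSpace.Opens.mem_iSup]
    exact ⟨x, hxU x⟩
  rw [IsZariskiLocalAtTarget.iff_of_iSup_eq_top (P := @QuasiCompact) (fun x : W => (U x).1) hU]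
  intro x
  have : IsAffine ((U x).1 : W.Opens) := (U x).2
  rw [HasAffineProperty.iff_of_isAffine (P := @QuasiCompact)]
  refine isCompact_iff_compactSpace.mp ?_
  have hemb := (HTop.awayFrom 𝓙).ι.isOpenEmbedding.isEmbedding
  rw [hemb.isCompact_iff]
  have h1 : ((HTop.awayFrom 𝓙).ι.base '' (((HTop.awayFrom 𝓙).ι ⁻¹ᵁ (U x).1 : (HTop.awayFrom 𝓙).toScheme.Opens) : Set _))
      = ((W.basicOpen (f x) : W.Opens) : Set W) := by
    have := congrArg (fun O : W.Opens => (O : Set W)) (image_preimage_ι (HTop.awayFrom 𝓙) (U x).1)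
    rw [Groth.Agent.H27.ABU_AW.AW 𝓙 (U x) (f x) (hf x)] at this
    exact this
  rw [h1]
  exact ((U x).2.basicOpen (f x)).isCompact

end Groth.Agent.H27.ABU_QC
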