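import Mathlib
import Groth.Prelude.Def_HTop
import Groth.Prelude.Def_HTop3
import Groth.Agent.H27.ABU_AW
import Groth.Agent.H27.ABU_QC
set_option autoImplicit false
universe u
open CategoryTheory CategoryTheory.Limits AlgebraicGeometry

namespace Groth.Agent.H27.ABU_KER

/-- a section restricts to zero on `D(f)` iff it is killed by a power of `f`. -/
theorem res_eq_zero_iff {W : Scheme.{u}} (U : W.affineOpens) (f a : Γ(W, U.1))
    (O : W.Opens) (hO : O = W.basicOpen f) (hle : O ≤ U.1) :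
    (W.presheaf.map (homOfLE hle).op).hom a = 0 ↔ ∃ n : ℕ, f ^ n * a = 0 := by
  subst hO
  constructor
  · intro H
    exact exists_pow_mul_eq_zero_of_res_basicOpen_eq_zero_of_isAffineOpen W U.2 a f H
  · rintro ⟨n, hn⟩
    have h1 := congrArg (W.presheaf.map (homOfLE hle).op).hom hn
    rw [map_mul, map_pow, map_zero] at h1
    have hu : IsUnit ((W.presheaf.map (homOfLE hle).op).hom f) :=
      W.toRingedSpace.isUnit_res_basicOpen f
    exact (hu.pow n).mul_right_eq_zero.mp h1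

/-- (KER) -/
theorem KER {W : Scheme.{u}} (𝓙 : W.IdealSheafData) (h : HTop.IsLocPrincipal 𝓙)
    (U : W.affineOpens) (f : Γ(W, U.1)) (hf : 𝓙.ideal U = Ideal.span {f}) (a : Γ(W, U.1)) :
    a ∈ (HTop.supportedOn 𝓙).ideal U ↔ ∃ n : ℕ, f ^ n * a = 0 := by
  have := Groth.Agent.H27.ABU_QC.QC 𝓙 h
  unfold HTop.supportedOn
  rw [Scheme.Hom.ker_apply, RingHom.mem_ker, Scheme.Opens.ι_app]
  refine res_eq_zero_iff U f a _ ?_ _
  rw [Groth.Agent.H27.ABU_QC.image_preimage_ι, Groth.Agent.H27.ABU_AW.AW 𝓙 U f hf]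

end Groth.Agent.H27.ABU_KER
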