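import Mathlib
import Groth.Prelude.Def_LocRes
import Groth.Prelude.Def_W4bk4goldsch23Ext
import Groth.Agent.H55.FFGeom

/-!
Chain rule for differentials read through Laurent expansions, and the local computation of the
different exponent.
-/

set_option autoImplicit false

namespace Groth.Agent.H27.DiffExp

open FunFld WithZero LaurentSeries

section Series

variable {F : Type*} [Field F]

/-- The derivative of a Laurent series of order `e`: order at least `e - 1`, with equality iff
`e ≠ 0` in `F`. -/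
theorem valued_D_of_val {f : LaurentSeries F} {e : ℤ} (hf : Valued.v f = exp (-e)) :
    Valued.v (LocRes.D F f) ≤ exp (-(e - 1)) ∧
    ((e : F) ≠ 0 → Valued.v (LocRes.D F f) = exp (-(e - 1))) ∧
    ((e : F) = 0 → Valued.v (LocRes.D F f) ≤ exp (-e)) := by
  have h1 : ∀ n : ℤ, n < e → f.coeff n = 0 :=
    (LaurentSeries.valuation_le_iff_coeff_lt_eq_zero F).1 hf.le
  have h2 : f.coeff e ≠ 0 := by
    intro h0
    have : Valued.v f ≤ exp (-(e + 1)) :=
      (LaurentSeries.valuation_le_iff_coeff_lt_eq_zero F).2 (fun n hn => by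
        rcases lt_or_eq_of_le (show n ≤ e by omega) with h | h
        · exact h1 n h
        · rw [h]; exact h0)
    rw [hf, exp_le_exp] at this
    omega
  have h3 : Valued.v (LocRes.D F f) ≤ exp (-(e - 1)) :=
    (LaurentSeries.valuation_le_iff_coeff_lt_eq_zero F).2 (fun n hn => by
      rw [LocRes.D_coeff, h1 (n + 1) (by omega), smul_zero])
  have hc : (LocRes.D F f).coeff (e - 1) = (e : F) * f.coeff e := by
    rw [LocRes.D_coeff, sub_add_cancel, zsmul_eq_mul]
  refine ⟨h3, fun he => ?_, fun he => ?_⟩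
  · refine le_antisymm h3 ?_
    by_contra hlt
    push Not at hlt
    have h4 : Valued.v (LocRes.D F f) ≤ exp (-(e - 1) - 1) :=
      (Groth.Agent.H55.zm0_lt_exp_iff _ _).1 hlt
    have h5 := (LaurentSeries.valuation_le_iff_coeff_lt_eq_zero F).1
      (h4.trans_eq (by congr 1; ring : exp (-(e - 1) - 1) = exp (-e))) (e - 1) (by omega)
    rw [hc] at h5
    exact mul_ne_zero he h2 h5
  · refine (LaurentSeries.valuation_le_iff_coeff_lt_eq_zero F).2 (fun n hn => ?_)
    rcases lt_or_eq_of_le (show n ≤ e - 1 by omega) with h | h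
    · rw [LocRes.D_coeff, h1 (n + 1) (by omega), smul_zero]
    · rw [h, hc, he, zero_mul]

end Series

section Chain

variable {k K F : Type*} [Field k] [Field K] [Field F] [Algebra k K] [Algebra k F]

/-- The expansion derivative factors through Kähler differentials: a relation `dx = g dt` in
`Ω[K/k]` gives `(φ x)' = φ g · (φ t)'`. -/
theorem chain_rule (φ : K →ₐ[k] LaurentSeries F) (x t g : K)
    (h : KaehlerDifferential.D k K x = g • KaehlerDifferential.D k K t) :
    LocRes.D F (φ x) = φ g * LocRes.D F (φ t) := by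
  letI := φ.toRingHom.toAlgebra
  haveI : IsScalarTower k K (LaurentSeries F) := LocRes.isScalarTower_exp φ
  have h1 := congrArg (LocRes.dExp φ).liftKaehlerDifferential h
  rw [map_smul, Derivation.liftKaehlerDifferential_comp_D,
    Derivation.liftKaehlerDifferential_comp_D] at h1
  exact h1

theorem D_ne_zero_of_expansion (φ : K →ₐ[k] LaurentSeries F) (t : K)
    (h : LocRes.D F (φ t) ≠ 0) : KaehlerDifferential.D k K t ≠ 0 := by
  intro h0
  apply h
  have := chain_rule φ t t 0 (by rw [h0, smul_zero])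
  rw [this, map_zero, zero_mul]

end Chain

section Main

universe u v w

variable {k : Type u} {K K' : Type v} [Field k] [Field K] [Field K'] [Algebra k K] [Algebra K K']
  [Algebra k K'] [IsScalarTower k K K']
  {F F' : Type w} [Field F] [Algebra k F] [Field F'] [Algebra k F']

/-- The different exponent computed on `dx` equals the order of `dt` above, for a local parameter
`t` below. -/
theorem diffExp_eq (hK : FunFld.IsFunctionField k K) (hg : FunFld.IsGeometric k K)
    (P : FunFld.Place k K) (Q : FunFld.Place k K') (e : ℕ) (he : FunFld.IsOverWith Q P e)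
    (φ : K →ₐ[k] LaurentSeries F) (hφ : LocRes.IsExpansionAt P.1 φ)
    (ψ : K' →ₐ[k] LaurentSeries F') (hψ : LocRes.IsExpansionAt Q.1 ψ)
    (t : K) (ht : P.1 t = exp (-1 : ℤ))
    (x : K) (hx : LocRes.vDiff φ 1 x ≠ 0) (hx' : LocRes.vDiff ψ 1 (algebraMap K K' x) ≠ 0) :
    LocRes.diffExp φ ψ e x = LocRes.ordDiff ψ 1 (algebraMap K K' t) ∧
      LocRes.vDiff ψ 1 (algebraMap K K' t) ≠ 0 := by
  have hφt : Valued.v (φ t) = exp (-((1 : ℕ) : ℤ)) := by
    rw [hφ.1 t, ht]
    rfl
  have hDt : Valued.v (LocRes.D F (φ t)) = 1 := by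
    have := (valued_D_of_val hφt).2.1 (by simp)
    rw [this]
    simp
  have hDt0 : LocRes.D F (φ t) ≠ 0 := by
    intro h0
    rw [h0, map_zero] at hDt
    exact zero_ne_one hDt
  have hdt : KaehlerDifferential.D k K t ≠ 0 := D_ne_zero_of_expansion φ t hDt0
  have hfr := Groth.Agent.H55.finrank_kaehler hK hg
  obtain ⟨g, hgx⟩ := (finrank_eq_one_iff_of_nonzero' _ hdt).1 hfr (KaehlerDifferential.D k K x)
  have hc1 := chain_rule φ x t g hgx.symm
  have hc2 := chain_rule (ψ.comp (IsScalarTower.toAlgHom k K K')) x t g hgx.symm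
  simp only [AlgHom.comp_apply, IsScalarTower.coe_toAlgHom'] at hc2
  have hv1 : LocRes.vDiff φ 1 x = P.1 g := by
    unfold LocRes.vDiff
    rw [map_one, one_mul, hc1, map_mul, hDt, mul_one, hφ.1]
  have hv2 : LocRes.vDiff ψ 1 (algebraMap K K' x) =
      P.1 g ^ e * LocRes.vDiff ψ 1 (algebraMap K K' t) := by
    unfold LocRes.vDiff
    rw [map_one, one_mul, one_mul, hc2, map_mul, hψ.1, he g]
  have hg0 : P.1 g ≠ 0 := by
    rw [← hv1]
    exact hx
  have ht0 : LocRes.vDiff ψ 1 (algebraMap K K' t) ≠ 0 := by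
    intro h0
    rw [hv2, h0, mul_zero] at hx'
    exact hx' rfl
  refine ⟨?_, ht0⟩
  unfold LocRes.diffExp LocRes.ordDiff
  rw [hv2, hv1, log_mul (pow_ne_zero _ hg0) ht0, log_pow, nsmul_eq_mul]
  ring

end Main

end Groth.Agent.H27.DiffExp
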