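import Groth.Agent.H55.FFSing
import Groth.Agent.H55.FFDeg

/-!
The divisor of a tuple containing the entry `1`, and its behaviour under a projective change of
coordinates (no linear independence needed).
-/

set_option autoImplicit false

namespace Groth.Agent.H27.MapDivOne

open FunFld WithZero Groth.Agent.H55

variable {k K : Type*} [Field k] [Field K] [Algebra k K]

section General

variable {ι : Type*} [Fintype ι] [Nonempty ι]

theorem val_le_and_exists (hK : IsFunctionField k K) (w : ι → K) (j : ι) (hj : w j = 1)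
    (Q : Place k K) :
    (∀ i, Q.1 (w i) ≤ exp (mapDiv k w Q)) ∧ ∃ i, Q.1 (w i) = exp (mapDiv k w Q) := by
  rw [mapDiv_apply hK]
  constructor
  · intro i
    by_cases hi : w i = 0
    · rw [hi, map_zero]
      exact zero_le'
    · rw [pl_val_eq_exp_neg_ord Q hi, exp_le_exp, neg_le_neg_iff]
      exact Finset.inf'_le _ (Finset.mem_univ i)
  · obtain ⟨i₀, -, hi₀⟩ := Finset.exists_mem_eq_inf' Finset.univ_nonempty
      (fun i => Q.ord (w i))
    by_cases hi : w i₀ = 0
    · refine ⟨j, ?_⟩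
      rw [hi₀, hi, pl_ord_zero, hj, map_one, neg_zero, exp_zero]
    · refine ⟨i₀, ?_⟩
      rw [hi₀, pl_val_eq_exp_neg_ord Q hi]

theorem mapDiv_eq_of_val (hK : IsFunctionField k K) (w : ι → K) (j : ι) (hj : w j = 1)
    (Q : Place k K) (m : ℤ) (h1 : ∀ i, Q.1 (w i) ≤ exp m) (h2 : ∃ i, Q.1 (w i) = exp m) :
    mapDiv k w Q = m := by
  obtain ⟨h3, i₁, h4⟩ := val_le_and_exists hK w j hj Q
  obtain ⟨i₂, h5⟩ := h2
  apply le_antisymm
  · have := h1 i₁
    rw [h4, exp_le_exp] at this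
    exact this
  · have := h3 i₂
    rw [h5, exp_le_exp] at this
    exact this

end General

section Three

theorem inv_relation (A : Matrix (Fin 3) (Fin 3) k) (hA : A.det ≠ 0) (u v : Fin 3 → K)
    (hu : ∀ i, ∑ j, algebraMap k K (A i j) * u j = v i) (i : Fin 3) :
    ∑ j, algebraMap k K (A⁻¹ i j) * v j = u i := by
  have hBA : A⁻¹ * A = 1 := Matrix.nonsing_inv_mul A (Ne.isUnit hA)
  calc ∑ j, algebraMap k K (A⁻¹ i j) * v j
      = ∑ j, algebraMap k K (A⁻¹ i j) * ∑ l, algebraMap k K (A j l) * u l := by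
        refine Finset.sum_congr rfl (fun j _ => ?_)
        rw [hu j]
    _ = ∑ l, (∑ j, algebraMap k K (A⁻¹ i j * A j l)) * u l := by
        simp_rw [Finset.mul_sum, Finset.sum_mul]
        rw [Finset.sum_comm]
        refine Finset.sum_congr rfl (fun l _ => Finset.sum_congr rfl (fun j _ => ?_))
        rw [map_mul]
        ring
    _ = ∑ l, algebraMap k K ((1 : Matrix (Fin 3) (Fin 3) k) i l) * u l := by
        refine Finset.sum_congr rfl (fun l _ => ?_)
        rw [← map_sum, ← hBA, Matrix.mul_apply]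
    _ = u i := by
        simp [Matrix.one_apply]

theorem val_lincomb_le (Q : Place k K) (B : Matrix (Fin 3) (Fin 3) k) (u : Fin 3 → K)
    (γ : WithZero (Multiplicative ℤ)) (h : ∀ j, Q.1 (u j) ≤ γ) (i : Fin 3) :
    Q.1 (∑ j, algebraMap k K (B i j) * u j) ≤ γ := by
  apply Valuation.map_sum_le
  intro j _
  rw [map_mul]
  calc Q.1 (algebraMap k K (B i j)) * Q.1 (u j) ≤ 1 * γ := mul_le_mul' (Q.2.1 _) (h j)
    _ = γ := one_mul _

/-- Projective change of coordinates: `[1 : u₁/u₀ : u₂/u₀]` against `[1 : x : y] = A u`. -/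
theorem mapDiv_coord_change (hK : IsFunctionField k K) (A : Matrix (Fin 3) (Fin 3) k)
    (hA : A.det ≠ 0) (x y : K) (u : Fin 3 → K)
    (hu : ∀ i, ∑ j, algebraMap k K (A i j) * u j = ![(1 : K), x, y] i) (hu0 : u 0 ≠ 0)
    (Q : Place k K) :
    mapDiv k ![(1 : K), u 1 / u 0, u 2 / u 0] Q = mapDiv k ![(1 : K), x, y] Q + Q.ord (u 0) := by
  obtain ⟨v, hv⟩ : ∃ v : Fin 3 → K, v = ![(1 : K), x, y] := ⟨_, rfl⟩
  rw [← hv] at hu ⊢
  have hv0 : v 0 = 1 := by rw [hv]; rfl
  obtain ⟨m, hm⟩ : ∃ m : ℤ, m = mapDiv k v Q := ⟨_, rfl⟩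
  rw [← hm]
  obtain ⟨h1, i₀, h2⟩ := val_le_and_exists hK v 0 hv0 Q
  rw [← hm] at h1 h2
  have hinv := inv_relation A hA u v hu
  have hule : ∀ i, Q.1 (u i) ≤ exp m := by
    intro i
    rw [← hinv i]
    exact val_lincomb_le Q A⁻¹ v _ h1 i
  have huex : ∃ i, Q.1 (u i) = exp m := by
    by_contra hcon
    push Not at hcon
    have hlt : ∀ i, Q.1 (u i) ≤ exp (m - 1) := by
      intro i
      have h3 := lt_of_le_of_ne (hule i) (hcon i)
      by_cases hi : u i = 0
      · rw [hi, map_zero]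
        exact zero_le'
      · rw [pl_val_eq_exp_neg_ord Q hi] at h3 ⊢
        rw [exp_lt_exp] at h3
        rw [exp_le_exp]
        omega
    have := val_lincomb_le Q A u _ hlt i₀
    rw [hu i₀, h2, exp_le_exp] at this
    omega
  have hw : ∀ i, ![(1 : K), u 1 / u 0, u 2 / u 0] i = u i / u 0 := by
    intro i
    fin_cases i
    · simp [hu0]
    · rfl
    · rfl
  have hQu0 : Q.1 (u 0) = exp (-(Q.ord (u 0))) := pl_val_eq_exp_neg_ord Q hu0
  have hdiv : ∀ i, Q.1 (u i / u 0) = Q.1 (u i) * exp (Q.ord (u 0)) := by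
    intro i
    rw [map_div₀, hQu0, div_eq_mul_inv, ← exp_neg, neg_neg]
  apply mapDiv_eq_of_val hK _ 0 rfl Q
  · intro i
    rw [hw i, hdiv i, exp_add]
    exact mul_le_mul' (hule i) le_rfl
  · obtain ⟨i, hi⟩ := huex
    exact ⟨i, by rw [hw i, hdiv i, hi, exp_add]⟩

theorem mapDiv_coord_change_eq (hK : IsFunctionField k K) (A : Matrix (Fin 3) (Fin 3) k)
    (hA : A.det ≠ 0) (x y : K) (u : Fin 3 → K)
    (hu : ∀ i, ∑ j, algebraMap k K (A i j) * u j = ![(1 : K), x, y] i) (hu0 : u 0 ≠ 0) :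
    mapDiv k ![(1 : K), u 1 / u 0, u 2 / u 0] = mapDiv k ![(1 : K), x, y] + FunFld.div k (u 0) := by
  ext Q
  rw [Finsupp.add_apply, div_apply hK, mapDiv_coord_change hK A hA x y u hu hu0 Q]

end Three

end Groth.Agent.H27.MapDivOne
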