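import Groth.Agent.H27.Generic

/-!
Divisors of differentials `u dx` for a separating `x` (one with `dx ≠ 0`), over an algebraically
closed constant field: finite support and pointwise formula.
-/

set_option autoImplicit false

namespace Groth.Agent.H27.DivDiff

open FunFld WithZero Polynomial IntermediateField Groth.Agent.H55 Groth.Agent.H27.Expn
open Groth.Agent.H27.Sep Groth.Agent.H27.Generic Groth.Agent.H27.DiffExp

variable {k K : Type*} [Field k] [IsAlgClosed k] [Field K] [Algebra k K]

theorem transcendental_of_D_ne_zero (hK : IsFunctionField k K) {s : K}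
    (hds : KaehlerDifferential.D k K s ≠ 0) : Transcendental k s := by
  intro halg
  obtain ⟨c, rfl⟩ := hK.2 s halg
  exact hds (Derivation.map_algebraMap _ c)

theorem finite_not_param' (hK : IsFunctionField k K) {s : K}
    (hds : KaehlerDifferential.D k K s ≠ 0) :
    {Q : Place k K | ¬ (Q.1 s ≤ 1 ∧
      Q.1 (s - algebraMap k K (cst Q s)) = exp (-1 : ℤ))}.Finite := by
  have hg := Groth.Agent.S11000.result k K hK
  have hfr := finrank_kaehler hK hg
  have hstr : Transcendental k s := transcendental_of_D_ne_zero hK hds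
  haveI := isSeparable_of_D_ne_zero hK hfr hds
  haveI := ff_finite hK hstr
  have hFF1 : G.IsFF1 k k⟮s⟯ := G.isFF1_of_isFunctionField
    (Groth.Agent.S11005.result k K hK hg k⟮s⟯ ⟨s, mem_adjoin_simple_self k s, hstr⟩).1
  have h1 := finite_ramified (k := k) (K := k⟮s⟯) (K' := K) hFF1
  have h2 := poles_finite hK s
  refine (h1.union h2).subset ?_
  intro Q hQ
  by_contra hcon
  simp only [Set.mem_union, Set.mem_setOf_eq, not_or, not_not, not_lt] at hcon
  exact hQ ⟨hcon.2, val_sub_eq_of_unramified Q hstr (cst_spec Q hK hcon.2) hcon.1⟩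

theorem finite_support_ordDiff' (hK : IsFunctionField k K) {s : K}
    (hds : KaehlerDifferential.D k K s ≠ 0) (Φ : Place k K → (K →ₐ[k] LaurentSeries k))
    (hΦ : ∀ P : Place k K, LocRes.IsExpansionAt P.1 (Φ P)) :
    (Function.support fun Q : Place k K => LocRes.ordDiff (Φ Q) 1 s).Finite :=
  (finite_not_param' hK hds).subset (fun Q hQ hgood =>
    hQ (ordDiff_eq_zero_of_param Φ Q (hΦ Q) hgood.2))

/-- The expansion of a separating element has nonzero derivative. -/
theorem D_expansion_ne_zero (hK : IsFunctionField k K) {s : K}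
    (hds : KaehlerDifferential.D k K s ≠ 0) (φ : K →ₐ[k] LaurentSeries k) (Q : Place k K)
    (hφ : LocRes.IsExpansionAt Q.1 φ) : LocRes.D k (φ s) ≠ 0 := by
  have hg := Groth.Agent.S11000.result k K hK
  have hfr := finrank_kaehler hK hg
  obtain ⟨t, ht⟩ := hφ.2.2
  obtain ⟨g, hg'⟩ := (finrank_eq_one_iff_of_nonzero' _ hds).1 hfr (KaehlerDifferential.D k K t)
  have hc := chain_rule φ t s g hg'.symm
  have hDt : Valued.v (LocRes.D k (φ t)) = 1 :=
    Groth.Agent.H27.WDiv.valued_D_eq_one (by rw [hφ.1, ht])
  intro h0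
  rw [h0, mul_zero] at hc
  rw [hc, map_zero] at hDt
  exact zero_ne_one hDt

theorem ordDiff_smul (hK : IsFunctionField k K) {s : K}
    (hds : KaehlerDifferential.D k K s ≠ 0) (φ : K →ₐ[k] LaurentSeries k) (Q : Place k K)
    (hφ : LocRes.IsExpansionAt Q.1 φ) {u : K} (hu : u ≠ 0) :
    LocRes.ordDiff φ u s = Q.ord u + LocRes.ordDiff φ 1 s := by
  have h1 := D_expansion_ne_zero hK hds φ Q hφ
  unfold LocRes.ordDiff LocRes.vDiff Place.ord
  rw [map_one, one_mul, map_mul, hφ.1, log_mul ((Valuation.ne_zero_iff _).2 hu)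
    ((Valuation.ne_zero_iff _).2 h1)]
  ring

theorem divDiff_apply' (hK : IsFunctionField k K) {s : K}
    (hds : KaehlerDifferential.D k K s ≠ 0) (Φ : Place k K → (K →ₐ[k] LaurentSeries k))
    (hΦ : ∀ P : Place k K, LocRes.IsExpansionAt P.1 (Φ P)) {u : K} (hu : u ≠ 0) (Q : Place k K) :
    divDiff Φ u s Q = Q.ord u + LocRes.ordDiff (Φ Q) 1 s := by
  have hfin : (Function.support fun P : Place k K => LocRes.ordDiff (Φ P) u s).Finite := by
    refine ((ord_support_finite hK u).union (finite_support_ordDiff' hK hds Φ hΦ)).subset ?_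
    intro P hP
    by_contra hcon
    simp only [Set.mem_union, Function.mem_support, not_or, not_not] at hcon
    apply hP
    show LocRes.ordDiff (Φ P) u s = 0
    rw [ordDiff_smul hK hds (Φ P) P (hΦ P) hu, hcon.1, hcon.2, add_zero]
  unfold divDiff
  rw [dif_pos hfin]
  exact ordDiff_smul hK hds (Φ Q) Q (hΦ Q) hu

/-- Pointwise formula for a divisor of a differential whose order function is known. -/
theorem divDiff_apply_of_eq (Φ : Place k K → (K →ₐ[k] LaurentSeries k)) (u v : K)
    (D : Divisor k K) (h : ∀ Q, LocRes.ordDiff (Φ Q) u v = D Q) (Q : Place k K) :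
    divDiff Φ u v Q = D Q := by
  have hfin : (Function.support fun P : Place k K => LocRes.ordDiff (Φ P) u v).Finite := by
    refine D.finite_support.subset ?_
    intro P hP
    simp only [Function.mem_support, ne_eq] at hP
    rw [h P] at hP
    simpa using hP
  unfold divDiff
  rw [dif_pos hfin]
  exact h Q

end Groth.Agent.H27.DivDiff
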