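import Groth.Prelude.Def_W4bk4goldsch45p2
import Mathlib.LinearAlgebra.Vandermonde
import Mathlib.RingTheory.Polynomial.Pochhammer

/-! Determinants of binomial matrices `(J r choose s)` and `(J r choose s+1)` over a field,
via the descending Pochhammer basis and the Vandermonde determinant. -/

set_option autoImplicit false

namespace Groth.Agent.H27.BinomDet

open FunFld Polynomial

variable (k : Type*) [Field k]

theorem det_desc {n : ℕ} (v : Fin n → ℕ) (hv : Function.Injective fun r => ((v r : ℕ) : k)) :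
    (Matrix.of fun (r s : Fin n) => (((v r).descFactorial (s : ℕ) : ℕ) : k)).det ≠ 0 := by
  have h1 := Matrix.det_eval_matrixOfPolynomials_eq_det_vandermonde (fun r => ((v r : ℕ) : k))
    (fun s : Fin n => descPochhammer k (s : ℕ)) (fun s => descPochhammer_natDegree k _)
    (fun s => monic_descPochhammer k _)
  have h2 : (Matrix.of fun (r s : Fin n) => (((v r).descFactorial (s : ℕ) : ℕ) : k)) =
      Matrix.of (fun (i j : Fin n) => ((descPochhammer k (j : ℕ)).eval ((v i : ℕ) : k))) := by
    ext r s
    simp only [Matrix.of_apply]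
    rw [descPochhammer_eval_eq_descFactorial]
  rw [h2, ← h1]
  exact Matrix.det_vandermonde_ne_zero_iff.2 hv

/-- `det (J r choose s) ≠ 0` when the `J r` are distinct in `k`. -/
theorem det_binomMat_id {n : ℕ} (J : Fin n → ℕ) (hJ : Function.Injective fun r => ((J r : ℕ) : k)) :
    (binomMat k J (fun l : Fin n => (l : ℕ))).det ≠ 0 := by
  have h1 := det_desc k J hJ
  have h2 : (Matrix.of fun (r s : Fin n) => (((J r).descFactorial (s : ℕ) : ℕ) : k)) =
      binomMat k J (fun l : Fin n => (l : ℕ)) *
        Matrix.diagonal (fun s : Fin n => (((s : ℕ).factorial : ℕ) : k)) := by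
    ext r s
    rw [Matrix.mul_diagonal]
    simp only [Matrix.of_apply, binomMat]
    rw [Nat.descFactorial_eq_factorial_mul_choose, Nat.cast_mul, mul_comm]
  rw [h2, Matrix.det_mul] at h1
  exact left_ne_zero_of_mul h1

/-- `det (J r choose s+1) ≠ 0` when the `J r` are nonzero in `k` and the `J r - 1` are distinct
in `k`. -/
theorem det_binomMat_succ {n : ℕ} (J : Fin n → ℕ) (hJ0 : ∀ r, ((J r : ℕ) : k) ≠ 0)
    (hJ : Function.Injective fun r => (((J r - 1 : ℕ) : ℕ) : k)) :
    (binomMat k J (fun l : Fin n => (l : ℕ) + 1)).det ≠ 0 := by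
  have h1 := det_desc k (fun r => J r - 1) hJ
  have hpos : ∀ r, J r = (J r - 1) + 1 := by
    intro r
    have : J r ≠ 0 := by
      intro h
      apply hJ0 r
      rw [h, Nat.cast_zero]
    omega
  have h2 : Matrix.diagonal (fun r : Fin n => ((J r : ℕ) : k)) *
      (Matrix.of fun (r s : Fin n) => (((J r - 1).descFactorial (s : ℕ) : ℕ) : k)) =
      binomMat k J (fun l : Fin n => (l : ℕ) + 1) *
        Matrix.diagonal (fun s : Fin n => ((((s : ℕ) + 1).factorial : ℕ) : k)) := by
    ext r s
    rw [Matrix.mul_diagonal, Matrix.diagonal_mul]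
    simp only [Matrix.of_apply, binomMat]
    rw [← Nat.cast_mul, ← Nat.cast_mul]
    congr 1
    conv_rhs => rw [mul_comm, ← Nat.descFactorial_eq_factorial_mul_choose, hpos r,
      Nat.succ_descFactorial_succ]
    rw [← hpos r]
  have h3 : (Matrix.diagonal (fun r : Fin n => ((J r : ℕ) : k)) *
      (Matrix.of fun (r s : Fin n) => (((J r - 1).descFactorial (s : ℕ) : ℕ) : k))).det ≠ 0 := by
    rw [Matrix.det_mul, Matrix.det_diagonal]
    exact mul_ne_zero (Finset.prod_ne_zero_iff.2 (fun r _ => hJ0 r)) h1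
  rw [h2, Matrix.det_mul] at h3
  exact left_ne_zero_of_mul h3

/-- Casts of naturals bounded by `d` are injective into `k` when `char k = 0` or `char k > d`. -/
theorem cast_inj_of_le {d : ℤ} (hchar : ringChar k = 0 ∨ d < ringChar k) {a b : ℕ}
    (ha : (a : ℤ) ≤ d) (hb : (b : ℤ) ≤ d) (h : (a : k) = (b : k)) : a = b := by
  rcases hchar with h0 | hp
  · haveI : CharZero k := (CharP.ringChar_zero_iff_CharZero k).1 h0
    exact Nat.cast_injective h
  · have h1 := (CharP.natCast_eq_natCast k (ringChar k)).1 h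
    exact Nat.ModEq.eq_of_lt_of_lt h1 (by omega) (by omega)

theorem cast_ne_zero_of_le {d : ℤ} (hchar : ringChar k = 0 ∨ d < ringChar k) {a : ℕ}
    (ha : (a : ℤ) ≤ d) (h0 : a ≠ 0) : (a : k) ≠ 0 := by
  intro h
  apply h0
  have hd : (0 : ℤ) ≤ d := le_trans (by positivity) ha
  exact cast_inj_of_le k hchar ha (by simpa using hd) (by simpa using h)

end Groth.Agent.H27.BinomDet
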