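import Mathlib
import Groth.Prelude.Def_Cyc
import Groth.Prelude.Def_C1
import Groth.Agent.H95.AssGen
import Groth.Agent.H9.ClosedImmStalk
set_option autoImplicit false
universe u
open CategoryTheory CategoryTheory.Limits AlgebraicGeometry TopologicalSpace Opposite
open Groth.Agent.H95.AssGen (GenAt)

namespace Groth.Agent.H27.CMP_CC

/-- (CC) transport-free second half of `IsZeroSchemeOf`. -/
theorem ideal_map_germ_eq_span {X D' : Scheme.{u}} {L' : X.Modules}
    (s' : L'.presheaf.obj (Opposite.op ⊤)) (i' : D' ⟶ X) [IsClosedImmersion i']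
    (hD' : Cyc.IsZeroSchemeOf i' L' s') (d' : D') (x : X) (hx : i' d' = x) (U : X.affineOpens)
    (hxU : x ∈ U.1) (t : L'.presheaf.stalk x) (ht : GenAt L' t)
    (hinj : ∀ c : X.presheaf.stalk x, c • t = 0 → c = 0) (B : X.presheaf.stalk x)
    (hB : L'.presheaf.germ ⊤ x trivial s' = B • t) :
    (i'.ker.ideal U).map (X.presheaf.germ U.1 x hxU).hom = Ideal.span {B} := by
  subst hx
  obtain ⟨t0, f0, ht0, hs0, hker⟩ := hD'.2 d'
  rw [← Groth.Agent.H9.ker_stalkMap_of_isClosedImmersion i' U d' hxU, hker]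
  obtain ⟨r, hr⟩ := ht t0
  have ht_mem : t ∈ Submodule.span (X.presheaf.stalk (i' d')) {t0} := by
    rw [ht0]; exact Submodule.mem_top
  obtain ⟨r', hr'⟩ := Submodule.mem_span_singleton.mp ht_mem
  -- r' * r = 1
  have h1 : r' * r = 1 := by
    have : (r' * r - 1) • t = 0 := by
      rw [sub_smul, mul_smul, ← hr, hr', one_smul, sub_self]
    exact sub_eq_zero.mp (hinj _ this)
  have hru : IsUnit r := IsUnit.of_mul_eq_one r' (by rw [mul_comm]; exact h1)
  have hBf : B = f0 * r := by
    have : (B - f0 * r) • t = 0 := by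
      rw [sub_smul, mul_smul, ← hr, ← hB, hs0, sub_self]
    exact sub_eq_zero.mp (hinj _ this)
  rw [hBf]
  exact (Ideal.span_singleton_mul_right_unit hru f0).symm

end Groth.Agent.H27.CMP_CC
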