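import Mathlib
import Groth.Prelude.Def_W4bk4goldsch45p2
import Groth.Agent.H55.FFRR
import Groth.Agent.H55.FFCons2

/-!
Orders of functions in `L(C)` (`C` canonical) at a place versus Weierstrass gaps.
-/

set_option autoImplicit false

namespace Groth.Agent.H27.CanGap

open FunFld WithZero Groth.Agent.H55

variable {k K : Type*} [Field k] [Field K] [Algebra k K]

theorem sub_single_apply_self (C : Divisor k K) (P : Place k K) (a : ℤ) :
    (C - Finsupp.single P a) P = C P - a := by
  classical
  rw [Finsupp.sub_apply, Finsupp.single_eq_same]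

theorem sub_single_apply_ne (C : Divisor k K) (P : Place k K) (a : ℤ) {Q : Place k K}
    (hQ : Q ≠ P) : (C - Finsupp.single P a) Q = C Q := by
  classical
  rw [Finsupp.sub_apply, Finsupp.single_eq_of_ne hQ, sub_zero]

theorem sub_single_mono (C : Divisor k K) (P : Place k K) {a b : ℤ} (h : a ≤ b) :
    C - Finsupp.single P b ≤ C - Finsupp.single P a :=
  sub_le_sub_left (single_mono P h) C

theorem sub_single_le (C : Divisor k K) (P : Place k K) {a : ℤ} (h : 0 ≤ a) :
    C - Finsupp.single P a ≤ C := by
  have := sub_single_mono C P h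
  simpa using this

/-- A function of `L(C)` of exact order `a - C(P)` at `P` exists iff `L(C - (a+1)P) ≠ L(C - aP)`. -/
theorem exists_val_eq_iff (C : Divisor k K) (P : Place k K) {a : ℤ} (ha : 0 ≤ a) :
    (∃ g ∈ L C, P.1 g = exp (C P - a)) ↔
      L (C - Finsupp.single P (a + 1)) ≠ L (C - Finsupp.single P a) := by
  constructor
  · rintro ⟨g, hg, hgv⟩ heq
    have h1 : g ∈ L (C - Finsupp.single P a) := by
      intro Q
      by_cases hQ : Q = P
      · subst hQ
        rw [sub_single_apply_self, hgv]
      · rw [sub_single_apply_ne C P a hQ]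
        exact hg Q
    rw [← heq] at h1
    have h2 := h1 P
    rw [sub_single_apply_self, hgv, exp_le_exp] at h2
    omega
  · intro hne
    have hlt : L (C - Finsupp.single P (a + 1)) < L (C - Finsupp.single P a) :=
      lt_of_le_of_ne (L_mono (sub_single_mono C P (by omega))) hne
    obtain ⟨g, hg, hgn⟩ := SetLike.exists_of_lt hlt
    refine ⟨g, L_mono (sub_single_le C P ha) hg, ?_⟩
    have h1 := hg P
    rw [sub_single_apply_self] at h1
    refine le_antisymm h1 ?_
    by_contra hlt'
    push Not at hlt'
    apply hgn
    intro Q
    by_cases hQ : Q = P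
    · subst hQ
      rw [sub_single_apply_self]
      have := (zm0_lt_exp_iff _ _).1 hlt'
      refine this.trans_eq ?_
      congr 1
      ring
    · rw [sub_single_apply_ne C P (a + 1) hQ]
      have := hg Q
      rwa [sub_single_apply_ne C P a hQ] at this

variable [IsAlgClosed k]

/-- Riemann–Roch, difference form at a place of degree one. -/
theorem ell_succ_sub (hK : FunFld.IsFunctionField k K) {C : Divisor k K}
    (hC : IsCanonical k K C) (P : Place k K) (a : ℤ) :
    (ell (Finsupp.single P (a + 1) : Divisor k K) : ℤ) - ell (Finsupp.single P a : Divisor k K) =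
      1 + ell (C - Finsupp.single P (a + 1)) - ell (C - Finsupp.single P a) := by
  have h1 := riemann_roch hK hC (Finsupp.single P (a + 1))
  have h2 := riemann_roch hK hC (Finsupp.single P a)
  rw [deg_single, deg_eq_one_of_isAlgClosed hK P] at h1 h2
  push_cast at h1 h2
  omega

/-- Gap criterion through the canonical system. -/
theorem gap_iff (hK : FunFld.IsFunctionField k K) {C : Divisor k K}
    (hC : IsCanonical k K C) (P : Place k K) {a : ℤ} (ha : 0 ≤ a) :
    L (Finsupp.single P (a + 1) : Divisor k K) = L (Finsupp.single P a : Divisor k K) ↔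
      ∃ g ∈ L C, P.1 g = exp (C P - a) := by
  rw [exists_val_eq_iff C P ha]
  have hRR := ell_succ_sub hK hC P a
  have hle1 : (Finsupp.single P a : Divisor k K) ≤ Finsupp.single P (a + 1) :=
    single_mono P (by omega)
  have hle2 := sub_single_mono C P (show a ≤ a + 1 by omega)
  haveI := L_finite hK (Finsupp.single P (a + 1) : Divisor k K)
  haveI := L_finite hK (C - Finsupp.single P a)
  have hsub := ell_sub_le hK hle2
  rw [deg_sub, deg_sub, deg_single, deg_single, deg_eq_one_of_isAlgClosed hK P] at hsub
  push_cast at hsub
  have hmono := ell_mono hK hle2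
  constructor
  · intro h heq
    have e1 : ell (Finsupp.single P (a + 1) : Divisor k K) = ell (Finsupp.single P a : Divisor k K) := by
      unfold ell
      rw [h]
    have e2 : ell (C - Finsupp.single P (a + 1)) = ell (C - Finsupp.single P a) := by
      unfold ell
      rw [heq]
    rw [e1, e2] at hRR
    omega
  · intro hne
    have e2 : ell (C - Finsupp.single P (a + 1)) ≠ ell (C - Finsupp.single P a) := by
      intro e
      exact hne (Submodule.eq_of_le_of_finrank_eq (L_mono hle2) e)
    have e1 : ell (Finsupp.single P a : Divisor k K) = ell (Finsupp.single P (a + 1) : Divisor k K) := by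
      have : (ell (Finsupp.single P a : Divisor k K) : ℤ) =
          ell (Finsupp.single P (a + 1) : Divisor k K) := by
        have h3 : (ell (C - Finsupp.single P (a + 1)) : ℤ) ≠ ell (C - Finsupp.single P a) := by
          exact_mod_cast e2
        have h4 : (ell (C - Finsupp.single P (a + 1)) : ℤ) ≤ ell (C - Finsupp.single P a) := by
          exact_mod_cast hmono
        omega
      exact_mod_cast this
    exact (Submodule.eq_of_le_of_finrank_eq (L_mono hle1) e1).symm

/-- The canonical system has no base points when the genus is positive. -/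
theorem canonical_bpf (hK : FunFld.IsFunctionField k K) {C : Divisor k K}
    (hC : IsCanonical k K C) (hg : 0 < genus k K) (P : Place k K) :
    ∃ g ∈ L C, P.1 g = exp (C P) := by
  have h := (gap_iff hK hC P (le_refl (0 : ℤ))).1
  rw [sub_zero] at h
  apply h
  by_contra hne
  have hle1 : (Finsupp.single P 0 : Divisor k K) ≤ Finsupp.single P (0 + 1) :=
    single_mono P (by omega)
  have hlt : L (Finsupp.single P 0 : Divisor k K) < L (Finsupp.single P (0 + 1) : Divisor k K) :=
    lt_of_le_of_ne (L_mono hle1) (fun e => hne e.symm)
  obtain ⟨f, hf, hfn⟩ := SetLike.exists_of_lt hlt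
  have hf0 : f ≠ 0 := by
    rintro rfl
    exact hfn (Submodule.zero_mem _)
  rw [mem_L_single_iff P hf0] at hf hfn
  have hP : P.ord f = -1 := by
    by_contra h1
    apply hfn
    exact ⟨by omega, hf.2⟩
  have htop := adjoin_eq_top_of_simple_pole hK (deg_eq_one_of_isAlgClosed hK P) hP hf.2
  have := genus_eq_zero_of_adjoin_eq_top hK htop
  omega

end Groth.Agent.H27.CanGap
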