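import Mathlib
import Groth.Prelude.Def_W4bk4goldsch45p2

/-!
Linear algebra of jump indices (`FunFld.IsJump`, `FunFld.IsOrders`) of a sequence of vectors:
spans are generated by jump vectors, jump vectors are independent, invariance under
triangular changes, determinants.
-/

set_option autoImplicit false

namespace Groth.Agent.H27.Jump

open FunFld

section General

variable {K M : Type*} [Field K] [AddCommGroup M] [Module K M]

theorem Iio_succ (m : ℕ) : Set.Iio (m + 1) = insert m (Set.Iio m) := by
  ext j
  simp only [Set.mem_Iio, Set.mem_insert_iff]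
  omega

theorem span_Iio_succ (c : ℕ → M) (m : ℕ) :
    Submodule.span K (c '' Set.Iio (m + 1)) =
      Submodule.span K {c m} ⊔ Submodule.span K (c '' Set.Iio m) := by
  rw [Iio_succ, Set.image_insert_eq, Submodule.span_insert]

theorem span_Iio_mono (c : ℕ → M) {m m' : ℕ} (h : m ≤ m') :
    Submodule.span K (c '' Set.Iio m) ≤ Submodule.span K (c '' Set.Iio m') :=
  Submodule.span_mono (Set.image_mono (Set.Iio_subset_Iio h))

theorem mem_span_Iio (c : ℕ → M) {j m : ℕ} (h : j < m) :
    c j ∈ Submodule.span K (c '' Set.Iio m) :=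
  Submodule.subset_span ⟨j, h, rfl⟩

/-- The span of the first `m` vectors is spanned by the jump vectors among them. -/
theorem span_Iio_eq_span_jumps (c : ℕ → M) (m : ℕ) :
    Submodule.span K (c '' Set.Iio m) =
      Submodule.span K (c '' {j | j < m ∧ IsJump K c j}) := by
  induction m with
  | zero =>
    have h1 : Set.Iio 0 = (∅ : Set ℕ) := by ext; simp
    have h2 : {j | j < 0 ∧ IsJump K c j} = (∅ : Set ℕ) := by ext; simp
    rw [h1, h2]
  | succ m ih =>
    rw [span_Iio_succ]
    by_cases h : IsJump K c m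
    · have h2 : {j | j < m + 1 ∧ IsJump K c j} = insert m {j | j < m ∧ IsJump K c j} := by
        ext j
        constructor
        · rintro ⟨h1, h2⟩
          rcases Nat.lt_succ_iff_lt_or_eq.1 h1 with h3 | h3
          · exact Or.inr ⟨h3, h2⟩
          · exact Or.inl h3
        · rintro (rfl | ⟨h1, h2⟩)
          · exact ⟨Nat.lt_succ_self _, h⟩
          · exact ⟨Nat.lt_succ_of_lt h1, h2⟩
      rw [h2, Set.image_insert_eq, Submodule.span_insert, ih]
    · have h2 : {j | j < m + 1 ∧ IsJump K c j} = {j | j < m ∧ IsJump K c j} := by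
        ext j
        constructor
        · rintro ⟨h1, h2⟩
          rcases Nat.lt_succ_iff_lt_or_eq.1 h1 with h3 | h3
          · exact ⟨h3, h2⟩
          · subst h3; exact absurd h2 h
        · rintro ⟨h1, h2⟩
          exact ⟨Nat.lt_succ_of_lt h1, h2⟩
      have h3 : c m ∈ Submodule.span K (c '' Set.Iio m) := not_not.1 h
      rw [h2, ← ih]
      exact sup_eq_right.2 ((Submodule.span_singleton_le_iff_mem _ _).2 h3)

theorem isJump_zero_iff (c : ℕ → M) : IsJump K c 0 ↔ c 0 ≠ 0 := by
  unfold IsJump
  have h1 : Set.Iio 0 = (∅ : Set ℕ) := by ext; simp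
  rw [h1, Set.image_empty, Submodule.span_empty, Submodule.mem_bot]

/-- Jump vectors are linearly independent. -/
theorem linearIndependent_jumps (c : ℕ → M) : ∀ {r : ℕ} (e : Fin r → ℕ), StrictMono e →
    (∀ i, IsJump K c (e i)) → LinearIndependent K (fun i => c (e i)) := by
  intro r
  induction r with
  | zero => intro e _ _; exact linearIndependent_empty_type
  | succ r ih =>
    intro e he hj
    rw [linearIndependent_finSucc']
    refine ⟨ih (fun i => e i.castSucc)
      (fun a b hab => he (Fin.castSucc_lt_castSucc_iff.2 hab)) (fun i => hj _), ?_⟩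
    intro hmem
    apply hj (Fin.last r)
    refine Submodule.span_mono ?_ hmem
    rintro _ ⟨i, rfl⟩
    exact ⟨e i.castSucc, he (Fin.castSucc_lt_last i), rfl⟩

theorem card_le_of_mem_span {r : ℕ} (v : Fin r → M) (hv : LinearIndependent K v)
    (c : ℕ → M) (T : Finset ℕ) (h : ∀ i, v i ∈ Submodule.span K (c '' (T : Set ℕ))) :
    r ≤ T.card := by
  classical
  have h1 : Submodule.span K (Set.range v) ≤
      Submodule.span K ((T.image c : Finset M) : Set M) := by
    rw [Submodule.span_le]
    rintro _ ⟨i, rfl⟩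
    rw [Finset.coe_image]
    exact h i
  have h2 := Submodule.finrank_mono h1
  rw [finrank_span_eq_card hv, Fintype.card_fin] at h2
  exact h2.trans ((finrank_span_finset_le_card (R := K) (T.image c)).trans Finset.card_image_le)

/-- The column index map of an order sequence: `0 ↦ 0`, `l + 1 ↦ J l + 1`. -/
def eIdx {n : ℕ} (J : Fin n → ℕ) : Fin (n + 1) → ℕ := Fin.cases 0 (fun l => J l + 1)

@[simp] theorem eIdx_zero {n : ℕ} (J : Fin n → ℕ) : eIdx J 0 = 0 := rfl

@[simp] theorem eIdx_succ {n : ℕ} (J : Fin n → ℕ) (l : Fin n) : eIdx J l.succ = J l + 1 := by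
  simp [eIdx]

theorem eIdx_strictMono {n : ℕ} {J : Fin n → ℕ} (hJ : StrictMono J) : StrictMono (eIdx J) := by
  intro a b hab
  induction a using Fin.cases with
  | zero =>
    induction b using Fin.cases with
    | zero => exact absurd hab (lt_irrefl _)
    | succ b => simp
  | succ a =>
    induction b using Fin.cases with
    | zero => exact absurd hab (Fin.not_lt_zero _)
    | succ b =>
      simp only [eIdx_succ]
      have := hJ (Fin.succ_lt_succ_iff.1 hab)
      omega

/-- If the columns at a strictly increasing index sequence `J'` (with the leading column) are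
independent, the order sequence is termwise at most `J'`. -/
theorem orders_le {n : ℕ} {c : ℕ → M} {J : Fin n → ℕ} (hJ : IsOrders K c J) {J' : Fin n → ℕ}
    (hJ' : StrictMono J') (hli : LinearIndependent K (fun x : Fin (n + 1) => c (eIdx J' x))) :
    ∀ l, J l ≤ J' l := by
  classical
  intro l
  by_contra hlt
  push Not at hlt
  let T : Finset ℕ := insert 0 ((Finset.Iio l).image (fun i => J i + 1))
  have hT : T.card ≤ (l : ℕ) + 1 := by
    refine (Finset.card_insert_le _ _).trans ?_
    have := Finset.card_image_le (s := Finset.Iio l) (f := fun i => J i + 1)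
    rw [Fin.card_Iio] at this
    omega
  have hl : (l : ℕ) + 2 ≤ n + 1 := by have := l.2; omega
  let v : Fin ((l : ℕ) + 2) → M := fun i => c (eIdx J' (Fin.castLE hl i))
  have hv : LinearIndependent K v := hli.comp (Fin.castLE hl) (Fin.castLE_injective hl)
  have hmem : ∀ i, v i ∈ Submodule.span K (c '' (T : Set ℕ)) := by
    intro i
    have h1 : eIdx J' (Fin.castLE hl i) < J' l + 2 := by
      have h2 : Fin.castLE hl i ≤ l.succ := by
        rw [Fin.le_def]
        have := i.2
        simp only [Fin.val_castLE, Fin.val_succ]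
        omega
      have h3 := (eIdx_strictMono hJ').monotone h2
      rw [eIdx_succ] at h3
      omega
    have h4 : v i ∈ Submodule.span K (c '' Set.Iio (J' l + 2)) := mem_span_Iio c h1
    rw [span_Iio_eq_span_jumps] at h4
    refine Submodule.span_mono ?_ h4
    rintro _ ⟨j, ⟨hj1, hj2⟩, rfl⟩
    refine ⟨j, ?_, rfl⟩
    cases j with
    | zero => simp [T]
    | succ j' =>
      obtain ⟨i', hi'⟩ := (hJ.2 j').2 hj2
      have h5 : i' < l := by
        rw [← hJ.1.lt_iff_lt, hi']
        omega
      simp only [T, Finset.coe_insert, Finset.coe_image, Set.mem_insert_iff, Set.mem_image,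
        Finset.mem_coe, Finset.mem_Iio]
      exact Or.inr ⟨i', h5, by rw [hi']⟩
  have := card_le_of_mem_span v hv c T hmem
  omega

/-- In a space of dimension `N` spanned by the sequence `c`, the jumps of `c` are enumerated by
a strictly increasing `e : Fin N → ℕ` and the jump vectors are independent. -/
theorem exists_jump_enum {N : ℕ} [FiniteDimensional K M] (hN : Module.finrank K M = N)
    (c : ℕ → M) (hc : Submodule.span K (Set.range c) = ⊤) :
    ∃ e : Fin N → ℕ, StrictMono e ∧ (∀ j, IsJump K c j ↔ j ∈ Set.range e) ∧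
      LinearIndependent K (fun i => c (e i)) := by
  classical
  let f : ℕ →o Submodule K M :=
    ⟨fun m => Submodule.span K (c '' Set.Iio m), fun a b hab => span_Iio_mono c hab⟩
  obtain ⟨m0, hm0⟩ := monotone_stabilizes_iff_noetherian.2 (inferInstance : IsNoetherian K M) f
  have htop : Submodule.span K (c '' Set.Iio m0) = ⊤ := by
    rw [eq_top_iff, ← hc, Submodule.span_le]
    rintro _ ⟨j, rfl⟩
    have h1 : c j ∈ Submodule.span K (c '' Set.Iio (max m0 (j + 1))) :=
      mem_span_Iio c (lt_of_lt_of_le (Nat.lt_succ_self j) (le_max_right _ _))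
    have h2 : Submodule.span K (c '' Set.Iio m0) =
        Submodule.span K (c '' Set.Iio (max m0 (j + 1))) := hm0 (max m0 (j + 1)) (le_max_left _ _)
    rw [SetLike.mem_coe, h2]
    exact h1
  have hlt : ∀ j, IsJump K c j → j < m0 := by
    intro j hj
    by_contra h
    push Not at h
    apply hj
    refine span_Iio_mono c h ?_
    rw [htop]
    exact Submodule.mem_top
  let G : Finset ℕ := (Finset.range m0).filter (fun j => IsJump K c j)
  have hG : ∀ j, j ∈ G ↔ IsJump K c j := by
    intro j
    simp only [G, Finset.mem_filter, Finset.mem_range]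
    exact ⟨fun h => h.2, fun h => ⟨hlt j h, h⟩⟩
  have key : ∀ (r : ℕ) (hr : G.card = r),
      LinearIndependent K (fun i : Fin r => c (G.orderEmbOfFin hr i)) ∧
      Submodule.span K (Set.range (fun i : Fin r => c (G.orderEmbOfFin hr i))) = ⊤ := by
    intro r hr
    refine ⟨linearIndependent_jumps c _ (G.orderEmbOfFin hr).strictMono
      (fun i => (hG _).1 (G.orderEmbOfFin_mem hr i)), ?_⟩
    rw [← htop, span_Iio_eq_span_jumps]
    congr 1
    ext x
    constructor
    · rintro ⟨i, rfl⟩
      exact ⟨_, ⟨hlt _ ((hG _).1 (G.orderEmbOfFin_mem hr i)),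
        (hG _).1 (G.orderEmbOfFin_mem hr i)⟩, rfl⟩
    · rintro ⟨j, ⟨_, hj⟩, rfl⟩
      have : j ∈ Set.range (G.orderEmbOfFin hr) := by
        rw [Finset.range_orderEmbOfFin]; exact (hG j).2 hj
      obtain ⟨i, rfl⟩ := this
      exact ⟨i, rfl⟩
  have hcard : G.card = N := by
    obtain ⟨h1, h2⟩ := key G.card rfl
    have := finrank_span_eq_card h1
    rw [h2, finrank_top, hN, Fintype.card_fin] at this
    exact this.symm
  refine ⟨G.orderEmbOfFin hcard, (G.orderEmbOfFin hcard).strictMono, ?_, (key N hcard).1⟩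
  intro j
  rw [← hG j, ← Finset.mem_coe, ← Finset.range_orderEmbOfFin G hcard]

theorem isJump_map_iff {M' : Type*} [AddCommGroup M'] [Module K M'] (f : M →ₗ[K] M')
    (hf : Function.Injective f) (c : ℕ → M) (m : ℕ) :
    IsJump K (fun j => f (c j)) m ↔ IsJump K c m := by
  unfold IsJump
  rw [not_iff_not]
  have : (fun j => f (c j)) '' Set.Iio m = f '' (c '' Set.Iio m) := by rw [Set.image_image]
  rw [this, ← Submodule.map_span]
  exact ⟨fun ⟨y, hy, hfy⟩ => hf hfy ▸ hy, fun h => Submodule.mem_map_of_mem h⟩

section Tri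

variable {c c' : ℕ → M} {d : ℕ → K}

theorem span_Iio_eq_of_tri (hd : ∀ m, d m ≠ 0)
    (h : ∀ m, c' m - d m • c m ∈ Submodule.span K (c '' Set.Iio m)) (m : ℕ) :
    Submodule.span K (c' '' Set.Iio m) = Submodule.span K (c '' Set.Iio m) := by
  induction m with
  | zero => simp
  | succ m ih =>
    rw [span_Iio_succ, span_Iio_succ, ih]
    apply le_antisymm
    · refine sup_le ?_ le_sup_right
      rw [Submodule.span_singleton_le_iff_mem]
      have : c' m = d m • c m + (c' m - d m • c m) := by abel
      rw [this]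
      exact Submodule.add_mem _ (Submodule.smul_mem _ _
        (Submodule.mem_sup_left (Submodule.mem_span_singleton_self _)))
        (Submodule.mem_sup_right (h m))
    · refine sup_le ?_ le_sup_right
      rw [Submodule.span_singleton_le_iff_mem]
      have : c m = (d m)⁻¹ • c' m - (d m)⁻¹ • (c' m - d m • c m) := by
        rw [smul_sub, smul_smul, inv_mul_cancel₀ (hd m), one_smul]; abel
      rw [this]
      exact Submodule.sub_mem _ (Submodule.smul_mem _ _
        (Submodule.mem_sup_left (Submodule.mem_span_singleton_self _)))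
        (Submodule.smul_mem _ _ (Submodule.mem_sup_right (h m)))

theorem isJump_iff_of_tri (hd : ∀ m, d m ≠ 0)
    (h : ∀ m, c' m - d m • c m ∈ Submodule.span K (c '' Set.Iio m)) (m : ℕ) :
    IsJump K c' m ↔ IsJump K c m := by
  unfold IsJump
  rw [span_Iio_eq_of_tri hd h m, not_iff_not]
  constructor
  · intro h1
    have h2 := Submodule.sub_mem _ h1 (h m)
    rw [sub_sub_cancel] at h2
    have h3 := Submodule.smul_mem _ (d m)⁻¹ h2
    rwa [smul_smul, inv_mul_cancel₀ (hd m), one_smul] at h3
  · intro h1
    have : c' m = d m • c m + (c' m - d m • c m) := by abel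
    rw [this]
    exact Submodule.add_mem _ (Submodule.smul_mem _ _ h1) (h m)

theorem isOrders_iff_of_tri (hd : ∀ m, d m ≠ 0)
    (h : ∀ m, c' m - d m • c m ∈ Submodule.span K (c '' Set.Iio m)) {n : ℕ} (J : Fin n → ℕ) :
    IsOrders K c' J ↔ IsOrders K c J := by
  unfold IsOrders
  simp only [isJump_iff_of_tri hd h]

end Tri

theorem span_Iio_eIdx_le {n : ℕ} {c : ℕ → M} {J : Fin n → ℕ} (hJ : IsOrders K c J)
    (x : Fin (n + 1)) :
    Submodule.span K (c '' Set.Iio (eIdx J x)) ≤
      Submodule.span K ((fun y => c (eIdx J y)) '' Set.Iio x) := by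
  rw [span_Iio_eq_span_jumps]
  apply Submodule.span_mono
  rintro _ ⟨j, ⟨hj1, hj2⟩, rfl⟩
  cases j with
  | zero =>
    refine ⟨0, ?_, by simp⟩
    show (0 : Fin (n + 1)) < x
    rcases Fin.eq_zero_or_eq_succ x with rfl | ⟨l, rfl⟩
    · simp at hj1
    · exact Fin.succ_pos l
  | succ j' =>
    obtain ⟨i, hi⟩ := (hJ.2 j').2 hj2
    refine ⟨i.succ, ?_, by simp [hi]⟩
    show i.succ < x
    by_contra hx
    push Not at hx
    have := (eIdx_strictMono hJ.1).monotone hx
    rw [eIdx_succ, hi] at this
    omega

end General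

section Det

variable {K : Type*} [Field K]

theorem det_eq_prod_mul_det_of_tri {N : ℕ} (v v' : Fin N → (Fin N → K)) (d : Fin N → K)
    (h : ∀ x, v' x - d x • v x ∈ Submodule.span K (v '' Set.Iio x)) :
    (Matrix.of fun i x => v' x i).det = (∏ x, d x) * (Matrix.of fun i x => v x i).det := by
  classical
  have hex : ∀ x, ∃ a : Fin N →₀ K, (∀ y, x ≤ y → a y = 0) ∧
      v' x - d x • v x = ∑ y, a y • v y := by
    intro x
    obtain ⟨a, ha1, ha2⟩ := (Finsupp.mem_span_image_iff_linearCombination K).1 (h x)
    refine ⟨a, ?_, ?_⟩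
    · intro y hy
      by_contra hne
      have h1 : y ∈ a.support := Finsupp.mem_support_iff.2 hne
      have h2 := (Finsupp.mem_supported K a).1 ha1 h1
      exact absurd (Set.mem_Iio.1 h2) (not_lt.2 hy)
    · rw [← ha2, Finsupp.linearCombination_apply, Finsupp.sum_fintype]
      intro i; exact zero_smul _ _
  choose a ha1 ha2 using hex
  let U : Matrix (Fin N) (Fin N) K :=
    Matrix.of fun y x => (if y = x then d x else 0) + a x y
  have hU : U.IsUpperTriangular := by
    intro y x hxy
    have hxy' : x < y := hxy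
    simp only [U, Matrix.of_apply]
    rw [if_neg (ne_of_gt hxy'), zero_add]
    exact ha1 x y (le_of_lt hxy')
  have hmul : (Matrix.of fun i x => v' x i) = (Matrix.of fun i x => v x i) * U := by
    ext i x
    simp only [Matrix.mul_apply, Matrix.of_apply, U]
    have h1 : v' x = d x • v x + ∑ y, a x y • v y := by rw [← ha2 x]; abel
    rw [h1]
    simp only [Pi.add_apply, Pi.smul_apply, Finset.sum_apply, smul_eq_mul, mul_add,
      Finset.sum_add_distrib]
    congr 1
    · simp [mul_comm]
    · exact Finset.sum_congr rfl (fun y _ => mul_comm _ _)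
  rw [hmul, Matrix.det_mul, Matrix.det_of_isUpperTriangular hU, mul_comm]
  congr 1
  refine Finset.prod_congr rfl (fun x _ => ?_)
  simp only [U, Matrix.of_apply]
  rw [ha1 x x le_rfl, add_zero]
  simp

theorem det_tri {n : ℕ} {c c' : ℕ → (Fin (n + 1) → K)} {d : ℕ → K}
    (h : ∀ m, c' m - d m • c m ∈ Submodule.span K (c '' Set.Iio m)) {J : Fin n → ℕ}
    (hJ : IsOrders K c J) :
    (Matrix.of fun i x => c' (eIdx J x) i).det =
      (∏ x, d (eIdx J x)) * (Matrix.of fun i x => c (eIdx J x) i).det :=
  det_eq_prod_mul_det_of_tri (fun x => c (eIdx J x)) (fun x => c' (eIdx J x))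
    (fun x => d (eIdx J x)) (fun x => span_Iio_eIdx_le hJ x (h (eIdx J x)))

end Det

section Hcol

variable {k K : Type*} [Field k] [Field K] [Algebra k K]

theorem wrMat_eq {n : ℕ} (τ : K →ₐ[k] K) (H : K →ₐ[k] PowerSeries K) (φ : Fin (n + 1) → K)
    (I : Fin n → ℕ) :
    wrMat τ H φ I = Matrix.of fun i x => hcol τ H φ (eIdx I x) i := by
  ext i x
  induction x using Fin.cases with
  | zero => simp [wrMat, hcol, eIdx]
  | succ l => simp [wrMat, hcol, eIdx]

end Hcol

end Groth.Agent.H27.Jump
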