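import Mathlib
import Groth.Prelude.Def_W4bk4goldsch45p2
import Groth.Agent.H27.Jump

/-!
Basic identities for the coefficient maps `LocRes.hasseD` of a total Hasse derivative and the
column sequences `FunFld.hcol`.
-/

set_option autoImplicit false

namespace Groth.Agent.H27.Hasse

open FunFld LocRes

variable {k K : Type*} [Field k] [Field K] [Algebra k K]

theorem hasseD_zero {s : K} {H : K →ₐ[k] PowerSeries K} (hH : IsHasseFamily s H) (y : K) :
    hasseD H 0 y = y := by
  rw [hasseD_apply, PowerSeries.coeff_zero_eq_constantCoeff_apply]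
  exact hH.2 y

theorem hasseD_add (H : K →ₐ[k] PowerSeries K) (j : ℕ) (x y : K) :
    hasseD H j (x + y) = hasseD H j x + hasseD H j y := by
  simp [hasseD_apply, map_add]

theorem hasseD_map_zero (H : K →ₐ[k] PowerSeries K) (j : ℕ) : hasseD H j 0 = 0 := by
  simp [hasseD_apply]

theorem hasseD_smul (H : K →ₐ[k] PowerSeries K) (j : ℕ) (c : k) (y : K) :
    hasseD H j (c • y) = algebraMap k K c * hasseD H j y := by
  rw [hasseD_apply, hasseD_apply, Algebra.smul_def, map_mul, AlgHom.commutes,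
    PowerSeries.algebraMap_apply, PowerSeries.coeff_C_mul]

theorem hasseD_sum {ι : Type*} (H : K →ₐ[k] PowerSeries K) (j : ℕ) (t : Finset ι) (f : ι → K) :
    hasseD H j (∑ i ∈ t, f i) = ∑ i ∈ t, hasseD H j (f i) := by
  simp [hasseD_apply, map_sum]

theorem hasseD_mul (H : K →ₐ[k] PowerSeries K) (j : ℕ) (x y : K) :
    hasseD H j (x * y) = ∑ p ∈ Finset.HasAntidiagonal.antidiagonal j, hasseD H p.1 x * hasseD H p.2 y := by
  simp only [hasseD_apply, map_mul, PowerSeries.coeff_mul]

theorem hasseD_mul_range {s : K} {H : K →ₐ[k] PowerSeries K} (hH : IsHasseFamily s H) (j : ℕ)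
    (y x : K) :
    hasseD H j (y * x) =
      y * hasseD H j x + ∑ b ∈ Finset.range j, hasseD H (j - b) y * hasseD H b x := by
  rw [mul_comm y x, hasseD_mul, Finset.Nat.sum_antidiagonal_eq_sum_range_succ_mk,
    Finset.sum_range_succ, Nat.sub_self, hasseD_zero hH, add_comm]
  congr 1
  · ring
  · exact Finset.sum_congr rfl (fun b _ => mul_comm _ _)

theorem hasseD_one_pos (H : K →ₐ[k] PowerSeries K) {j : ℕ} (hj : 0 < j) : hasseD H j 1 = 0 := by
  rw [hasseD_apply, map_one, PowerSeries.coeff_one, if_neg hj.ne']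

theorem hasseD_algebraMap_pos (H : K →ₐ[k] PowerSeries K) {j : ℕ} (hj : 0 < j) (c : k) :
    hasseD H j (algebraMap k K c) = 0 := by
  rw [hasseD_apply, AlgHom.commutes, PowerSeries.algebraMap_apply, PowerSeries.coeff_C,
    if_neg hj.ne']

theorem hcol_one {ι : Type*} {s : K} {H : K →ₐ[k] PowerSeries K} (hH : IsHasseFamily s H)
    (τ : K →ₐ[k] K) (φ : ι → K) : hcol τ H φ 1 = φ := by
  ext i
  exact hasseD_zero hH (φ i)

theorem algHom_eq_id_of_adjoin (S : Set K) (hS : IntermediateField.adjoin k S = ⊤)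
    (τ : K →ₐ[k] K) (h : ∀ x ∈ S, τ x = x) : τ = AlgHom.id k K := by
  ext x
  have hx : x ∈ IntermediateField.adjoin k S := hS ▸ IntermediateField.mem_top
  simp only [AlgHom.coe_id, id]
  induction hx using IntermediateField.adjoin_induction with
  | mem x hx => exact h x hx
  | algebraMap c => exact τ.commutes c
  | add x y _ _ hx hy => rw [map_add, hx, hy]
  | inv x _ hx => rw [map_inv₀, hx]
  | mul x y _ _ hx hy => rw [map_mul, hx, hy]

/-- The first `τ`-order of a birational map is positive exactly when `τ = id`. -/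
theorem not_isJump_one_iff {n : ℕ} (φ : Fin (n + 1) → K) (h0 : φ 0 ≠ 0)
    (hbir : IntermediateField.adjoin k (Set.range fun i => φ i / φ 0) = ⊤)
    (τ : K →ₐ[k] K) {s : K} {H : K →ₐ[k] PowerSeries K} (hH : IsHasseFamily s H) :
    ¬ IsJump K (hcol τ H φ) 1 ↔ τ = AlgHom.id k K := by
  unfold IsJump
  rw [not_not]
  have h1 : (hcol τ H φ) '' Set.Iio 1 = {hcol τ H φ 0} := by
    ext v
    simp [Nat.lt_one_iff]
  rw [h1, Submodule.mem_span_singleton, hcol_one hH]
  constructor
  · rintro ⟨a, ha⟩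
    have ha' : ∀ i, a * τ (φ i) = φ i := fun i => congrFun ha i
    have ha0 : a ≠ 0 := by
      rintro rfl
      exact h0 (by rw [← ha' 0, zero_mul])
    apply algHom_eq_id_of_adjoin _ hbir
    rintro _ ⟨i, rfl⟩
    rw [map_div₀]
    calc τ (φ i) / τ (φ 0) = (a * τ (φ i)) / (a * τ (φ 0)) := (mul_div_mul_left _ _ ha0).symm
      _ = φ i / φ 0 := by rw [ha' i, ha' 0]
  · rintro rfl
    exact ⟨1, by ext i; simp [hcol]⟩

end Groth.Agent.H27.Hasse
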