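import Mathlib
import Groth.Prelude.Def_W4bk4goldsch45p2
import Groth.Agent.H27.HasseBasic
import Groth.Agent.H55.FFBasic

/-!
Uniqueness of ring homomorphisms out of an algebraic extension into a complete local domain
(Hensel-type argument), the Taylor homomorphism `f(X) ↦ f(X + Y)` on power series, iterativity of
Hasse families on a function field, their constants, and the Wronskian rank lemma.
-/

set_option autoImplicit false

namespace Groth.Agent.H27.Hasse

open FunFld LocRes PowerSeries

section Uniq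

/-- Two ring homomorphisms from an algebraic field extension `K/F` into a domain `B`, agreeing on
`F` and congruent modulo the kernel of `π : B → L` (where everything outside the kernel is a unit),
are equal. -/
theorem ringHom_ext_of_isAlgebraic {F K B L : Type*} [Field F] [Field K] [Algebra F K]
    [Algebra.IsAlgebraic F K] [CommRing B] [IsDomain B] [Field L] (π : B →+* L)
    (hπ : ∀ b, π b ≠ 0 → IsUnit b) (Φ₁ Φ₂ : K →+* B)
    (hF : ∀ a : F, Φ₁ (algebraMap F K a) = Φ₂ (algebraMap F K a))
    (hπΦ : ∀ y, π (Φ₁ y) = π (Φ₂ y)) : Φ₁ = Φ₂ := by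
  have hcomp : Φ₁.comp (algebraMap F K) = Φ₂.comp (algebraMap F K) := RingHom.ext hF
  have hsep : ∀ y : K, IsSeparable F y → Φ₁ y = Φ₂ y := by
    intro y hy
    have hfy : Polynomial.aeval y (minpoly F y) = 0 := minpoly.aeval F y
    have hg1 : ((minpoly F y).map (Φ₁.comp (algebraMap F K))).eval (Φ₁ y) = 0 := by
      rw [Polynomial.eval_map, ← Polynomial.hom_eval₂, ← Polynomial.aeval_def, hfy, map_zero]
    have hg2 : ((minpoly F y).map (Φ₁.comp (algebraMap F K))).eval (Φ₂ y) = 0 := by
      rw [hcomp, Polynomial.eval_map, ← Polynomial.hom_eval₂, ← Polynomial.aeval_def, hfy,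
        map_zero]
    have hder : (Polynomial.derivative ((minpoly F y).map (Φ₁.comp (algebraMap F K)))).eval (Φ₁ y)
        = Φ₁ (Polynomial.aeval y (Polynomial.derivative (minpoly F y))) := by
      rw [Polynomial.derivative_map, Polynomial.eval_map, ← Polynomial.hom_eval₂,
        ← Polynomial.aeval_def]
    have hne : Polynomial.aeval y (Polynomial.derivative (minpoly F y)) ≠ 0 :=
      Polynomial.Separable.aeval_derivative_ne_zero hy hfy
    obtain ⟨c, hc⟩ := Polynomial.binomExpansion ((minpoly F y).map (Φ₁.comp (algebraMap F K)))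
      (Φ₁ y) (Φ₂ y - Φ₁ y)
    rw [add_sub_cancel, hg2, hg1, zero_add, hder] at hc
    have hfac : (Φ₂ y - Φ₁ y) * (Φ₁ (Polynomial.aeval y (Polynomial.derivative (minpoly F y)))
        + c * (Φ₂ y - Φ₁ y)) = 0 := by
      linear_combination (-1 : B) * hc
    have hπδ : π (Φ₂ y - Φ₁ y) = 0 := by rw [map_sub, hπΦ y, sub_self]
    have hunit : IsUnit (Φ₁ (Polynomial.aeval y (Polynomial.derivative (minpoly F y)))
        + c * (Φ₂ y - Φ₁ y)) := by
      apply hπ
      rw [map_add, map_mul, hπδ, mul_zero, add_zero]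
      exact (map_ne_zero (π.comp Φ₁)).2 hne
    have h0 : Φ₂ y - Φ₁ y = 0 := (hunit.mul_left_eq_zero).1 hfac
    exact (sub_eq_zero.1 h0).symm
  apply RingHom.ext
  intro y
  haveI : ExpChar K (ringExpChar K) := ringExpChar.expChar K
  haveI : ExpChar B (ringExpChar K) := expChar_of_injective_ringHom Φ₁.injective (ringExpChar K)
  obtain ⟨m, z, hz⟩ := IsPurelyInseparable.pow_mem (separableClosure F K) (ringExpChar K) y
  have hzsep : IsSeparable F (z : K) := mem_separableClosure_iff.1 z.2
  have h1 : Φ₁ y ^ (ringExpChar K) ^ m = Φ₂ y ^ (ringExpChar K) ^ m := by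
    rw [← map_pow, ← map_pow, ← hz]
    exact hsep _ hzsep
  apply iterateFrobenius_inj B (ringExpChar K) m
  rw [iterateFrobenius_def, iterateFrobenius_def]
  exact h1

variable {k K : Type*} [Field k] [Field K] [Algebra k K]

theorem ringHom_eq_on_adjoin {B : Type*} [CommRing B] (Φ₁ Φ₂ : K →+* B) (S : Set K)
    (hk : ∀ c : k, Φ₁ (algebraMap k K c) = Φ₂ (algebraMap k K c))
    (hS : ∀ x ∈ S, Φ₁ x = Φ₂ x) :
    ∀ x ∈ IntermediateField.adjoin k S, Φ₁ x = Φ₂ x := by
  intro x hx
  induction hx using IntermediateField.adjoin_induction with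
  | mem x hx => exact hS x hx
  | algebraMap c => exact hk c
  | add x y _ _ hx hy => rw [map_add, map_add, hx, hy]
  | inv x _ hx =>
    by_cases h0 : x = 0
    · subst h0; simp
    · have h1 : Φ₁ x⁻¹ * Φ₁ x = 1 := by rw [← map_mul, inv_mul_cancel₀ h0, map_one]
      have h2 : Φ₁ x * Φ₂ x⁻¹ = 1 := by rw [hx, ← map_mul, mul_inv_cancel₀ h0, map_one]
      exact left_inv_eq_right_inv h1 h2
  | mul x y _ _ hx hy => rw [map_mul, map_mul, hx, hy]

end Uniq

section Taylor

variable {R : Type*} [CommRing R]

/-- The `j`-th Hasse derivative of a power series. -/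
noncomputable def hd (j : ℕ) (f : R⟦X⟧) : R⟦X⟧ :=
  PowerSeries.mk fun m => ((m + j).choose j : R) * coeff (m + j) f

@[simp] theorem coeff_hd (j m : ℕ) (f : R⟦X⟧) :
    coeff m (hd j f) = ((m + j).choose j : R) * coeff (m + j) f := by
  simp [hd]

theorem hd_mul (j : ℕ) (f g : R⟦X⟧) :
    hd j (f * g) = ∑ p ∈ Finset.HasAntidiagonal.antidiagonal j, hd p.1 f * hd p.2 g := by
  ext m
  have hPc : ∀ a, a < m + j + 1 → (trunc (m + j + 1) f).coeff a = coeff a f :=
    fun a ha => by rw [coeff_trunc, if_pos ha]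
  have hQc : ∀ a, a < m + j + 1 → (trunc (m + j + 1) g).coeff a = coeff a g :=
    fun a ha => by rw [coeff_trunc, if_pos ha]
  have h1 : coeff m (hd j (f * g)) =
      (Polynomial.hasseDeriv j (trunc (m + j + 1) f * trunc (m + j + 1) g)).coeff m := by
    rw [coeff_hd, Polynomial.hasseDeriv_coeff,
      coeff_mul_eq_coeff_trunc_mul_trunc f g (show m + j < m + j + 1 by omega),
      ← Polynomial.coe_mul, Polynomial.coeff_coe]
  rw [h1, Polynomial.hasseDeriv_mul, Polynomial.finsetSum_coeff, map_sum]
  refine Finset.sum_congr rfl (fun p hp => ?_)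
  rw [Polynomial.coeff_mul, PowerSeries.coeff_mul]
  refine Finset.sum_congr rfl (fun q hq => ?_)
  have hp' := Finset.HasAntidiagonal.mem_antidiagonal.1 hp
  have hq' := Finset.HasAntidiagonal.mem_antidiagonal.1 hq
  rw [Polynomial.hasseDeriv_coeff, Polynomial.hasseDeriv_coeff, coeff_hd, coeff_hd,
    hPc _ (by omega), hQc _ (by omega)]

/-- The Taylor homomorphism `f(X) ↦ f(X + Y)`, with values in power series in `Y` over power
series in `X`. -/
noncomputable def taylorFun (f : R⟦X⟧) : (R⟦X⟧)⟦X⟧ := PowerSeries.mk fun j => hd j f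

@[simp] theorem coeff_taylorFun (j : ℕ) (f : R⟦X⟧) : coeff j (taylorFun f) = hd j f :=
  coeff_mk _ _

noncomputable def taylor : R⟦X⟧ →+* (R⟦X⟧)⟦X⟧ where
  toFun := taylorFun
  map_one' := by
    ext j m
    simp only [coeff_taylorFun, coeff_hd, coeff_one]
    by_cases hj : j = 0
    · subst hj; simp [coeff_one]
    · have : m + j ≠ 0 := by omega
      simp [hj, this]
  map_mul' f g := by
    ext j
    rw [coeff_taylorFun, hd_mul, PowerSeries.coeff_mul]
    simp only [coeff_taylorFun]
  map_zero' := by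
    ext j m
    simp [coeff_hd]
  map_add' f g := by
    ext j m
    simp [coeff_hd, mul_add]

@[simp] theorem coeff_taylor (j : ℕ) (f : R⟦X⟧) : coeff j (taylor f) = hd j f :=
  coeff_taylorFun j f

theorem taylor_C (a : R) : taylor (C a : R⟦X⟧) = C (C a) := by
  ext j m
  rw [coeff_taylor, coeff_hd, coeff_C, coeff_C]
  by_cases hj : j = 0
  · subst hj; simp [coeff_C]
  · have : m + j ≠ 0 := by omega
    simp [hj, this]

theorem taylor_X : taylor (X : R⟦X⟧) = C X + X := by
  ext j m
  rw [coeff_taylor, coeff_hd, map_add, map_add, coeff_C, coeff_X, coeff_X]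
  rcases j with _ | _ | j
  · simp [coeff_X]
  · by_cases hm : m = 0
    · subst hm; simp
    · simp [coeff_one, hm]
  · simp
    intro h
    exact absurd h (by omega)

end Taylor

section FunctionField

variable {k K : Type*} [Field k] [Field K] [Algebra k K]

theorem not_mem_range_of_hasse {s : K} {H : K →ₐ[k] PowerSeries K} (hH : IsHasseFamily s H) :
    s ∉ Set.range (algebraMap k K) := by
  rintro ⟨c, rfl⟩
  have h1 := hH.1
  rw [AlgHom.commutes, PowerSeries.algebraMap_apply] at h1
  have h2 := congrArg (coeff 1) h1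
  simp [coeff_C] at h2

theorem transcendental_of_hasse (hK : IsFunctionField k K) {s : K} {H : K →ₐ[k] PowerSeries K}
    (hH : IsHasseFamily s H) : Transcendental k s :=
  (Groth.Agent.H55.ff_transcendental_iff hK).2 (not_mem_range_of_hasse hH)

theorem isAlgebraic_adjoin_of_hasse (hK : IsFunctionField k K) {s : K}
    {H : K →ₐ[k] PowerSeries K} (hH : IsHasseFamily s H) :
    Algebra.IsAlgebraic (IntermediateField.adjoin k ({s} : Set K)) K := by
  haveI := Groth.Agent.H55.ff_finite hK (transcendental_of_hasse hK hH)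
  exact Algebra.IsAlgebraic.of_finite _ _

theorem isUnit_of_constantCoeff_constantCoeff_ne_zero {A : Type*} [Field A] (b : (A⟦X⟧)⟦X⟧)
    (h : constantCoeff (constantCoeff b) ≠ 0) : IsUnit b := by
  rw [PowerSeries.isUnit_iff_constantCoeff, PowerSeries.isUnit_iff_constantCoeff]
  exact isUnit_iff_ne_zero.2 h

/-- Iterativity of a Hasse family on a function field. -/
theorem hasseD_hasseD (hK : IsFunctionField k K) {s : K} {H : K →ₐ[k] PowerSeries K}
    (hH : IsHasseFamily s H) (m j : ℕ) (y : K) :
    hasseD H m (hasseD H j y) = ((m + j).choose j : K) * hasseD H (m + j) y := by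
  haveI := isAlgebraic_adjoin_of_hasse hK hH
  let Φ₁ : K →+* (K⟦X⟧)⟦X⟧ := (PowerSeries.map (H : K →+* K⟦X⟧)).comp (H : K →+* K⟦X⟧)
  let Φ₂ : K →+* (K⟦X⟧)⟦X⟧ := (taylor (R := K)).comp (H : K →+* K⟦X⟧)
  let π : (K⟦X⟧)⟦X⟧ →+* K := (constantCoeff (R := K)).comp (constantCoeff (R := K⟦X⟧))
  have hπ : ∀ b, π b ≠ 0 → IsUnit b :=
    fun b hb => isUnit_of_constantCoeff_constantCoeff_ne_zero b hb
  have hk : ∀ c : k, Φ₁ (algebraMap k K c) = Φ₂ (algebraMap k K c) := by
    intro c
    simp only [Φ₁, Φ₂, RingHom.comp_apply, RingHom.coe_coe, AlgHom.commutes,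
      PowerSeries.algebraMap_apply, PowerSeries.map_C, taylor_C]
  have hs : Φ₁ s = Φ₂ s := by
    simp only [Φ₁, Φ₂, RingHom.comp_apply, RingHom.coe_coe, hH.1, map_add, PowerSeries.map_C,
      PowerSeries.map_X, taylor_C, taylor_X]
    rw [add_assoc]
  have hF : ∀ a : IntermediateField.adjoin k ({s} : Set K),
      Φ₁ (algebraMap _ K a) = Φ₂ (algebraMap _ K a) :=
    fun a => ringHom_eq_on_adjoin Φ₁ Φ₂ {s} hk
      (fun x hx => by rw [Set.mem_singleton_iff.1 hx]; exact hs) a a.2
  have hπΦ : ∀ y, π (Φ₁ y) = π (Φ₂ y) := by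
    intro y
    show constantCoeff (constantCoeff (PowerSeries.map (H : K →+* K⟦X⟧) (H y))) =
      constantCoeff (constantCoeff (taylor (H y)))
    simp only [← PowerSeries.coeff_zero_eq_constantCoeff_apply, PowerSeries.coeff_map,
      coeff_taylor, coeff_hd]
    have h1 : coeff 0 (H y) = y := hasseD_zero hH y
    have h2 : coeff 0 ((H : K →+* K⟦X⟧) y) = y := hasseD_zero hH y
    rw [h1, h2]
    simp [h1]
  have key := ringHom_ext_of_isAlgebraic (F := IntermediateField.adjoin k ({s} : Set K))
    π hπ Φ₁ Φ₂ hF hπΦ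
  have h := congrArg (fun b => coeff m (coeff j b)) (RingHom.congr_fun key y)
  simpa [Φ₁, Φ₂, PowerSeries.coeff_map, coeff_taylor, coeff_hd] using h

/-- The constants of a Hasse family on a function field are the elements of `k`. -/
theorem const_of_hasse (hK : IsFunctionField k K) {s : K} {H : K →ₐ[k] PowerSeries K}
    (hH : IsHasseFamily s H) (y : K) (hy : H y = C y) : y ∈ Set.range (algebraMap k K) := by
  by_contra hyk
  have hytr : Transcendental k y := (Groth.Agent.H55.ff_transcendental_iff hK).2 hyk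
  haveI := Groth.Agent.H55.ff_finite hK hytr
  have hF : ∀ z ∈ IntermediateField.adjoin k ({y} : Set K),
      (H : K →+* K⟦X⟧) z = (C : K →+* K⟦X⟧) z :=
    ringHom_eq_on_adjoin (H : K →+* K⟦X⟧) C {y}
      (fun c => by simp [PowerSeries.algebraMap_apply])
      (fun x hx => by rw [Set.mem_singleton_iff.1 hx]; exact hy)
  have hint : IsIntegral (IntermediateField.adjoin k ({y} : Set K)) s :=
    Algebra.IsIntegral.isIntegral s
  have hcomp : (H : K →+* K⟦X⟧).comp (algebraMap (IntermediateField.adjoin k ({y} : Set K)) K) =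
      (C : K →+* K⟦X⟧).comp (algebraMap (IntermediateField.adjoin k ({y} : Set K)) K) :=
    RingHom.ext (fun a => hF a a.2)
  have h1 : (minpoly (IntermediateField.adjoin k ({y} : Set K)) s).eval₂
      ((C : K →+* K⟦X⟧).comp (algebraMap (IntermediateField.adjoin k ({y} : Set K)) K))
      (C s + X) = 0 := by
    rw [← hcomp, ← hH.1]
    have := Polynomial.hom_eval₂ (minpoly (IntermediateField.adjoin k ({y} : Set K)) s)
      (algebraMap (IntermediateField.adjoin k ({y} : Set K)) K) (H : K →+* K⟦X⟧) s
    rw [← Polynomial.aeval_def, minpoly.aeval, map_zero] at this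
    exact this.symm
  have h2 : ((((minpoly (IntermediateField.adjoin k ({y} : Set K)) s).map
      (algebraMap (IntermediateField.adjoin k ({y} : Set K)) K)).comp
      (Polynomial.C s + Polynomial.X) : Polynomial K) : K⟦X⟧) = 0 := by
    rw [Polynomial.comp, ← Polynomial.coeToPowerSeries.ringHom_apply, Polynomial.hom_eval₂,
      Polynomial.eval₂_map]
    have e1 : (Polynomial.coeToPowerSeries.ringHom (R := K)).comp Polynomial.C = C :=
      RingHom.ext (fun a => Polynomial.coe_C a)
    have e2 : Polynomial.coeToPowerSeries.ringHom (Polynomial.C s + Polynomial.X : Polynomial K)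
        = C s + X := by
      rw [Polynomial.coeToPowerSeries.ringHom_apply, Polynomial.coe_add, Polynomial.coe_C,
        Polynomial.coe_X]
    rw [e2, ← h1, ← e1]
  rw [Polynomial.coe_eq_zero_iff, Polynomial.comp_eq_zero_iff] at h2
  rcases h2 with h2 | ⟨-, h2⟩
  · rw [Polynomial.map_eq_zero] at h2
    exact minpoly.ne_zero hint h2
  · have h3 := congrArg Polynomial.natDegree h2
    rw [Polynomial.natDegree_C_add, Polynomial.natDegree_X, Polynomial.natDegree_C] at h3
    exact one_ne_zero h3

theorem rel_stable {s : K} {H : K →ₐ[k] PowerSeries K} (hH : IsHasseFamily s H)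
    (hiter : ∀ m j y, hasseD H m (hasseD H j y) = ((m + j).choose j : K) * hasseD H (m + j) y)
    {ι : Type*} [Fintype ι] (φ a : ι → K) (ha : ∀ j, ∑ i, a i * hasseD H j (φ i) = 0) :
    ∀ m j, ∑ i, hasseD H m (a i) * hasseD H j (φ i) = 0 := by
  intro m
  induction m using Nat.strong_induction_on with
  | _ m ih =>
    intro j
    have h1 := congrArg (hasseD H m) (ha j)
    rw [hasseD_sum, hasseD_map_zero] at h1
    simp only [hasseD_mul, hiter] at h1
    rw [Finset.sum_comm] at h1
    rw [Finset.sum_eq_single (m, 0)] at h1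
    · simpa using h1
    · intro p hp hne
      have hp' := Finset.HasAntidiagonal.mem_antidiagonal.1 hp
      have hlt : p.1 < m := by
        rcases p with ⟨p1, p2⟩
        simp only at hp' ⊢
        have : p2 ≠ 0 := by
          rintro rfl
          apply hne
          rw [add_zero] at hp'
          rw [hp']
        omega
      have h2 := ih p.1 hlt (p.2 + j)
      calc ∑ i, hasseD H p.1 (a i) * (((p.2 + j).choose j : K) * hasseD H (p.2 + j) (φ i))
          = ((p.2 + j).choose j : K) * ∑ i, hasseD H p.1 (a i) * hasseD H (p.2 + j) (φ i) := by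
            rw [Finset.mul_sum]
            exact Finset.sum_congr rfl (fun i _ => by ring)
        _ = 0 := by rw [h2, mul_zero]
    · intro h
      exact absurd (Finset.HasAntidiagonal.mem_antidiagonal.2 (by simp)) h

/-- The rank lemma: the rows `(D^(j) φ i)_j` of a `k`-independent tuple are `K`-independent. -/
theorem rank_lemma (hK : IsFunctionField k K) {s : K} {H : K →ₐ[k] PowerSeries K}
    (hH : IsHasseFamily s H) {ι : Type*} [Fintype ι] (φ : ι → K) (hφ : LinearIndependent k φ)
    (a : ι → K) (ha : ∀ j, ∑ i, a i * hasseD H j (φ i) = 0) : a = 0 := by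
  classical
  have hiter := hasseD_hasseD hK hH
  by_contra hne
  let S : Set ℕ := {r | ∃ b : ι → K, b ≠ 0 ∧ (∀ j, ∑ i, b i * hasseD H j (φ i) = 0) ∧
    (Finset.univ.filter (fun i => b i ≠ 0)).card = r}
  have hS : S.Nonempty := ⟨_, a, hne, ha, rfl⟩
  obtain ⟨b, hb0, hb, hbcard⟩ := Nat.sInf_mem hS
  have hmin : ∀ r ∈ S, sInf S ≤ r := fun r hr => Nat.sInf_le hr
  obtain ⟨i0, hi0⟩ : ∃ i0, b i0 ≠ 0 := by
    by_contra h
    push Not at h
    exact hb0 (funext h)
  let b' : ι → K := fun i => (b i0)⁻¹ * b i
  have hb'rel : ∀ j, ∑ i, b' i * hasseD H j (φ i) = 0 := by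
    intro j
    simp only [b', mul_assoc, ← Finset.mul_sum, hb j, mul_zero]
  have hb'i0 : b' i0 = 1 := inv_mul_cancel₀ hi0
  have hder : ∀ m, 0 < m → ∀ i, hasseD H m (b' i) = 0 := by
    intro m hm
    by_contra hcon
    push Not at hcon
    let b'' : ι → K := fun i => hasseD H m (b' i)
    have hb''0 : b'' ≠ 0 := by
      obtain ⟨i, hi⟩ := hcon
      exact fun h => hi (congrFun h i)
    have hb''rel := fun j => rel_stable hH hiter φ b' hb'rel m j
    have hsub : Finset.univ.filter (fun i => b'' i ≠ 0) ⊂ Finset.univ.filter (fun i => b i ≠ 0) := by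
      rw [Finset.ssubset_iff_of_subset]
      · refine ⟨i0, by simp [hi0], ?_⟩
        simp only [Finset.mem_filter, Finset.mem_univ, true_and, not_not]
        show hasseD H m (b' i0) = 0
        rw [hb'i0]
        exact hasseD_one_pos H hm
      · intro i hi
        simp only [Finset.mem_filter, Finset.mem_univ, true_and] at hi ⊢
        intro hbi
        apply hi
        have : b' i = 0 := by simp [b', hbi]
        show hasseD H m (b' i) = 0
        rw [this]
        exact hasseD_map_zero H m
    have h1 := hmin _ ⟨b'', hb''0, hb''rel, rfl⟩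
    have h2 := Finset.card_lt_card hsub
    omega
  have hconst : ∀ i, ∃ c : k, b' i = algebraMap k K c := by
    intro i
    have : H (b' i) = PowerSeries.C (b' i) := by
      ext m
      rcases Nat.eq_zero_or_pos m with rfl | hm
      · rw [PowerSeries.coeff_C, if_pos rfl]
        exact hasseD_zero hH _
      · rw [PowerSeries.coeff_C, if_neg hm.ne']
        exact hder m hm i
    obtain ⟨c, hc⟩ := const_of_hasse hK hH _ this
    exact ⟨c, hc.symm⟩
  choose c hc using hconst
  have h0 := hb'rel 0
  simp only [hasseD_zero hH] at h0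
  have h1 : ∑ i, c i • φ i = 0 := by
    rw [← h0]
    exact Finset.sum_congr rfl (fun i _ => by rw [Algebra.smul_def, hc i])
  have h2 := Fintype.linearIndependent_iff.1 hφ c h1 i0
  have h3 : b' i0 = 0 := by rw [hc i0, h2, map_zero]
  rw [hb'i0] at h3
  exact one_ne_zero h3

end FunctionField

end Groth.Agent.H27.Hasse
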