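import Mathlib
import Groth.Prelude.Def_W4bk4goldsch45p2
import Groth.Agent.H27.HasseUniq

/-!
Compatibility of a Hasse family with a power series expansion of a subring with fraction field
`K`: the expansion of `D^(j) y` is the `j`-th Hasse derivative of the expansion of `y`.
-/

set_option autoImplicit false

namespace Groth.Agent.H27.Hasse

open FunFld LocRes PowerSeries

theorem hd_zero {R : Type*} [CommRing R] (f : R⟦X⟧) : hd 0 f = f := by
  ext m
  simp [coeff_hd]

theorem expansion_hasse {k K : Type*} [Field k] [Field K] [Algebra k K]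
    (hK : IsFunctionField k K) {t : K} {H : K →ₐ[k] PowerSeries K} (hH : IsHasseFamily t H)
    {O : Type*} [CommRing O] [IsDomain O] [Algebra O K] [IsFractionRing O K]
    {A : Type*} [Field A] (γ : k →+* A) (ε : O →+* PowerSeries A) (hε : Function.Injective ε)
    (tO : O) (htO : algebraMap O K tO = t) (hεt : ε tO = PowerSeries.X)
    (hεk : ∀ c : k, ∃ cO : O, algebraMap O K cO = algebraMap k K c ∧ ε cO = PowerSeries.C (γ c))
    {Q : Type*} [Field Q] [Algebra (PowerSeries A) Q] [IsFractionRing (PowerSeries A) Q]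
    (E : K →+* Q) (hE : ∀ y : O, E (algebraMap O K y) = algebraMap (PowerSeries A) Q (ε y))
    (y : O) (j : ℕ) :
    E (hasseD H j (algebraMap O K y)) = algebraMap (PowerSeries A) Q (hd j (ε y)) := by
  haveI := isAlgebraic_adjoin_of_hasse hK hH
  have hιinj : Function.Injective (algebraMap (PowerSeries A) Q) :=
    IsFractionRing.injective (PowerSeries A) Q
  let g : O →+* PowerSeries Q :=
    (PowerSeries.map (algebraMap (PowerSeries A) Q)).comp ((taylor (R := A)).comp ε)
  have hgdef : ∀ y : O, g y = PowerSeries.map (algebraMap (PowerSeries A) Q) (taylor (ε y)) :=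
    fun _ => rfl
  have hgc : ∀ y : O, PowerSeries.constantCoeff (g y) = algebraMap (PowerSeries A) Q (ε y) := by
    intro y
    rw [hgdef, ← PowerSeries.coeff_zero_eq_constantCoeff_apply, PowerSeries.coeff_map,
      coeff_taylor, hd_zero]
  have hg : ∀ y : nonZeroDivisors O, IsUnit (g y) := by
    intro y
    rw [PowerSeries.isUnit_iff_constantCoeff, hgc]
    apply isUnit_iff_ne_zero.2
    rw [Ne, map_eq_zero_iff _ hιinj, map_eq_zero_iff ε hε]
    exact nonZeroDivisors.coe_ne_zero y
  let Φ₂ : K →+* PowerSeries Q := IsLocalization.lift hg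
  have hΦ₂ : ∀ y : O, Φ₂ (algebraMap O K y) = g y := fun y => IsLocalization.lift_eq hg y
  let Φ₁ : K →+* PowerSeries Q := (PowerSeries.map E).comp (H : K →+* PowerSeries K)
  have hΦ₁ : ∀ y : K, Φ₁ y = PowerSeries.map E (H y) := fun _ => rfl
  have hπ : ∀ b : PowerSeries Q, PowerSeries.constantCoeff b ≠ 0 → IsUnit b := fun b hb => by
    rw [PowerSeries.isUnit_iff_constantCoeff]
    exact isUnit_iff_ne_zero.2 hb
  have hπ1 : ∀ y, PowerSeries.constantCoeff (Φ₁ y) = E y := by
    intro y
    rw [hΦ₁, ← PowerSeries.coeff_zero_eq_constantCoeff_apply, PowerSeries.coeff_map]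
    congr 1
    exact hasseD_zero hH y
  have hπ2 : ((PowerSeries.constantCoeff (R := Q)).comp Φ₂ : K →+* Q) = E := by
    apply IsLocalization.ringHom_ext (nonZeroDivisors O)
    ext y
    simp only [RingHom.comp_apply]
    rw [hΦ₂, hgc, hE]
  have hk : ∀ c : k, Φ₁ (algebraMap k K c) = Φ₂ (algebraMap k K c) := by
    intro c
    obtain ⟨cO, hc1, hc2⟩ := hεk c
    have e1 : Φ₁ (algebraMap k K c) = PowerSeries.C (E (algebraMap k K c)) := by
      rw [hΦ₁, AlgHom.commutes, PowerSeries.algebraMap_apply, PowerSeries.map_C]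
    rw [e1, ← hc1, hΦ₂, hE, hgdef, hc2, taylor_C, PowerSeries.map_C]
  have hs : Φ₁ t = Φ₂ t := by
    have e1 : Φ₁ t = PowerSeries.C (E t) + PowerSeries.X := by
      rw [hΦ₁, hH.1, map_add, PowerSeries.map_C, PowerSeries.map_X]
    rw [e1, ← htO, hΦ₂, hE, hgdef, hεt, taylor_X, map_add, PowerSeries.map_C, PowerSeries.map_X]
  have hF : ∀ a : IntermediateField.adjoin k ({t} : Set K),
      Φ₁ (algebraMap _ K a) = Φ₂ (algebraMap _ K a) :=
    fun a => ringHom_eq_on_adjoin Φ₁ Φ₂ {t} hk
      (fun x hx => by rw [Set.mem_singleton_iff.1 hx]; exact hs) a a.2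
  have hπΦ : ∀ y, PowerSeries.constantCoeff (Φ₁ y) = PowerSeries.constantCoeff (Φ₂ y) := by
    intro y
    rw [hπ1]
    exact (RingHom.congr_fun hπ2 y).symm
  have key := ringHom_ext_of_isAlgebraic (F := IntermediateField.adjoin k ({t} : Set K))
    (PowerSeries.constantCoeff (R := Q)) hπ Φ₁ Φ₂ hF hπΦ
  have h := congrArg (PowerSeries.coeff j) (RingHom.congr_fun key (algebraMap O K y))
  rw [hΦ₁, hΦ₂, hgdef, PowerSeries.coeff_map, PowerSeries.coeff_map, coeff_taylor] at h
  exact h

end Groth.Agent.H27.Hasse
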