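import Mathlib
import Groth.Prelude.Def_W4bk4goldsch45p2
import Groth.Agent.H55.FFIndep
import Groth.Agent.H27.HasseUniq
import Groth.Agent.H27.HasseExp

/-!
Power series expansion at a place of a function field over an algebraically closed field, in a
local parameter: digits `dig`, the expansion ring homomorphism on the valuation ring.
-/

set_option autoImplicit false

namespace Groth.Agent.H27.Expn

open FunFld WithZero Groth.Agent.H55

variable {k K : Type*} [Field k] [Field K] [Algebra k K]

section Cst

variable (P : Place k K)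

theorem algebraMap_res_bijective [IsAlgClosed k] (hK : IsFunctionField k K) :
    Function.Bijective ((IsLocalRing.residue P.O).comp (algebraMap k P.O)) := by
  let _ : Algebra k (IsLocalRing.ResidueField P.O) := IsLocalRing.ResidueField.algebra (R := P.O)
  have h1 := residue_finiteDimensional hK P
  have : Algebra.IsIntegral k (IsLocalRing.ResidueField P.O) := Algebra.IsIntegral.of_finite _ _
  exact IsAlgClosed.algebraMap_bijective_of_isIntegral (k := k) (K := IsLocalRing.ResidueField P.O)

theorem exists_cst [IsAlgClosed k] (hK : IsFunctionField k K) {y : K} (hy : P.1 y ≤ 1) :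
    ∃ c : k, P.1 (y - algebraMap k K c) < 1 := by
  obtain ⟨c, hc⟩ := (algebraMap_res_bijective P hK).2
    (IsLocalRing.residue P.O ⟨y, (Valuation.mem_valuationSubring_iff P.1 y).mpr hy⟩)
  refine ⟨c, ?_⟩
  rw [RingHom.comp_apply] at hc
  have h2 : IsLocalRing.residue P.O
      (⟨y, (Valuation.mem_valuationSubring_iff P.1 y).mpr hy⟩ - algebraMap k P.O c) = 0 := by
    rw [map_sub, hc, sub_self]
  rw [IsLocalRing.residue_eq_zero_iff, mem_maximalIdeal_iff] at h2
  exact h2

open Classical in
/-- The constant term of `y` at `P` (the constant `c` with `y - c` in the maximal ideal). -/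
noncomputable def cst (y : K) : k :=
  if h : ∃ c : k, P.1 (y - algebraMap k K c) < 1 then h.choose else 0

theorem cst_spec [IsAlgClosed k] (hK : IsFunctionField k K) {y : K} (hy : P.1 y ≤ 1) :
    P.1 (y - algebraMap k K (cst P y)) < 1 := by
  have h := exists_cst P hK hy
  rw [cst, dif_pos h]
  exact h.choose_spec

theorem cst_unique {y : K} {c : k} (h : P.1 (y - algebraMap k K c) < 1) : cst P y = c := by
  have h' : ∃ c : k, P.1 (y - algebraMap k K c) < 1 := ⟨c, h⟩
  rw [cst, dif_pos h']
  by_contra hne
  have h1 := h'.choose_spec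
  have h2 : P.1 (algebraMap k K (h'.choose - c)) < 1 := by
    have : algebraMap k K (h'.choose - c) =
        (y - algebraMap k K c) - (y - algebraMap k K h'.choose) := by
      rw [map_sub]; ring
    rw [this]
    exact Valuation.map_sub_lt _ h h1
  rw [pl_val_const P (sub_ne_zero.2 hne)] at h2
  exact lt_irrefl _ h2

theorem cst_algebraMap (c : k) : cst P (algebraMap k K c) = c :=
  cst_unique P (by simp)

theorem cst_eq_zero {y : K} (h : P.1 y < 1) : cst P y = 0 :=
  cst_unique P (by simpa using h)

theorem val_le_one_of_cst {y : K} {c : k} (h : P.1 (y - algebraMap k K c) < 1) : P.1 y ≤ 1 := by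
  have : y = (y - algebraMap k K c) + algebraMap k K c := by ring
  rw [this]
  exact Valuation.map_add_le _ h.le (P.2.1 c)

end Cst

section Dig

variable (P : Place k K) (t : K)

/-- The remainder `(y - cst y) / t`. -/
noncomputable def rem (y : K) : K := (y - algebraMap k K (cst P y)) / t

/-- The `n`-th digit of the `t`-adic expansion of `y` at `P`. -/
noncomputable def dig (n : ℕ) (y : K) : k := cst P ((rem P t)^[n] y)

theorem dig_zero (y : K) : dig P t 0 y = cst P y := rfl

theorem dig_succ (n : ℕ) (y : K) : dig P t (n + 1) y = dig P t n (rem P t y) := by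
  unfold dig
  rw [Function.iterate_succ_apply]

variable {P t}

theorem t_ne_zero (ht : P.1 t = exp (-1 : ℤ)) : t ≠ 0 := by
  rintro rfl
  rw [map_zero] at ht
  exact exp_ne_zero ht.symm

theorem val_t_lt_one (ht : P.1 t = exp (-1 : ℤ)) : P.1 t < 1 := by
  rw [zm0_lt_one_iff, ht]

theorem exp_neg_one_pow' (n : ℕ) : (exp (-1 : ℤ) : WithZero (Multiplicative ℤ)) ^ n = exp (-(n : ℤ)) := by
  induction n with
  | zero => simp
  | succ n ih =>
    rw [pow_succ, ih, ← exp_add]
    congr 1
    push_cast
    ring

variable [IsAlgClosed k] (hK : IsFunctionField k K)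
include hK

theorem rem_int (ht : P.1 t = exp (-1 : ℤ)) {y : K} (hy : P.1 y ≤ 1) : P.1 (rem P t y) ≤ 1 := by
  unfold rem
  rw [map_div₀, div_le_one₀ (by rw [ht]; exact exp_pos), ht, ← zm0_lt_one_iff]
  exact cst_spec P hK hy

theorem iterate_int (ht : P.1 t = exp (-1 : ℤ)) {y : K} (hy : P.1 y ≤ 1) (n : ℕ) :
    P.1 ((rem P t)^[n] y) ≤ 1 := by
  induction n with
  | zero => exact hy
  | succ n ih =>
    rw [Function.iterate_succ_apply']
    exact rem_int hK ht ih

omit hK [IsAlgClosed k] in
theorem mul_rem (ht : P.1 t = exp (-1 : ℤ)) (y : K) :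
    t * rem P t y = y - algebraMap k K (cst P y) := by
  unfold rem
  rw [mul_div_cancel₀ _ (t_ne_zero ht)]

omit hK [IsAlgClosed k] in
theorem expand (ht : P.1 t = exp (-1 : ℤ)) (y : K) (N : ℕ) :
    y = ∑ n ∈ Finset.range N, algebraMap k K (dig P t n y) * t ^ n + t ^ N * (rem P t)^[N] y := by
  induction N with
  | zero => simp
  | succ N ih =>
    rw [Finset.sum_range_succ, Function.iterate_succ_apply', pow_succ, mul_assoc, mul_rem ht]
    conv_lhs => rw [ih]
    unfold dig
    ring

omit hK [IsAlgClosed k] in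
theorem aeval_int (ht : P.1 t ≤ 1) (p : Polynomial k) : P.1 (Polynomial.aeval t p) ≤ 1 := by
  rw [Polynomial.aeval_eq_sum_range]
  apply Valuation.map_sum_le
  intro i _
  rw [Algebra.smul_def, map_mul, map_pow]
  exact mul_le_one' (P.2.1 _) (pow_le_one' ht i)

omit hK [IsAlgClosed k] in
/-- Uniqueness of digits. -/
theorem dig_eq_coeff (ht : P.1 t = exp (-1 : ℤ)) : ∀ (N : ℕ) (y : K) (p : Polynomial k),
    P.1 (y - Polynomial.aeval t p) ≤ exp (-(N : ℤ)) → ∀ n < N, dig P t n y = p.coeff n := by
  intro N
  induction N with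
  | zero => intro y p _ n hn; exact absurd hn (Nat.not_lt_zero n)
  | succ N ih =>
    intro y p hp n hn
    have htl : P.1 t ≤ 1 := (val_t_lt_one ht).le
    have hp' : Polynomial.aeval t p =
        Polynomial.aeval t p.divX * t + algebraMap k K (p.coeff 0) := by
      conv_lhs => rw [← Polynomial.divX_mul_X_add p]
      simp
    have h1 : P.1 (y - Polynomial.aeval t p) < 1 := by
      refine lt_of_le_of_lt hp ?_
      rw [← exp_zero, exp_lt_exp]
      push_cast
      omega
    have h2 : P.1 (Polynomial.aeval t p.divX * t) < 1 := by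
      rw [map_mul]
      exact lt_of_le_of_lt (mul_le_mul' (aeval_int htl _) le_rfl)
        (by rw [one_mul]; exact val_t_lt_one ht)
    have h3 : P.1 (y - algebraMap k K (p.coeff 0)) < 1 := by
      have : y - algebraMap k K (p.coeff 0) =
          (y - Polynomial.aeval t p) + Polynomial.aeval t p.divX * t := by
        rw [hp']; ring
      rw [this]
      exact Valuation.map_add_lt _ h1 h2
    have hc : cst P y = p.coeff 0 := cst_unique P h3
    cases n with
    | zero => rw [dig_zero, hc]
    | succ n =>
      rw [dig_succ, ← Polynomial.coeff_divX]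
      apply ih (rem P t y) p.divX _ n (by omega)
      have h4 : rem P t y - Polynomial.aeval t p.divX = (y - Polynomial.aeval t p) / t := by
        unfold rem
        rw [hc, hp']
        field_simp [t_ne_zero ht]
        ring
      rw [h4, map_div₀, div_le_iff₀ (by rw [ht]; exact exp_pos), ht, ← exp_add]
      refine hp.trans (le_of_eq ?_)
      congr 1
      push_cast
      ring

/-- The polynomial approximant of degree `< N`. -/
noncomputable def approx (P : Place k K) (t : K) (y : K) (N : ℕ) : Polynomial k :=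
  ∑ n ∈ Finset.range N, Polynomial.monomial n (dig P t n y)

omit hK [IsAlgClosed k] in
theorem coeff_approx (y : K) (N n : ℕ) :
    (approx P t y N).coeff n = if n < N then dig P t n y else 0 := by
  unfold approx
  rw [Polynomial.finsetSum_coeff]
  simp only [Polynomial.coeff_monomial]
  split_ifs with h
  · rw [Finset.sum_eq_single n]
    · simp
    · intro b _ hb; simp [hb]
    · intro hn; exact absurd (Finset.mem_range.2 h) hn
  · apply Finset.sum_eq_zero
    intro b hb
    have := Finset.mem_range.1 hb
    rw [if_neg (by omega)]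

omit hK [IsAlgClosed k] in
theorem aeval_approx (y : K) (N : ℕ) :
    Polynomial.aeval t (approx P t y N) =
      ∑ n ∈ Finset.range N, algebraMap k K (dig P t n y) * t ^ n := by
  unfold approx
  rw [map_sum]
  exact Finset.sum_congr rfl (fun n _ => Polynomial.aeval_monomial _)

theorem val_sub_approx (ht : P.1 t = exp (-1 : ℤ)) {y : K} (hy : P.1 y ≤ 1) (N : ℕ) :
    P.1 (y - Polynomial.aeval t (approx P t y N)) ≤ exp (-(N : ℤ)) := by
  rw [aeval_approx]
  have h1 : y - ∑ n ∈ Finset.range N, algebraMap k K (dig P t n y) * t ^ n =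
      t ^ N * (rem P t)^[N] y := by
    rw [sub_eq_iff_eq_add']
    exact expand ht y N
  rw [h1, map_mul, map_pow, ht, exp_neg_one_pow']
  exact (mul_le_mul' le_rfl (iterate_int hK ht hy N)).trans_eq (mul_one _)

theorem dig_add (ht : P.1 t = exp (-1 : ℤ)) {y z : K} (hy : P.1 y ≤ 1) (hz : P.1 z ≤ 1) (n : ℕ) :
    dig P t n (y + z) = dig P t n y + dig P t n z := by
  have h := dig_eq_coeff ht (n + 1) (y + z) (approx P t y (n + 1) + approx P t z (n + 1)) ?_ n
    (Nat.lt_succ_self n)
  · rw [h, Polynomial.coeff_add, coeff_approx, coeff_approx, if_pos (Nat.lt_succ_self n),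
      if_pos (Nat.lt_succ_self n)]
  · have : y + z - Polynomial.aeval t (approx P t y (n + 1) + approx P t z (n + 1)) =
        (y - Polynomial.aeval t (approx P t y (n + 1))) +
        (z - Polynomial.aeval t (approx P t z (n + 1))) := by
      rw [map_add]; ring
    rw [this]
    exact Valuation.map_add_le _ (val_sub_approx hK ht hy _) (val_sub_approx hK ht hz _)

theorem dig_mul (ht : P.1 t = exp (-1 : ℤ)) {y z : K} (hy : P.1 y ≤ 1) (hz : P.1 z ≤ 1) (n : ℕ) :
    dig P t n (y * z) =
      ∑ p ∈ Finset.HasAntidiagonal.antidiagonal n, dig P t p.1 y * dig P t p.2 z := by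
  have htl : P.1 t ≤ 1 := (val_t_lt_one ht).le
  have h := dig_eq_coeff ht (n + 1) (y * z) (approx P t y (n + 1) * approx P t z (n + 1)) ?_ n
    (Nat.lt_succ_self n)
  · rw [h, Polynomial.coeff_mul]
    refine Finset.sum_congr rfl (fun p hp => ?_)
    have hp' := Finset.HasAntidiagonal.mem_antidiagonal.1 hp
    rw [coeff_approx, coeff_approx, if_pos (by omega), if_pos (by omega)]
  · have : y * z - Polynomial.aeval t (approx P t y (n + 1) * approx P t z (n + 1)) =
        (y - Polynomial.aeval t (approx P t y (n + 1))) * z +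
        Polynomial.aeval t (approx P t y (n + 1)) *
          (z - Polynomial.aeval t (approx P t z (n + 1))) := by
      rw [map_mul]; ring
    rw [this]
    apply Valuation.map_add_le
    · rw [map_mul]
      exact (mul_le_mul' (val_sub_approx hK ht hy _) hz).trans_eq (mul_one _)
    · rw [map_mul]
      exact (mul_le_mul' (aeval_int htl _) (val_sub_approx hK ht hz _)).trans_eq (one_mul _)

omit hK [IsAlgClosed k] in
theorem dig_algebraMap (ht : P.1 t = exp (-1 : ℤ)) (c : k) (n : ℕ) :
    dig P t n (algebraMap k K c) = if n = 0 then c else 0 := by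
  have h := dig_eq_coeff ht (n + 1) (algebraMap k K c) (Polynomial.C c) (by simp) n
    (Nat.lt_succ_self n)
  rw [h, Polynomial.coeff_C]

omit hK [IsAlgClosed k] in
theorem dig_t (ht : P.1 t = exp (-1 : ℤ)) (n : ℕ) :
    dig P t n t = if n = 1 then 1 else 0 := by
  have h := dig_eq_coeff ht (n + 1) t Polynomial.X (by simp) n (Nat.lt_succ_self n)
  rw [h, Polynomial.coeff_X]
  simp only [eq_comm]

omit hK [IsAlgClosed k] in
theorem dig_eq_zero_of_val_le (ht : P.1 t = exp (-1 : ℤ)) {y : K} {N : ℕ}
    (hy : P.1 y ≤ exp (-(N : ℤ))) : ∀ n < N, dig P t n y = 0 := by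
  intro n hn
  have h := dig_eq_coeff ht N y 0 (by simpa using hy) n hn
  rw [h, Polynomial.coeff_zero]

theorem val_le_of_dig_eq_zero (ht : P.1 t = exp (-1 : ℤ)) {y : K} (hy : P.1 y ≤ 1) {N : ℕ}
    (h : ∀ n < N, dig P t n y = 0) : P.1 y ≤ exp (-(N : ℤ)) := by
  have h1 := val_sub_approx hK ht hy N
  rw [aeval_approx, Finset.sum_eq_zero, sub_zero] at h1
  · exact h1
  · intro n hn
    rw [h n (Finset.mem_range.1 hn), map_zero, zero_mul]

theorem eq_zero_of_dig_eq_zero (ht : P.1 t = exp (-1 : ℤ)) {y : K} (hy : P.1 y ≤ 1)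
    (h : ∀ n, dig P t n y = 0) : y = 0 := by
  by_contra hne
  have h1 := val_le_of_dig_eq_zero hK ht hy (N := (P.ord y).toNat + 1) (fun n _ => h n)
  rw [pl_val_eq_exp_neg_ord P hne, exp_le_exp] at h1
  have := Int.self_le_toNat (P.ord y)
  push_cast at h1
  omega

theorem dig_smul (ht : P.1 t = exp (-1 : ℤ)) {y : K} (hy : P.1 y ≤ 1) (c : k) (n : ℕ) :
    dig P t n (c • y) = c * dig P t n y := by
  have h := dig_eq_coeff ht (n + 1) (c • y) (Polynomial.C c * approx P t y (n + 1)) ?_ n
    (Nat.lt_succ_self n)
  · rw [h, Polynomial.coeff_C_mul, coeff_approx, if_pos (Nat.lt_succ_self n)]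
  · have : c • y - Polynomial.aeval t (Polynomial.C c * approx P t y (n + 1)) =
        algebraMap k K c * (y - Polynomial.aeval t (approx P t y (n + 1))) := by
      rw [map_mul, Polynomial.aeval_C, Algebra.smul_def]; ring
    rw [this, map_mul]
    exact (mul_le_mul' (P.2.1 c) (val_sub_approx hK ht hy _)).trans_eq (one_mul _)

theorem dig_sum (ht : P.1 t = exp (-1 : ℤ)) {ι : Type*} (s : Finset ι) (f : ι → K)
    (hf : ∀ i ∈ s, P.1 (f i) ≤ 1) (n : ℕ) :
    dig P t n (∑ i ∈ s, f i) = ∑ i ∈ s, dig P t n (f i) := by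
  classical
  induction s using Finset.induction_on with
  | empty =>
    have := dig_algebraMap (P := P) ht (0 : k) n
    rw [map_zero] at this
    rw [Finset.sum_empty, Finset.sum_empty, this]
    split_ifs <;> rfl
  | insert a s ha ih =>
    rw [Finset.sum_insert ha, Finset.sum_insert ha,
      dig_add hK ht (hf a (Finset.mem_insert_self a s))
        (Valuation.map_sum_le _ (fun i hi => hf i (Finset.mem_insert_of_mem hi))),
      ih (fun i hi => hf i (Finset.mem_insert_of_mem hi))]

omit hK [IsAlgClosed k] in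
theorem val_smul_le {y : K} (hy : P.1 y ≤ 1) (c : k) : P.1 (c • y) ≤ 1 := by
  rw [Algebra.smul_def, map_mul]
  exact mul_le_one' (P.2.1 c) hy

end Dig

section RingHom

variable [IsAlgClosed k] (hK : IsFunctionField k K) (P : Place k K) (t : K)
  (ht : P.1 t = exp (-1 : ℤ))

/-- The expansion of `y` as a power series (meaningful when `y` is integral at `P`). -/
noncomputable def Efun (y : K) : PowerSeries k := PowerSeries.mk (fun n => dig P t n y)

@[simp] theorem coeff_Efun (n : ℕ) (y : K) : PowerSeries.coeff n (Efun P t y) = dig P t n y :=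
  PowerSeries.coeff_mk _ _

theorem mem_O {y : K} : y ∈ P.O ↔ P.1 y ≤ 1 := Valuation.mem_valuationSubring_iff P.1 y

/-- The expansion homomorphism on the valuation ring. -/
noncomputable def E0 : P.O →+* PowerSeries k where
  toFun y := Efun P t (y : K)
  map_one' := by
    ext n
    rw [coeff_Efun, PowerSeries.coeff_one]
    have := dig_algebraMap (P := P) ht (1 : k) n
    rw [map_one] at this
    exact this
  map_mul' y z := by
    ext n
    rw [coeff_Efun, PowerSeries.coeff_mul]
    simp only [coeff_Efun]
    exact dig_mul hK ht ((mem_O P).1 y.2) ((mem_O P).1 z.2) n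
  map_zero' := by
    ext n
    rw [coeff_Efun, map_zero]
    have := dig_algebraMap (P := P) ht (0 : k) n
    rw [map_zero] at this
    rw [show ((0 : P.O) : K) = 0 from rfl, this]
    split_ifs <;> rfl
  map_add' y z := by
    ext n
    rw [coeff_Efun, map_add, coeff_Efun, coeff_Efun]
    exact dig_add hK ht ((mem_O P).1 y.2) ((mem_O P).1 z.2) n

theorem E0_apply (y : P.O) : E0 hK P t ht y = Efun P t (y : K) := rfl

theorem E0_injective : Function.Injective (E0 hK P t ht) := by
  rw [injective_iff_map_eq_zero]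
  intro y hy
  apply Subtype.ext
  apply eq_zero_of_dig_eq_zero hK ht ((mem_O P).1 y.2)
  intro n
  have := congrArg (PowerSeries.coeff n) hy
  rw [E0_apply, coeff_Efun, map_zero] at this
  exact this

/-- The induced map of fraction fields. -/
noncomputable def Efrac : K →+* FractionRing (PowerSeries k) :=
  IsFractionRing.lift (A := P.O) (K := K)
    (g := (algebraMap (PowerSeries k) (FractionRing (PowerSeries k))).comp (E0 hK P t ht))
    ((IsFractionRing.injective _ _).comp (E0_injective hK P t ht))

theorem Efrac_algebraMap (y : P.O) :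
    Efrac hK P t ht (algebraMap P.O K y) =
      algebraMap (PowerSeries k) (FractionRing (PowerSeries k)) (E0 hK P t ht y) :=
  IsFractionRing.lift_algebraMap _ y

theorem val_le_one_of_Efrac {z : K} {p : PowerSeries k}
    (h : Efrac hK P t ht z = algebraMap (PowerSeries k) (FractionRing (PowerSeries k)) p) :
    P.1 z ≤ 1 := by
  by_contra hz
  push Not at hz
  have hz0 : z ≠ 0 := by
    rintro rfl
    rw [map_zero] at hz
    exact absurd hz (by simp)
  have hzi : P.1 z⁻¹ < 1 := by
    rw [map_inv₀]
    exact inv_lt_one_of_one_lt₀ hz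
  let w : P.O := ⟨z⁻¹, (mem_O P).2 hzi.le⟩
  have h1 : Efrac hK P t ht z * Efrac hK P t ht (algebraMap P.O K w) = 1 := by
    rw [← map_mul]
    have : z * algebraMap P.O K w = 1 := mul_inv_cancel₀ hz0
    rw [this, map_one]
  rw [h, Efrac_algebraMap, ← map_mul] at h1
  have h2 : p * E0 hK P t ht w = 1 :=
    IsFractionRing.injective (PowerSeries k) (FractionRing (PowerSeries k))
      (by rw [h1, map_one])
  have h3 := congrArg PowerSeries.constantCoeff h2
  rw [map_mul, map_one, ← PowerSeries.coeff_zero_eq_constantCoeff_apply (E0 hK P t ht w),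
    E0_apply, coeff_Efun, dig_zero, cst_eq_zero P hzi, mul_zero] at h3
  exact zero_ne_one h3

variable {t} {H : K →ₐ[k] PowerSeries K} (hH : LocRes.IsHasseFamily t H)
include hH hK ht

theorem Efrac_hasseD (y : P.O) (j : ℕ) :
    Efrac hK P t ht (LocRes.hasseD H j (y : K)) =
      algebraMap (PowerSeries k) (FractionRing (PowerSeries k))
        (Groth.Agent.H27.Hasse.hd j (E0 hK P t ht y)) := by
  have htO : P.1 t ≤ 1 := (val_t_lt_one ht).le
  refine Groth.Agent.H27.Hasse.expansion_hasse hK hH (RingHom.id k) (E0 hK P t ht)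
    (E0_injective hK P t ht) ⟨t, (mem_O P).2 htO⟩ rfl ?_ ?_ (Efrac hK P t ht)
    (Efrac_algebraMap hK P t ht) y j
  · ext n
    rw [E0_apply, coeff_Efun, PowerSeries.coeff_X]
    exact dig_t ht n
  · intro c
    refine ⟨algebraMap k P.O c, rfl, ?_⟩
    ext n
    rw [E0_apply, coeff_Efun, PowerSeries.coeff_C]
    exact dig_algebraMap ht c n

/-- Hasse derivatives with respect to a local parameter preserve the valuation ring. -/
theorem hasseD_int {y : K} (hy : P.1 y ≤ 1) (j : ℕ) : P.1 (LocRes.hasseD H j y) ≤ 1 :=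
  val_le_one_of_Efrac hK P t ht (Efrac_hasseD hK P ht hH ⟨y, (mem_O P).2 hy⟩ j)

/-- The expansion of a Hasse derivative. -/
theorem dig_hasseD {y : K} (hy : P.1 y ≤ 1) (j n : ℕ) :
    dig P t n (LocRes.hasseD H j y) = ((n + j).choose j : k) * dig P t (n + j) y := by
  have h1 := Efrac_hasseD hK P ht hH ⟨y, (mem_O P).2 hy⟩ j
  have h2 := Efrac_algebraMap hK P t ht
    ⟨LocRes.hasseD H j y, (mem_O P).2 (hasseD_int hK P ht hH hy j)⟩
  have h3 : E0 hK P t ht ⟨LocRes.hasseD H j y, (mem_O P).2 (hasseD_int hK P ht hH hy j)⟩ =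
      Groth.Agent.H27.Hasse.hd j (E0 hK P t ht ⟨y, (mem_O P).2 hy⟩) :=
    IsFractionRing.injective (PowerSeries k) (FractionRing (PowerSeries k)) (h2.symm.trans h1)
  have h4 := congrArg (PowerSeries.coeff n) h3
  rw [E0_apply, coeff_Efun, Groth.Agent.H27.Hasse.coeff_hd, E0_apply, coeff_Efun] at h4
  exact h4

theorem cst_hasseD {y : K} (hy : P.1 y ≤ 1) (j : ℕ) :
    cst P (LocRes.hasseD H j y) = dig P t j y := by
  have := dig_hasseD hK P ht hH hy j 0
  rw [dig_zero, zero_add, Nat.choose_self, Nat.cast_one, one_mul] at this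
  exact this

end RingHom

section EvalP

variable [IsAlgClosed k] (hK : IsFunctionField k K) (P : Place k K)

/-- The identification of `k` with the residue field. -/
noncomputable def resHom : k →+* IsLocalRing.ResidueField P.O :=
  (IsLocalRing.residue P.O).comp (algebraMap k P.O)

include hK

theorem resHom_bijective : Function.Bijective (resHom P) := algebraMap_res_bijective P hK

theorem evalP_eq {y : K} (hy : P.1 y ≤ 1) : evalP P y = resHom P (cst P y) := by
  unfold evalP
  rw [dif_pos hy]
  have h1 := cst_spec P hK hy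
  have h2 : (⟨y, (Valuation.mem_valuationSubring_iff P.1 y).mpr hy⟩ : P.O) -
      algebraMap k P.O (cst P y) ∈ IsLocalRing.maximalIdeal P.O := by
    rw [mem_maximalIdeal_iff]
    exact h1
  rw [← IsLocalRing.residue_eq_zero_iff, map_sub, sub_eq_zero] at h2
  rw [h2]
  rfl

end EvalP

end Groth.Agent.H27.Expn
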