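import Mathlib
import Groth.Prelude.Def_W4bk4goldsch45p2
import Groth.Agent.H27.Expn

/-!
Orders of a projective map at a place: jumps of the matrix of values of Hasse derivatives in terms
of orders of functions in the span.
-/

set_option autoImplicit false

namespace Groth.Agent.H27.LocOrd

open FunFld WithZero Groth.Agent.H55 Groth.Agent.H27.Expn

section Dual

theorem isJump_iff_exists_dual {R : Type*} [Field R] {N : ℕ} (c : ℕ → (Fin N → R)) (j : ℕ) :
    IsJump R c j ↔ ∃ lam : Fin N → R, (∀ m < j, ∑ i, lam i * c m i = 0) ∧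
      ∑ i, lam i * c j i ≠ 0 := by
  classical
  constructor
  · intro h
    obtain ⟨f, hf1, hf2⟩ := Submodule.exists_dual_map_eq_bot_of_notMem h inferInstance
    have hfv : ∀ v : Fin N → R, f v = ∑ i, f (fun j => if i = j then 1 else 0) * v i := by
      intro v
      rw [LinearMap.pi_apply_eq_sum_univ f v]
      exact Finset.sum_congr rfl (fun i _ => by rw [smul_eq_mul, mul_comm])
    refine ⟨fun i => f (fun j => if i = j then 1 else 0), ?_, ?_⟩
    · intro m hm
      rw [← hfv]
      have : f (c m) ∈ (Submodule.span R (c '' Set.Iio j)).map f :=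
        Submodule.mem_map_of_mem (Submodule.subset_span ⟨m, hm, rfl⟩)
      rw [hf2] at this
      exact (Submodule.mem_bot R).1 this
    · rw [← hfv]
      exact hf1
  · rintro ⟨lam, h1, h2⟩ hmem
    apply h2
    let g : (Fin N → R) →ₗ[R] R :=
      { toFun := fun v => ∑ i, lam i * v i
        map_add' := fun v w => by simp [mul_add, Finset.sum_add_distrib]
        map_smul' := fun a v => by simp [Finset.mul_sum, mul_left_comm] }
    have hle : Submodule.span R (c '' Set.Iio j) ≤ LinearMap.ker g := by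
      rw [Submodule.span_le]
      rintro _ ⟨m, hm, rfl⟩
      exact h1 m hm
    exact hle hmem

end Dual

section Local

variable {k K : Type*} [Field k] [IsAlgClosed k] [Field K] [Algebra k K]
  (hK : IsFunctionField k K) (P : Place k K) {t : K} (ht : P.1 t = exp (-1 : ℤ))
  {Ht : K →ₐ[k] PowerSeries K} (hHt : LocRes.IsHasseFamily t Ht)

include hK ht

theorem val_eq_exp_iff {y : K} (hy : P.1 y ≤ 1) (j : ℕ) :
    P.1 y = exp (-(j : ℤ)) ↔ (∀ m < j, dig P t m y = 0) ∧ dig P t j y ≠ 0 := by
  constructor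
  · intro h
    refine ⟨dig_eq_zero_of_val_le ht h.le, fun h0 => ?_⟩
    have h1 : P.1 y ≤ exp (-((j + 1 : ℕ) : ℤ)) :=
      val_le_of_dig_eq_zero hK ht hy (fun m hm => by
        rcases Nat.lt_succ_iff_lt_or_eq.1 hm with h' | h'
        · exact dig_eq_zero_of_val_le ht h.le m h'
        · rw [h']; exact h0)
    rw [h, exp_le_exp] at h1
    push_cast at h1
    omega
  · rintro ⟨h1, h2⟩
    apply le_antisymm (val_le_of_dig_eq_zero hK ht hy h1)
    by_contra hlt
    push Not at hlt
    rw [zm0_lt_exp_iff] at hlt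
    apply h2
    refine dig_eq_zero_of_val_le ht (N := j + 1) ?_ j (Nat.lt_succ_self j)
    refine hlt.trans (le_of_eq ?_)
    congr 1
    push_cast
    ring

theorem dig_lincomb {ι : Type*} [Fintype ι] (φ : ι → K) (hint : ∀ i, P.1 (φ i) ≤ 1) (μ : ι → k)
    (j : ℕ) : dig P t j (∑ i, μ i • φ i) = ∑ i, μ i * dig P t j (φ i) := by
  rw [dig_sum hK ht _ _ (fun i _ => val_smul_le (hint i) (μ i))]
  exact Finset.sum_congr rfl (fun i _ => dig_smul hK ht (hint i) (μ i) j)

omit hK ht in
theorem val_lincomb_le {ι : Type*} [Fintype ι] (φ : ι → K) (hint : ∀ i, P.1 (φ i) ≤ 1)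
    (μ : ι → k) : P.1 (∑ i, μ i • φ i) ≤ 1 :=
  Valuation.map_sum_le _ (fun i _ => val_smul_le (hint i) (μ i))

include hHt

theorem hcolAt_zero_apply {ι : Type*} (φ : ι → K) (hint : ∀ i, P.1 (φ i) ≤ 1) (i : ι) :
    hcolAt P Ht φ 0 i = resHom P (dig P t 0 (φ i)) := by
  show evalP P (φ i) = _
  rw [evalP_eq hK P (hint i), dig_zero]

theorem hcolAt_succ_apply {ι : Type*} (φ : ι → K) (hint : ∀ i, P.1 (φ i) ≤ 1) (j : ℕ) (i : ι) :
    hcolAt P Ht φ (j + 1) i = resHom P (dig P t j (φ i)) := by
  show evalP P (LocRes.hasseD Ht j (φ i)) = _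
  rw [evalP_eq hK P (hasseD_int hK P ht hHt (hint i) j), cst_hasseD hK P ht hHt (hint i) j]

/-- `j` is an order at `P` (jump index `j + 1` of the matrix of values) iff `j ≥ 1` and some
function in the span has order `j` at `P`. -/
theorem isJump_hcolAt_succ_iff {n : ℕ} (φ : Fin n → K) (hint : ∀ i, P.1 (φ i) ≤ 1) (j : ℕ) :
    IsJump (IsLocalRing.ResidueField P.O) (hcolAt P Ht φ) (j + 1) ↔
      1 ≤ j ∧ ∃ f ∈ Submodule.span k (Set.range φ), P.1 f = exp (-(j : ℤ)) := by
  have hbij := resHom_bijective hK P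
  rw [isJump_iff_exists_dual]
  constructor
  · rintro ⟨lam, h1, h2⟩
    choose μ hμ using fun i => hbij.2 (lam i)
    have hf : P.1 (∑ i, μ i • φ i) ≤ 1 := val_lincomb_le P φ hint μ
    have key : ∀ m, ∑ i, lam i * resHom P (dig P t m (φ i)) =
        resHom P (dig P t m (∑ i, μ i • φ i)) := by
      intro m
      rw [dig_lincomb hK P ht φ hint μ m, map_sum]
      exact Finset.sum_congr rfl (fun i _ => by rw [map_mul, hμ])
    have h0 : dig P t 0 (∑ i, μ i • φ i) = 0 := by
      have := h1 0 (Nat.succ_pos j)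
      simp only [hcolAt_zero_apply hK P ht hHt φ hint] at this
      rw [key 0] at this
      exact (map_eq_zero_iff _ (resHom P).injective).1 this
    have hm : ∀ m < j, dig P t m (∑ i, μ i • φ i) = 0 := by
      intro m hm
      have := h1 (m + 1) (Nat.succ_lt_succ hm)
      simp only [hcolAt_succ_apply hK P ht hHt φ hint] at this
      rw [key m] at this
      exact (map_eq_zero_iff _ (resHom P).injective).1 this
    have hj : dig P t j (∑ i, μ i • φ i) ≠ 0 := by
      simp only [hcolAt_succ_apply hK P ht hHt φ hint] at h2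
      rw [key j] at h2
      exact fun h => h2 (by rw [h, map_zero])
    have hj1 : 1 ≤ j := by
      by_contra h
      have : j = 0 := by omega
      subst this
      exact hj h0
    refine ⟨hj1, ∑ i, μ i • φ i, ?_, (val_eq_exp_iff hK P ht hf j).2 ⟨hm, hj⟩⟩
    exact Submodule.sum_mem _ (fun i _ => Submodule.smul_mem _ _ (Submodule.subset_span ⟨i, rfl⟩))
  · rintro ⟨hj1, f, hf, hfv⟩
    obtain ⟨μ, rfl⟩ := (Submodule.mem_span_range_iff_exists_fun k).1 hf
    have hf1 : P.1 (∑ i, μ i • φ i) ≤ 1 := val_lincomb_le P φ hint μ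
    obtain ⟨hm, hj⟩ := (val_eq_exp_iff hK P ht hf1 j).1 hfv
    have key : ∀ m, ∑ i, resHom P (μ i) * resHom P (dig P t m (φ i)) =
        resHom P (dig P t m (∑ i, μ i • φ i)) := by
      intro m
      rw [dig_lincomb hK P ht φ hint μ m, map_sum]
      exact Finset.sum_congr rfl (fun i _ => by rw [map_mul])
    refine ⟨fun i => resHom P (μ i), ?_, ?_⟩
    · intro m hmlt
      cases m with
      | zero =>
        simp only [hcolAt_zero_apply hK P ht hHt φ hint]
        rw [key 0, hm 0 (by omega), map_zero]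
      | succ m' =>
        simp only [hcolAt_succ_apply hK P ht hHt φ hint]
        rw [key m', hm m' (by omega), map_zero]
    · simp only [hcolAt_succ_apply hK P ht hHt φ hint]
      rw [key j]
      exact fun h => hj ((map_eq_zero_iff _ (resHom P).injective).1 h)

end Local

section Indep

variable {k K : Type*} [Field k] [Field K] [Algebra k K]

/-- (After `Groth.Agent.H55.eq_zero_of_sum_eq_zero_of_ord_injOn`.) A `k`-linear combination of
nonzero elements with pairwise distinct orders at `P` vanishes only if all coefficients vanish. -/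
theorem eq_zero_of_sum_eq_zero_of_ord_injOn {ι : Type*} (P : Place k K) (s : Finset ι)
    (c : ι → k) (u : ι → K) (hu : ∀ i ∈ s, u i ≠ 0)
    (hinj : Set.InjOn (fun i => P.ord (u i)) (s : Set ι))
    (h : ∑ i ∈ s, c i • u i = 0) : ∀ i ∈ s, c i = 0 := by
  classical
  by_contra hcon
  rw [not_forall] at hcon
  obtain ⟨j, hj⟩ := hcon
  rw [Classical.not_imp] at hj
  set T := s.filter (fun i => c i ≠ 0) with hT
  have hTne : T.Nonempty := ⟨j, Finset.mem_filter.mpr hj⟩
  obtain ⟨i₀, hi₀, hmax⟩ := Finset.exists_max_image T (fun i => P.1 (u i)) hTne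
  have hi₀s : i₀ ∈ s := (Finset.mem_filter.mp hi₀).1
  have hci₀ : c i₀ ≠ 0 := (Finset.mem_filter.mp hi₀).2
  have hval : ∀ i, c i ≠ 0 → P.1 (c i • u i) = P.1 (u i) := fun i hi => pl_val_smul P hi _
  have hne0 : P.1 (u i₀) ≠ 0 := (P.1.ne_zero_iff).mpr (hu i₀ hi₀s)
  have hlt : P.1 (∑ i ∈ s.erase i₀, c i • u i) < P.1 (u i₀) := by
    apply Valuation.map_sum_lt _ hne0
    intro i hi
    have his : i ∈ s := Finset.mem_of_mem_erase hi
    have hne : i ≠ i₀ := Finset.ne_of_mem_erase hi
    by_cases hci : c i = 0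
    · rw [hci, zero_smul, map_zero]; exact zero_lt_iff.mpr hne0
    · rw [hval i hci]
      have hiT : i ∈ T := Finset.mem_filter.mpr ⟨his, hci⟩
      refine lt_of_le_of_ne (hmax i hiT) ?_
      intro heq
      apply hne
      apply hinj his hi₀s
      change P.ord (u i) = P.ord (u i₀)
      unfold Place.ord
      rw [heq]
  have hsum : ∑ i ∈ s, c i • u i = c i₀ • u i₀ + ∑ i ∈ s.erase i₀, c i • u i :=
    (Finset.add_sum_erase s _ hi₀s).symm
  rw [hsum] at h
  have h2 : P.1 (c i₀ • u i₀ + ∑ i ∈ s.erase i₀, c i • u i) = P.1 (c i₀ • u i₀) := by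
    apply Valuation.map_add_eq_of_lt_left
    rw [hval i₀ hci₀]; exact hlt
  rw [h, map_zero, hval i₀ hci₀] at h2
  exact hne0 h2.symm

theorem linearIndependent_of_ord_injective {ι : Type*} [Fintype ι] (P : Place k K) (u : ι → K)
    (hu : ∀ i, u i ≠ 0) (hinj : Function.Injective (fun i => P.ord (u i))) :
    LinearIndependent k u := by
  rw [Fintype.linearIndependent_iff]
  intro c hc i
  exact eq_zero_of_sum_eq_zero_of_ord_injOn P Finset.univ c u (fun i _ => hu i)
    (hinj.injOn) hc i (Finset.mem_univ i)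

end Indep

section Adapted

variable {k K : Type*} [Field k] [IsAlgClosed k] [Field K] [Algebra k K]
  (hK : IsFunctionField k K) (P : Place k K) {t : K} (ht : P.1 t = exp (-1 : ℤ))
  {Ht : K →ₐ[k] PowerSeries K} (hHt : LocRes.IsHasseFamily t Ht)

omit [IsAlgClosed k] in
include ht in
theorem cst_div_pow {y : K} {j : ℕ} (hy : P.1 y ≤ exp (-(j : ℤ))) :
    P.1 (y / t ^ j) ≤ 1 ∧ cst P (y / t ^ j) = dig P t j y := by
  have h1 := expand ht y j
  rw [Finset.sum_eq_zero (fun m hm => by
    rw [dig_eq_zero_of_val_le ht hy m (Finset.mem_range.1 hm), map_zero, zero_mul]),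
    zero_add] at h1
  have h2 : y / t ^ j = (rem P t)^[j] y := by
    rw [div_eq_iff (pow_ne_zero _ (t_ne_zero ht)), mul_comm]
    exact h1
  refine ⟨?_, by rw [h2]; rfl⟩
  rw [map_div₀, map_pow, ht, exp_neg_one_pow', div_le_one₀ exp_pos]
  exact hy

include hK ht hHt in
/-- An adapted basis of the span of a normalized effective projective map. -/
theorem exists_adapted {n : ℕ} (φ : Fin (n + 1) → K) (hφ : LinearIndependent k φ)
    (heff : (1 : K) ∈ Submodule.span k (Set.range φ)) (hint : ∀ i, P.1 (φ i) ≤ 1)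
    (J' : Fin n → ℕ)
    (hJ' : IsOrders (IsLocalRing.ResidueField P.O) (hcolAt P Ht φ) J') :
    ∃ φ' : Fin (n + 1) → K, LinearIndependent k φ' ∧
      Submodule.span k (Set.range φ') = Submodule.span k (Set.range φ) ∧ φ' 0 = 1 ∧
      ∀ l : Fin n, 1 ≤ J' l ∧ P.1 (φ' l.succ) = exp (-(J' l : ℤ)) ∧
        dig P t (J' l) (φ' l.succ) = 1 := by
  classical
  have hVint : ∀ f ∈ Submodule.span k (Set.range φ), P.1 f ≤ 1 := by
    intro f hf
    obtain ⟨μ, rfl⟩ := (Submodule.mem_span_range_iff_exists_fun k).1 hf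
    exact val_lincomb_le P φ hint μ
  have hex : ∀ l : Fin n, 1 ≤ J' l ∧
      ∃ f ∈ Submodule.span k (Set.range φ), P.1 f = exp (-(J' l : ℤ)) := fun l =>
    (isJump_hcolAt_succ_iff hK P ht hHt φ hint (J' l)).1 ((hJ'.2 (J' l)).1 ⟨l, rfl⟩)
  choose hJ1 f hfV hfv using hex
  have hdig : ∀ l, dig P t (J' l) (f l) ≠ 0 := fun l =>
    ((val_eq_exp_iff hK P ht (hVint _ (hfV l)) (J' l)).1 (hfv l)).2
  let g : Fin n → K := fun l => (dig P t (J' l) (f l))⁻¹ • f l
  have hgV : ∀ l, g l ∈ Submodule.span k (Set.range φ) := fun l =>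
    Submodule.smul_mem _ _ (hfV l)
  have hgv : ∀ l, P.1 (g l) = exp (-(J' l : ℤ)) := fun l => by
    rw [pl_val_smul P (inv_ne_zero (hdig l)), hfv l]
  have hgd : ∀ l, dig P t (J' l) (g l) = 1 := fun l => by
    rw [dig_smul hK ht (hVint _ (hfV l)), inv_mul_cancel₀ (hdig l)]
  let φ' : Fin (n + 1) → K := Fin.cons 1 g
  have hφ'0 : φ' 0 = 1 := rfl
  have hφ's : ∀ l : Fin n, φ' l.succ = g l := fun l => by simp [φ']
  have hφ'V : ∀ i, φ' i ∈ Submodule.span k (Set.range φ) := by
    intro i
    induction i using Fin.cases with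
    | zero => exact heff
    | succ l => rw [hφ's]; exact hgV l
  have hord : ∀ i : Fin (n + 1), P.ord (φ' i) = Fin.cases (0 : ℤ) (fun l => (J' l : ℤ)) i := by
    intro i
    induction i using Fin.cases with
    | zero => rw [hφ'0, pl_ord_one]; rfl
    | succ l =>
      rw [hφ's, pl_ord_eq_of_val_eq P (hgv l), neg_neg]
      simp
  have hne : ∀ i, φ' i ≠ 0 := by
    intro i
    induction i using Fin.cases with
    | zero => rw [hφ'0]; exact one_ne_zero
    | succ l =>
      rw [hφ's]
      intro h0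
      have := hgv l
      rw [h0, map_zero] at this
      exact exp_ne_zero this.symm
  have hinj : Function.Injective (fun i => P.ord (φ' i)) := by
    intro a b hab
    simp only [hord] at hab
    induction a using Fin.cases with
    | zero =>
      induction b using Fin.cases with
      | zero => rfl
      | succ b =>
        simp only [Fin.cases_zero, Fin.cases_succ] at hab
        have := hJ1 b
        omega
    | succ a =>
      induction b using Fin.cases with
      | zero =>
        simp only [Fin.cases_zero, Fin.cases_succ] at hab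
        have := hJ1 a
        omega
      | succ b =>
        simp only [Fin.cases_succ] at hab
        exact congrArg Fin.succ (hJ'.1.injective (by exact_mod_cast hab))
  have hli : LinearIndependent k φ' := linearIndependent_of_ord_injective P φ' hne hinj
  refine ⟨φ', hli, ?_, hφ'0, fun l => ⟨hJ1 l, by rw [hφ's]; exact hgv l,
    by rw [hφ's]; exact hgd l⟩⟩
  have hle : Submodule.span k (Set.range φ') ≤ Submodule.span k (Set.range φ) := by
    rw [Submodule.span_le]
    rintro _ ⟨i, rfl⟩
    exact hφ'V i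
  haveI : FiniteDimensional k (Submodule.span k (Set.range φ)) :=
    FiniteDimensional.span_of_finite k (Set.finite_range φ)
  exact Submodule.eq_of_le_of_finrank_eq hle
    (by rw [finrank_span_eq_card hli, finrank_span_eq_card hφ])

end Adapted

end Groth.Agent.H27.LocOrd
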