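import Mathlib
import Groth.Prelude.Def_W4bk4goldsch45p2
import Groth.Agent.H27.LocOrd

/-!
Valuations of determinants from leading coefficients at a place; behaviour of fixed points.
-/

set_option autoImplicit false

namespace Groth.Agent.H27.LocDet

open FunFld WithZero Groth.Agent.H55 Groth.Agent.H27.Expn Groth.Agent.H27.LocOrd

theorem prod_exp {N : ℕ} (f : Fin N → ℤ) :
    ∏ l, (exp (f l) : WithZero (Multiplicative ℤ)) = exp (∑ l, f l) := by
  induction N with
  | zero => simp
  | succ N ih => rw [Fin.prod_univ_succ, Fin.sum_univ_succ, ih, exp_add]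

variable {k K : Type*} [Field k] [IsAlgClosed k] [Field K] [Algebra k K]
  (hK : IsFunctionField k K) (P : Place k K) {t : K} (ht : P.1 t = exp (-1 : ℤ))

omit [IsAlgClosed k] in
include ht in
theorem val_t_zpow (z : ℤ) : P.1 (t ^ z) = exp (-z) := by
  rw [map_zpow₀, ht, ← exp_zsmul]
  congr 1
  simp

include hK in
theorem val_lt_one_iff_cst {y : K} (hy : P.1 y ≤ 1) : P.1 y < 1 ↔ cst P y = 0 :=
  ⟨cst_eq_zero P, fun h => by
    have := cst_spec P hK hy
    rwa [h, map_zero, sub_zero] at this⟩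

/-- The constant term as a ring homomorphism on the valuation ring. -/
noncomputable def cstHom : P.O →+* k :=
  (PowerSeries.constantCoeff (R := k)).comp (E0 hK P t ht)

theorem cstHom_apply (y : P.O) : cstHom hK P ht y = cst P (y : K) := by
  show PowerSeries.constantCoeff (E0 hK P t ht y) = _
  rw [← PowerSeries.coeff_zero_eq_constantCoeff_apply, E0_apply, coeff_Efun, dig_zero]

include hK ht in
/-- The valuation of a determinant from the leading coefficients of its entries. -/
theorem val_det_of_leading {N : ℕ} (M : Matrix (Fin N) (Fin N) K) (r s : Fin N → ℤ)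
    (hM : ∀ l c, P.1 (M l c / t ^ (r l - s c)) ≤ 1) :
    P.1 M.det ≤ exp (-(∑ l, r l - ∑ c, s c)) ∧
    (P.1 M.det = exp (-(∑ l, r l - ∑ c, s c)) ↔
      (Matrix.of fun l c => cst P (M l c / t ^ (r l - s c))).det ≠ 0) := by
  classical
  have ht0 := t_ne_zero ht
  let M' : Matrix (Fin N) (Fin N) P.O :=
    Matrix.of fun l c => ⟨M l c / t ^ (r l - s c), (mem_O P).2 (hM l c)⟩
  have hMeq : M = Matrix.of fun l c => t ^ (r l) *
      (Matrix.of fun l' c' => t ^ (-(s c')) * ((M' l' c' : P.O) : K)) l c := by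
    ext l c
    simp only [Matrix.of_apply, M']
    rw [zpow_sub₀ ht0, zpow_neg]
    field_simp
  have hdet : M.det = (∏ l, t ^ (r l)) * ((∏ c, t ^ (-(s c))) * ((M'.det : P.O) : K)) := by
    have hd2 : (Matrix.of fun l' c' => ((M' l' c' : P.O) : K)).det = ((M'.det : P.O) : K) := by
      have : (Matrix.of fun l' c' => ((M' l' c' : P.O) : K)) =
          (algebraMap P.O K).mapMatrix M' := by
        ext
        rfl
      rw [this, ← RingHom.map_det]
      rfl
    conv_lhs => rw [hMeq]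
    rw [Matrix.det_mul_column, Matrix.det_mul_row]
    exact congrArg (fun x => (∏ l, t ^ (r l)) * ((∏ c, t ^ (-(s c))) * x)) hd2
  have hval : P.1 M.det = exp (-(∑ l, r l - ∑ c, s c)) * P.1 ((M'.det : P.O) : K) := by
    rw [hdet, map_mul, map_mul, map_prod, map_prod]
    simp only [val_t_zpow P ht]
    rw [prod_exp, prod_exp, ← mul_assoc, ← exp_add]
    congr 2
    simp only [neg_neg, Finset.sum_neg_distrib]
    ring
  have hint : P.1 ((M'.det : P.O) : K) ≤ 1 := (mem_O P).1 M'.det.2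
  have hcst : cst P ((M'.det : P.O) : K) =
      (Matrix.of fun l c => cst P (M l c / t ^ (r l - s c))).det := by
    rw [← cstHom_apply hK P ht, RingHom.map_det]
    congr 1
  constructor
  · rw [hval]
    exact (mul_le_mul' le_rfl hint).trans_eq (mul_one _)
  · rw [hval, ← hcst]
    constructor
    · intro h
      have h1 : P.1 ((M'.det : P.O) : K) = 1 :=
        mul_left_cancel₀ exp_ne_zero (h.trans (mul_one _).symm)
      intro h0
      have := (val_lt_one_iff_cst hK P hint).2 h0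
      rw [h1] at this
      exact lt_irrefl _ this
    · intro h
      have : ¬ P.1 ((M'.det : P.O) : K) < 1 :=
        fun hlt => h ((val_lt_one_iff_cst hK P hint).1 hlt)
      rw [le_antisymm hint (not_lt.1 this), mul_one]

section Fixed

variable {τ : K →ₐ[k] K}

omit [IsAlgClosed k] in
theorem strong_fixed (hP : IsStrongFixedPt τ P) : IsFixedPt τ P := fun z hz =>
  lt_of_le_of_lt (hP z hz) (by rw [← exp_zero, exp_lt_exp]; norm_num)

include hK in
theorem fix_int (hP : IsFixedPt τ P) {w : K} (hw : P.1 w ≤ 1) : P.1 (τ w) ≤ 1 := by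
  have h1 := cst_spec P hK hw
  have h2 := hP _ h1
  have : τ w = τ (w - algebraMap k K (cst P w)) + algebraMap k K (cst P w) := by
    rw [map_sub, AlgHom.commutes]; ring
  rw [this]
  exact Valuation.map_add_le _ h2.le (P.2.1 _)

include hK ht in
theorem fix_pow (hP : IsFixedPt τ P) {y : K} {j : ℕ} (hy : P.1 y ≤ exp (-(j : ℤ))) :
    P.1 (τ y) ≤ exp (-(j : ℤ)) := by
  obtain ⟨h1, -⟩ := cst_div_pow P ht hy
  have h2 : y = t ^ j * (y / t ^ j) := by
    rw [mul_div_cancel₀ _ (pow_ne_zero _ (t_ne_zero ht))]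
  rw [h2, map_mul, map_pow, map_mul, map_pow]
  have h3 : P.1 (τ t) ≤ exp (-1 : ℤ) := (zm0_lt_one_iff _).1 (hP t (val_t_lt_one ht))
  calc P.1 (τ t) ^ j * P.1 (τ (y / t ^ j)) ≤ exp (-1 : ℤ) ^ j * 1 :=
        mul_le_mul' (pow_le_pow_left' h3 j) (fix_int hK P hP h1)
    _ = exp (-(j : ℤ)) := by rw [mul_one, exp_neg_one_pow']

include hK ht in
theorem strong_pow (hP : IsStrongFixedPt τ P) {y : K} {j : ℕ} (hy : P.1 y ≤ exp (-(j : ℤ))) :
    P.1 (τ y) ≤ exp (-(2 * (j : ℤ))) := by
  obtain ⟨h1, -⟩ := cst_div_pow P ht hy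
  have h2 : y = t ^ j * (y / t ^ j) := by
    rw [mul_div_cancel₀ _ (pow_ne_zero _ (t_ne_zero ht))]
  rw [h2, map_mul, map_pow, map_mul, map_pow]
  have h3 : P.1 (τ t) ≤ exp (-2 : ℤ) := hP t (val_t_lt_one ht)
  calc P.1 (τ t) ^ j * P.1 (τ (y / t ^ j)) ≤ exp (-2 : ℤ) ^ j * 1 :=
        mul_le_mul' (pow_le_pow_left' h3 j) (fix_int hK P (strong_fixed P hP) h1)
    _ = exp (-(2 * (j : ℤ))) := by
        rw [mul_one, ← exp_nsmul]
        congr 1
        simp
        ring

end Fixed

section HasseVal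

variable {Ht : K →ₐ[k] PowerSeries K} (hHt : LocRes.IsHasseFamily t Ht)

include hK ht hHt

theorem hasse_val {y : K} {j : ℕ} (hy : P.1 y ≤ exp (-(j : ℤ))) (i : ℕ) :
    P.1 (LocRes.hasseD Ht i y) ≤ exp (-((j : ℤ) - i)) := by
  have hy1 : P.1 y ≤ 1 := hy.trans (by rw [← exp_zero, exp_le_exp]; omega)
  by_cases hji : j ≤ i
  · exact (hasseD_int hK P ht hHt hy1 i).trans (by rw [← exp_zero, exp_le_exp]; omega)
  · push Not at hji
    have e : ((j : ℤ) - i) = ((j - i : ℕ) : ℤ) := by omega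
    rw [e]
    apply val_le_of_dig_eq_zero hK ht (hasseD_int hK P ht hHt hy1 i)
    intro m hm
    rw [dig_hasseD hK P ht hHt hy1 i m, dig_eq_zero_of_val_le ht hy (m + i) (by omega), mul_zero]

theorem cst_hasse_div {y : K} {j : ℕ} (hy : P.1 y ≤ exp (-(j : ℤ))) (i : ℕ) :
    cst P (LocRes.hasseD Ht i y / t ^ ((j : ℤ) - i)) = (j.choose i : k) * dig P t j y := by
  have hy1 : P.1 y ≤ 1 := hy.trans (by rw [← exp_zero, exp_le_exp]; omega)
  by_cases hji : i ≤ j
  · have e : ((j : ℤ) - i) = ((j - i : ℕ) : ℤ) := by omega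
    have hv := hasse_val hK P ht hHt hy i
    rw [e] at hv
    rw [e, zpow_natCast, (cst_div_pow P ht hv).2, dig_hasseD hK P ht hHt hy1 i (j - i),
      Nat.sub_add_cancel hji]
  · push Not at hji
    rw [Nat.choose_eq_zero_of_lt hji, Nat.cast_zero, zero_mul]
    apply cst_eq_zero
    rw [map_div₀, val_t_zpow P ht, div_lt_one₀ exp_pos]
    calc P.1 (LocRes.hasseD Ht i y) ≤ 1 := hasseD_int hK P ht hHt hy1 i
      _ < exp (-((j : ℤ) - i)) := by rw [← exp_zero, exp_lt_exp]; omega

end HasseVal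

section Basis

omit [IsAlgClosed k] in
/-- Two linearly independent families with the same span differ by an invertible matrix. -/
theorem exists_matrix_of_span_eq {n : ℕ} (φ φ' : Fin (n + 1) → K) (hφ' : LinearIndependent k φ')
    (hspan : Submodule.span k (Set.range φ') = Submodule.span k (Set.range φ)) :
    ∃ A : Matrix (Fin (n + 1)) (Fin (n + 1)) k, A.det ≠ 0 ∧ ∀ i, φ' i = ∑ j, A i j • φ j := by
  classical
  have h : ∀ i, ∃ c : Fin (n + 1) → k, ∑ j, c j • φ j = φ' i := fun i =>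
    (Submodule.mem_span_range_iff_exists_fun k).1 (hspan ▸ Submodule.subset_span ⟨i, rfl⟩)
  choose A hA using h
  refine ⟨Matrix.of A, ?_, fun i => (hA i).symm⟩
  intro hdet
  obtain ⟨v, hv0, hv⟩ := Matrix.exists_vecMul_eq_zero_iff.2 hdet
  have hsum : ∑ i, v i • φ' i = 0 := by
    simp_rw [← hA, Finset.smul_sum, smul_smul]
    rw [Finset.sum_comm]
    simp_rw [← Finset.sum_smul]
    have h0 : ∀ j, ∑ i, v i * A i j = 0 := fun j => by
      have := congrFun hv j
      simpa [Matrix.vecMul, dotProduct] using this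
    simp [h0]
  exact hv0 (funext fun i => Fintype.linearIndependent_iff.1 hφ' v hsum i)

omit [IsAlgClosed k] in
include ht in
theorem val_div_zpow_le_one_iff (x : K) (z : ℤ) :
    P.1 (x / t ^ z) ≤ 1 ↔ P.1 x ≤ exp (-z) := by
  rw [map_div₀, val_t_zpow P ht, div_le_one₀ exp_pos]

end Basis

end Groth.Agent.H27.LocDet
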