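import Mathlib
import Groth.Prelude.Def_W4bk4goldsch45p2
import Groth.Agent.H27.Jump
import Groth.Agent.H27.LocDet
import Groth.Agent.S12599

/-!
Existence of order sequences: for a spanning column sequence with nonzero leading column; local
orders at a place exist.
-/

set_option autoImplicit false

namespace Groth.Agent.H27.Jump

open FunFld

section General

variable {κ : Type*} [Field κ]

/-- A column sequence spanning `κ^(n+1)` with nonzero leading column has an order sequence. -/
theorem exists_orders_of_span_top {n : ℕ} (c : ℕ → (Fin (n + 1) → κ))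
    (hspan : Submodule.span κ (Set.range c) = ⊤) (h0 : c 0 ≠ 0) :
    ∃ J : Fin n → ℕ, IsOrders κ c J := by
  classical
  obtain ⟨e, he, hej, -⟩ := exists_jump_enum (K := κ) (N := n + 1) (by simp) c hspan
  have hj0 : IsJump κ c 0 := (isJump_zero_iff c).2 h0
  have he0 : e 0 = 0 := by
    obtain ⟨x, hx⟩ := (hej 0).1 hj0
    have := he.monotone (Fin.zero_le x)
    omega
  have hepos : ∀ l : Fin n, 1 ≤ e l.succ := fun l => by
    have := he (Fin.succ_pos l)
    omega
  refine ⟨fun l => e l.succ - 1, ?_, ?_⟩
  · intro a b hab
    have h1 := he (Fin.succ_lt_succ_iff.2 hab)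
    have h2 := hepos a
    have h3 := hepos b
    simp only
    omega
  · intro j
    rw [hej (j + 1)]
    constructor
    · rintro ⟨l, rfl⟩
      refine ⟨l.succ, ?_⟩
      have := hepos l
      simp only
      omega
    · rintro ⟨x, hx⟩
      obtain ⟨l, rfl⟩ : ∃ l, x = Fin.succ l := by
        rcases Fin.eq_zero_or_eq_succ x with rfl | h
        · omega
        · exact h
      refine ⟨l, ?_⟩
      simp only
      omega

end General

section Local

open WithZero Groth.Agent.H55 Groth.Agent.H27.Expn Groth.Agent.H27.LocOrd

variable {k K : Type*} [Field k] [IsAlgClosed k] [Field K] [Algebra k K]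

/-- The orders at a place of a normalized effective projective map exist. -/
theorem exists_localOrders (hK : IsFunctionField k K) (P : Place k K) {n : ℕ}
    (φ : Fin (n + 1) → K) (hφ : LinearIndependent k φ)
    (heff : (1 : K) ∈ Submodule.span k (Set.range φ)) (hnorm : ∀ i, P.1 (φ i) ≤ 1)
    (t : K) (ht : P.1 t = exp (-1 : ℤ)) (Ht : K →ₐ[k] PowerSeries K)
    (hHt : LocRes.IsHasseFamily t Ht) :
    ∃ J' : Fin n → ℕ, IsOrders (IsLocalRing.ResidueField P.O) (hcolAt P Ht φ) J' := by
  classical
  have hrows := Groth.Agent.S12599.result k K hK φ hφ P hnorm t ht Ht hHt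
  apply exists_orders_of_span_top
  · -- the columns span
    by_contra hne
    obtain ⟨f, hf0, hf⟩ := Submodule.exists_le_ker_of_lt_top _ (lt_top_iff_ne_top.2 hne)
    let a : Fin (n + 1) → IsLocalRing.ResidueField P.O :=
      fun i => f (fun j => if i = j then 1 else 0)
    have hfa : ∀ v : Fin (n + 1) → IsLocalRing.ResidueField P.O, f v = ∑ i, a i * v i := by
      intro v
      rw [LinearMap.pi_apply_eq_sum_univ f v]
      exact Finset.sum_congr rfl (fun i _ => by rw [smul_eq_mul, mul_comm])
    have ha : ∀ j, ∑ i, a i * evalP P (LocRes.hasseD Ht j (φ i)) = 0 := by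
      intro j
      have h1 : hcolAt P Ht φ (j + 1) ∈ LinearMap.ker f :=
        hf (Submodule.subset_span ⟨j + 1, rfl⟩)
      rw [LinearMap.mem_ker, hfa] at h1
      exact h1
    have ha0 : a = 0 := by
      have h2 : ∑ i, a i • (fun j : ℕ => evalP P (LocRes.hasseD Ht j (φ i))) = 0 := by
        funext j
        rw [Finset.sum_apply]
        simpa [Pi.smul_apply, smul_eq_mul] using ha j
      funext i
      exact Fintype.linearIndependent_iff.1 hrows a h2 i
    apply hf0
    apply LinearMap.ext
    intro v
    rw [hfa v, ha0]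
    simp
  · -- the leading column is nonzero
    intro h0
    obtain ⟨c, hc⟩ := (Submodule.mem_span_range_iff_exists_fun k).1 heff
    have hlt : ∀ i, P.1 (φ i) < 1 := by
      intro i
      have h1 : evalP P (φ i) = 0 := congrFun h0 i
      rw [evalP_eq hK P (hnorm i)] at h1
      have h2 : cst P (φ i) = 0 :=
        (resHom_bijective hK P).1 (h1.trans (map_zero _).symm)
      exact (Groth.Agent.H27.LocDet.val_lt_one_iff_cst hK P (hnorm i)).2 h2
    have h2 : P.1 (∑ i, c i • φ i) < 1 :=
      Valuation.map_sum_lt _ one_ne_zero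
        (fun i _ => lt_of_le_of_lt (pl_val_smul_le P _ _) (hlt i))
    rw [hc, map_one] at h2
    exact lt_irrefl _ h2

end Local

end Groth.Agent.H27.Jump
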