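import Mathlib
import Groth.Prelude.Def_W4bk4goldsch45p2
import Groth.Agent.H55.FFSing
import Groth.Agent.H27.LocDet
import Groth.Agent.S12600
import Groth.Agent.S12601
import Groth.Agent.S12605

/-!
The coefficient of the Weierstrass divisor at a place, for a normalized effective map and a local
parameter.
-/

set_option autoImplicit false

namespace Groth.Agent.H27.WDiv

open FunFld WithZero Groth.Agent.H55 Groth.Agent.H27.Expn Groth.Agent.H27.LocOrd
open Groth.Agent.H27.LocDet

variable {k K : Type*} [Field k] [Field K] [Algebra k K]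

/-- The derivative of a Laurent series of order `1` has order `0`. -/
theorem valued_D_eq_one {f : LaurentSeries k} (hf : Valued.v f = exp (-1 : ℤ)) :
    Valued.v (LocRes.D k f) = 1 := by
  have h1 : ∀ n : ℤ, n < 1 → f.coeff n = 0 :=
    (LaurentSeries.valuation_le_iff_coeff_lt_eq_zero k).1 hf.le
  have h2 : f.coeff 1 ≠ 0 := by
    intro h0
    have : Valued.v f ≤ exp (-(2 : ℤ)) :=
      (LaurentSeries.valuation_le_iff_coeff_lt_eq_zero k).2 (fun n hn => by
        rcases lt_or_eq_of_le (show n ≤ 1 by omega) with h | h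
        · exact h1 n h
        · rw [h]; exact h0)
    rw [hf, exp_le_exp] at this
    omega
  have h3 : Valued.v (LocRes.D k f) ≤ exp (-(0 : ℤ)) :=
    (LaurentSeries.valuation_le_iff_coeff_lt_eq_zero k).2 (fun n hn => by
      rw [LocRes.D_coeff, h1 (n + 1) (by omega), smul_zero])
  have h4 : ¬ Valued.v (LocRes.D k f) ≤ exp (-(1 : ℤ)) := fun h => by
    have := (LaurentSeries.valuation_le_iff_coeff_lt_eq_zero k).1 h 0 (by norm_num)
    rw [LocRes.D_coeff] at this
    simp only [zero_add, one_smul] at this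
    exact h2 this
  rw [neg_zero, exp_zero] at h3
  refine le_antisymm h3 ?_
  by_contra hlt
  push Not at hlt
  exact h4 ((zm0_lt_one_iff _).1 hlt)

/-- The divisor of `dt` has coefficient `0` at a place where `t` is a local parameter. -/
theorem divDiff_apply_of_param (Φ : Place k K → (K →ₐ[k] LaurentSeries k)) (P : Place k K)
    (hΦ : LocRes.IsExpansionAt P.1 (Φ P)) {t : K} (ht : P.1 t = exp (-1 : ℤ)) :
    divDiff Φ 1 t P = 0 := by
  have h0 : LocRes.ordDiff (Φ P) 1 t = 0 := by
    unfold LocRes.ordDiff LocRes.vDiff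
    rw [map_one, one_mul, valued_D_eq_one (by rw [hΦ.1 t, ht])]
    simp
  unfold divDiff
  split_ifs with h
  · exact h0
  · rfl

theorem mapDiv_apply_eq_zero (hK : FunFld.IsFunctionField k K) {ι : Type*} [Fintype ι]
    [Nonempty ι] (φ : ι → K) (P : Place k K)
    (heff : (1 : K) ∈ Submodule.span k (Set.range φ)) (hnorm : ∀ i, P.1 (φ i) ≤ 1) :
    mapDiv k φ P = 0 := by
  rw [mapDiv_apply hK, neg_eq_zero]
  apply le_antisymm
  · obtain ⟨c, hc⟩ := (Submodule.mem_span_range_iff_exists_fun k).1 heff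
    by_contra hlt
    push Not at hlt
    have h1 : ∀ i, P.1 (φ i) < 1 := by
      intro i
      have h1 : 0 < P.ord (φ i) := lt_of_lt_of_le hlt (Finset.inf'_le _ (Finset.mem_univ i))
      have hne : φ i ≠ 0 := by
        intro h
        rw [h, pl_ord_zero] at h1
        exact lt_irrefl _ h1
      exact (pl_val_lt_one_iff P hne).2 h1
    have h2 : P.1 (∑ i, c i • φ i) < 1 :=
      Valuation.map_sum_lt _ one_ne_zero
        (fun i _ => lt_of_le_of_lt (pl_val_smul_le P _ _) (h1 i))
    rw [hc, map_one] at h2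
    exact lt_irrefl _ h2
  · refine Finset.le_inf' _ _ (fun i _ => ?_)
    by_cases h : φ i = 0
    · rw [h, pl_ord_zero]
    · exact (pl_val_le_one_iff P h).1 (hnorm i)

theorem wDiv_apply (hK : FunFld.IsFunctionField k K) {n : ℕ} (τ : K →ₐ[k] K)
    (H : K →ₐ[k] PowerSeries K) (Φ : Place k K → (K →ₐ[k] LaurentSeries k)) (s : K)
    (φ : Fin (n + 1) → K) (J : Fin n → ℕ) (P : Place k K) :
    wDiv τ H Φ s φ J P = P.ord (wrMat τ H φ J).det + mapDiv k (τ ∘ φ) P +
      (n : ℤ) * mapDiv k φ P + (∑ l, (J l : ℤ)) * divDiff Φ 1 s P := by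
  unfold wDiv
  simp only [Finsupp.add_apply, Finsupp.smul_apply, smul_eq_mul, div_apply hK]

variable [IsAlgClosed k]

theorem det_wrMat_ne_zero (hK : FunFld.IsFunctionField k K) {n : ℕ} (φ : Fin (n + 1) → K)
    (hφ : LinearIndependent k φ) (τ : K →ₐ[k] K) (s : K) (H : K →ₐ[k] PowerSeries K)
    (hH : LocRes.IsHasseFamily s H) (J : Fin n → ℕ) (hJ : IsOrders K (hcol τ H φ) J) :
    (wrMat τ H φ J).det ≠ 0 := by
  obtain ⟨J₀, hJ₀, hdet⟩ := Groth.Agent.S12600.result k K hK φ hφ τ s H hH
  have : J = J₀ := (StrictMono.range_inj hJ.1 hJ₀.1).1 (by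
    ext j
    rw [hJ.2, hJ₀.2])
  rwa [this]

/-- At a fixed point, for a normalized effective map and a local parameter, the coefficient of the
Weierstrass divisor is the order of the Wronskian. -/
theorem wDiv_apply_of_fixed (hK : FunFld.IsFunctionField k K) (τ : K →ₐ[k] K) (P : Place k K)
    (hP : IsFixedPt τ P) {n : ℕ} (φ : Fin (n + 1) → K)
    (heff : (1 : K) ∈ Submodule.span k (Set.range φ)) (hnorm : ∀ i, P.1 (φ i) ≤ 1)
    (t : K) (ht : P.1 t = exp (-1 : ℤ)) (Ht : K →ₐ[k] PowerSeries K) (J : Fin n → ℕ)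
    (Φ : Place k K → (K →ₐ[k] LaurentSeries k)) (hΦ : LocRes.IsExpansionAt P.1 (Φ P)) :
    wDiv τ Ht Φ t φ J P = P.ord (wrMat τ Ht φ J).det := by
  have heff' : (1 : K) ∈ Submodule.span k (Set.range (τ ∘ φ)) := by
    obtain ⟨c, hc⟩ := (Submodule.mem_span_range_iff_exists_fun k).1 heff
    rw [Submodule.mem_span_range_iff_exists_fun]
    refine ⟨c, ?_⟩
    have := congrArg τ hc
    rw [map_sum, map_one] at this
    rw [← this]
    exact Finset.sum_congr rfl (fun i _ => by rw [Function.comp_apply, map_smul])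
  have hnorm' : ∀ i, P.1 ((τ ∘ φ) i) ≤ 1 := fun i => fix_int hK P hP (hnorm i)
  rw [wDiv_apply hK, mapDiv_apply_eq_zero hK φ P heff hnorm,
    mapDiv_apply_eq_zero hK (τ ∘ φ) P heff' hnorm', divDiff_apply_of_param Φ P hΦ ht]
  ring

end Groth.Agent.H27.WDiv
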