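import Groth.Agent.S12614
import Groth.Agent.S12615
import Groth.Agent.S12601
import Groth.Agent.S12605
import Groth.Agent.H27.Jump2
import Groth.Agent.H27.BinomDet

/-! Classicality of orders in characteristic `0` or `> deg φ`. -/

set_option autoImplicit false

namespace Groth.Agent.H27.Classical

open FunFld WithZero Groth.Agent.H55 Groth.Agent.H27.WDiv Groth.Agent.H27.Generic
open Groth.Agent.H27.Sep Groth.Agent.H27.LocOrd Groth.Agent.H27.MapDivInv

variable {k K : Type*} [Field k] [IsAlgClosed k] [Field K] [Algebra k K]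

/-- The orders at `P` of a normalized effective map are at most its degree. -/
theorem localOrder_le_deg (hK : IsFunctionField k K) (P : Place k K) {n : ℕ}
    (φ : Fin (n + 1) → K) (hφ : LinearIndependent k φ)
    (heff : (1 : K) ∈ Submodule.span k (Set.range φ)) (hnorm : ∀ i, P.1 (φ i) ≤ 1)
    (t : K) (ht : P.1 t = exp (-1 : ℤ)) (Ht : K →ₐ[k] PowerSeries K)
    (hHt : LocRes.IsHasseFamily t Ht) (j : ℕ)
    (hj : IsJump (IsLocalRing.ResidueField P.O) (hcolAt P Ht φ) (j + 1)) :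
    (j : ℤ) ≤ (mapDiv k φ).deg := by
  obtain ⟨-, f, hf, hfv⟩ := (isJump_hcolAt_succ_iff hK P ht hHt φ hnorm j).1 hj
  have hf0 : f ≠ 0 := by
    rintro rfl
    rw [map_zero] at hfv
    exact exp_ne_zero hfv.symm
  have hφ0 : ∀ i, φ i ≠ 0 := fun i => hφ.ne_zero i
  have hfL : f ∈ L (mapDiv k φ) := by
    refine (Submodule.span_le.2 ?_) hf
    rintro _ ⟨i, rfl⟩
    exact mem_L_mapDiv hK φ hφ0 i
  have hE := nonneg_of_mem_L hK (mapDiv k φ) hf0 hfL
  have hEP : (mapDiv k φ + FunFld.div k f) P = j := by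
    rw [Finsupp.add_apply, mapDiv_apply_eq_zero hK φ P heff hnorm, div_apply hK,
      pl_ord_eq_of_val_eq P hfv]
    simp
  have h1 := deg_mono (single_le_of_nonneg hE P)
  rw [deg_single, deg_add, deg_div hK, deg_eq_one_of_isAlgClosed hK, hEP] at h1
  simpa using h1

theorem deg_mapDiv_smul (hK : IsFunctionField k K) {n : ℕ} (φ : Fin (n + 1) → K)
    (hφ0 : ∀ i, φ i ≠ 0) {y : K} (hy : y ≠ 0) :
    (mapDiv k (y • φ)).deg = (mapDiv k φ).deg := by
  have h1 : mapDiv k (y • φ) = mapDiv k φ - FunFld.div k y := by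
    ext Q
    rw [Finsupp.sub_apply, div_apply hK, ← mapDiv_mul_left hK φ hφ0 hy Q]
    rfl
  rw [h1, deg_sub, deg_div hK, sub_zero]

/-- Core: if the binomial determinants against `I` never vanish for admissible local order
sequences, and `I` bounds the `τ`-orders from below, then `I` is the `τ`-order sequence. -/
theorem core (hK : IsFunctionField k K) {n : ℕ} (φ : Fin (n + 1) → K)
    (hφ : LinearIndependent k φ) (τ : K →ₐ[k] K) (s : K) (H : K →ₐ[k] PowerSeries K)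
    (hH : LocRes.IsHasseFamily s H) (P : Place k K) (hP : IsFixedPt τ P)
    (I : Fin n → ℕ) (hI : StrictMono I)
    (hcase : (∀ l, 0 < I l) ∨ IsStrongFixedPt τ P)
    (hbin : ∀ J' : Fin n → ℕ, StrictMono J' → (∀ l, 0 < J' l) →
      (∀ l, (J' l : ℤ) ≤ (mapDiv k φ).deg) → (binomMat k J' I).det ≠ 0)
    (hlow : ∀ J : Fin n → ℕ, IsOrders K (hcol τ H φ) J → ∀ l, I l ≤ J l) :
    IsOrders K (hcol τ H φ) I := by
  classical
  have hg := Groth.Agent.S11000.result k K hK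
  have hfr := finrank_kaehler hK hg
  obtain ⟨t, ht⟩ := P.2.2 (exp (-1 : ℤ))
  obtain ⟨Ht, hHt⟩ := exists_hasse hH (hasseD_one_ne_zero hH hfr (D_ne_zero_of_val hK P ht))
  obtain ⟨j0, -, hj0⟩ := Finset.exists_max_image Finset.univ (fun i => P.1 (φ i))
    Finset.univ_nonempty
  have hφ0 : ∀ i, φ i ≠ 0 := fun i => hφ.ne_zero i
  obtain ⟨y, hy⟩ : ∃ y : K, y = (φ j0)⁻¹ := ⟨_, rfl⟩
  have hy0 : y ≠ 0 := by
    rw [hy]
    exact inv_ne_zero (hφ0 j0)
  obtain ⟨φ', hφ'⟩ : ∃ φ' : Fin (n + 1) → K, φ' = y • φ := ⟨_, rfl⟩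
  have hφ'i : ∀ i, φ' i = y * φ i := fun i => by rw [hφ', Pi.smul_apply, smul_eq_mul]
  have hφ'li : LinearIndependent k φ' := by
    have : φ' = (LinearMap.mulLeft k y) ∘ φ := by
      ext i
      simp [hφ'i]
    rw [this]
    exact hφ.map' _ (LinearMap.ker_eq_bot.2 (mul_right_injective₀ hy0))
  have heff : (1 : K) ∈ Submodule.span k (Set.range φ') :=
    Submodule.subset_span ⟨j0, by rw [hφ'i, hy, inv_mul_cancel₀ (hφ0 j0)]⟩
  have hnorm : ∀ i, P.1 (φ' i) ≤ 1 := by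
    intro i
    rw [hφ'i, hy, map_mul, map_inv₀, inv_mul_le_iff₀ (zero_lt_iff.2
      ((Valuation.ne_zero_iff _).2 (hφ0 j0))), mul_one]
    exact hj0 i (Finset.mem_univ _)
  -- transfer of orders
  have htrans : ∀ J : Fin n → ℕ, IsOrders K (hcol τ Ht φ') J ↔ IsOrders K (hcol τ H φ) J := by
    intro J
    rw [hφ', (Groth.Agent.S12597.result k K hK φ hφ τ t Ht hHt y hy0).1 J]
    exact (Groth.Agent.S12598.result k K hK φ hφ τ s H hH t Ht hHt).1 J
  obtain ⟨J, hJ, -⟩ := Groth.Agent.S12600.result k K hK φ' hφ'li τ t Ht hHt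
  obtain ⟨J', hJ'ord⟩ := Groth.Agent.H27.Jump.exists_localOrders hK P φ' hφ'li heff hnorm t ht
    Ht hHt
  have hJ'pos : ∀ l, 0 < J' l := fun l =>
    ((isJump_hcolAt_succ_iff hK P ht hHt φ' hnorm (J' l)).1 ((hJ'ord.2 (J' l)).1 ⟨l, rfl⟩)).1
  have hJ'deg : ∀ l, (J' l : ℤ) ≤ (mapDiv k φ).deg := by
    intro l
    rw [← deg_mapDiv_smul hK φ hφ0 hy0, ← hφ']
    exact localOrder_le_deg hK P φ' hφ'li heff hnorm t ht Ht hHt (J' l)
      ((hJ'ord.2 (J' l)).1 ⟨l, rfl⟩)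
  have hdet : (wrMat τ Ht φ' I).det ≠ 0 := by
    obtain ⟨-, h2⟩ := Groth.Agent.S12605.result k K hK τ P hP φ' hφ'li heff hnorm t ht Ht hHt
      J' hJ'ord I hI
    have h4 := (h2 hcase).2 (hbin J' hJ'ord.1 hJ'pos hJ'deg)
    intro h0
    rw [h0, map_zero] at h4
    exact exp_ne_zero h4.symm
  have hle : ∀ l, J l ≤ I l :=
    Groth.Agent.S12601.result k K hK φ' hφ'li τ t Ht hHt J hJ I hI hdet
  have hge := hlow J ((htrans J).1 hJ)
  have hJI : J = I := funext fun l => le_antisymm (hle l) (hge l)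
  rw [← hJI]
  exact (htrans J).1 hJ

end Groth.Agent.H27.Classical
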