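import Mathlib
set_option autoImplicit false
open CategoryTheory AlgebraicGeometry TensorProduct
universe u

namespace Groth.Agent.H27.DX1

section lin
variable {k : Type u} [Field k] {V W : Type u} [AddCommGroup V] [Module k V]
  [AddCommGroup W] [Module k W]

/-- the slice map `ℓ ⊗ id : V ⊗ R → k ⊗ R = R`. -/
noncomputable def slice (R : Type u) [AddCommGroup R] [Module k R] (ℓ : V →ₗ[k] k) :
    V ⊗[k] R →ₗ[k] R :=
  (TensorProduct.lid k R).toLinearMap ∘ₗ ℓ.rTensor R

@[simp] lemma slice_tmul (R : Type u) [AddCommGroup R] [Module k R] (ℓ : V →ₗ[k] k)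
    (v : V) (r : R) : slice R ℓ (v ⊗ₜ r) = ℓ v • r := by
  simp [slice]

lemma eq_zero_of_slices {R : Type u} [AddCommGroup R] [Module k R] (z : V ⊗[k] R)
    (h : ∀ ℓ : V →ₗ[k] k, slice R ℓ z = 0) : z = 0 := by
  classical
  let b := Module.Basis.ofVectorSpace k V
  apply (TensorProduct.equivFinsuppOfBasisLeft b).injective
  ext i
  rw [TensorProduct.equivFinsuppOfBasisLeft_apply]
  simpa [slice] using h (b.coord i)

lemma slice_rTensor {R : Type u} [AddCommGroup R] [Module k R] (f : W →ₗ[k] V)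
    (ℓ : V →ₗ[k] k) (w : W ⊗[k] R) :
    slice R ℓ (f.rTensor R w) = slice R (ℓ ∘ₗ f) w := by
  induction w using TensorProduct.induction_on with
  | zero => simp
  | tmul x y => simp
  | add x y hx hy => simp [hx, hy]

lemma mem_range_iff (ι : W →ₗ[k] V) (R : Type u) [AddCommGroup R] [Module k R]
    (z : V ⊗[k] R) :
    z ∈ LinearMap.range (ι.rTensor R) ↔
      ∀ ℓ : V →ₗ[k] k, ℓ ∘ₗ ι = 0 → slice R ℓ z = 0 := by
  constructor
  · rintro ⟨w, rfl⟩ ℓ hℓ
    rw [slice_rTensor, hℓ]
    induction w using TensorProduct.induction_on with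
    | zero => simp
    | tmul x y => simp
    | add x y hx hy => simp [hx, hy]
  · intro h
    have hex : Function.Exact ι (LinearMap.range ι).mkQ := by
      intro y
      simp [Submodule.Quotient.mk_eq_zero]
    have hE := rTensor_exact R hex (Submodule.mkQ_surjective _)
    apply (hE z).1
    apply eq_zero_of_slices
    intro m
    rw [slice_rTensor]
    apply h
    ext x
    have h0 : (Submodule.Quotient.mk (ι x) : V ⧸ LinearMap.range ι) = 0 :=
      (Submodule.Quotient.mk_eq_zero _).2 ⟨x, rfl⟩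
    simp [h0]

end lin

lemma slice_map {k : Type u} [Field k] {AG B R : Type u} [CommRing AG] [CommRing B] [CommRing R]
    [Algebra k AG] [Algebra k B] [Algebra k R] (ξ : B →ₐ[k] R) (ℓ : AG →ₗ[k] k)
    (z : AG ⊗[k] B) :
    slice R ℓ (Algebra.TensorProduct.map (AlgHom.id k AG) ξ z) = ξ (slice B ℓ z) := by
  induction z using TensorProduct.induction_on with
  | zero => simp
  | tmul x y => simp
  | add x y hx hy => simp [hx, hy]

lemma map_eq_rTensor {k : Type u} [Field k] {A AG R : Type u} [CommRing A] [CommRing AG]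
    [CommRing R] [Algebra k A] [Algebra k AG] [Algebra k R] (ι : A →ₐ[k] AG) (w : A ⊗[k] R) :
    Algebra.TensorProduct.map ι (AlgHom.id k R) w = ι.toLinearMap.rTensor R w := by
  induction w using TensorProduct.induction_on with
  | zero => simp
  | tmul x y => simp
  | add x y hx hy => simp [hx, hy]

/-- (DX1) -/
theorem exists_ideal_forall_le_ker_iff {k : Type u} [Field k] {A AG B : Type u}
    [CommRing A] [CommRing AG] [CommRing B] [Algebra k A] [Algebra k AG] [Algebra k B]
    (ι : A →ₐ[k] AG) (co : B →ₐ[k] AG ⊗[k] B) :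
    ∃ I : Ideal B, ∀ (R : Type u) [CommRing R] [Algebra k R] (ξ : B →ₐ[k] R),
      I ≤ RingHom.ker ξ ↔
        ∀ b : B, (Algebra.TensorProduct.map (AlgHom.id k AG) ξ) (co b) ∈
          Set.range (Algebra.TensorProduct.map ι (AlgHom.id k R)) := by
  refine ⟨Ideal.span {x | ∃ ℓ : AG →ₗ[k] k, ℓ ∘ₗ ι.toLinearMap = 0 ∧ ∃ b : B,
    x = slice B ℓ (co b)}, ?_⟩
  intro R _ _ ξ
  have hrange : ∀ z : AG ⊗[k] R, z ∈ Set.range (Algebra.TensorProduct.map ι (AlgHom.id k R)) ↔
      z ∈ LinearMap.range (ι.toLinearMap.rTensor R) := by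
    intro z
    constructor
    · rintro ⟨w, rfl⟩
      exact ⟨w, (map_eq_rTensor ι w).symm⟩
    · rintro ⟨w, rfl⟩
      exact ⟨w, map_eq_rTensor ι w⟩
  rw [Ideal.span_le]
  constructor
  · intro h b
    rw [hrange, mem_range_iff]
    intro ℓ hℓ
    rw [slice_map]
    exact h ⟨ℓ, hℓ, b, rfl⟩
  · rintro h x ⟨ℓ, hℓ, b, rfl⟩
    have := h b
    rw [hrange, mem_range_iff] at this
    have h2 := this ℓ hℓ
    rw [slice_map] at h2
    exact h2

end Groth.Agent.H27.DX1
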