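import Groth.Agent.H27.DiffExp
import Groth.Agent.H55.FFHyper
import Mathlib.FieldTheory.RatFunc.IntermediateField

/-! Variants of the `diffExp` lemmas assuming only that `Ω[K/k]` has rank one; the Kähler
differentials of `k(x)`. -/

set_option autoImplicit false

namespace Groth.Agent.H27.DiffExp

open WithZero FunFld

section Main

variable {k : Type*} {K : Type*} {K' : Type*} [Field k] [Field K] [Field K'] [Algebra k K]
  [Algebra K K'] [Algebra k K'] [IsScalarTower k K K']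
  {F : Type*} {F' : Type*} [Field F] [Algebra k F] [Field F'] [Algebra k F']

theorem diffExp_eq' (hfr : Module.finrank K (Ω[K⁄k]) = 1)
    (P : FunFld.Place k K) (Q : FunFld.Place k K') (e : ℕ) (he : FunFld.IsOverWith Q P e)
    (φ : K →ₐ[k] LaurentSeries F) (hφ : LocRes.IsExpansionAt P.1 φ)
    (ψ : K' →ₐ[k] LaurentSeries F') (hψ : LocRes.IsExpansionAt Q.1 ψ)
    (t : K) (ht : P.1 t = exp (-1 : ℤ))
    (x : K) (hx : LocRes.vDiff φ 1 x ≠ 0) (hx' : LocRes.vDiff ψ 1 (algebraMap K K' x) ≠ 0) :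
    LocRes.diffExp φ ψ e x = LocRes.ordDiff ψ 1 (algebraMap K K' t) ∧
      LocRes.vDiff ψ 1 (algebraMap K K' t) ≠ 0 := by
  have hφt : Valued.v (φ t) = exp (-((1 : ℕ) : ℤ)) := by
    rw [hφ.1 t, ht]
    rfl
  have hDt : Valued.v (LocRes.D F (φ t)) = 1 := by
    have := (valued_D_of_val hφt).2.1 (by simp)
    rw [this]
    simp
  have hDt0 : LocRes.D F (φ t) ≠ 0 := by
    intro h0
    rw [h0, map_zero] at hDt
    exact zero_ne_one hDt
  have hdt : KaehlerDifferential.D k K t ≠ 0 := D_ne_zero_of_expansion φ t hDt0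
  obtain ⟨g, hgx⟩ := (finrank_eq_one_iff_of_nonzero' _ hdt).1 hfr (KaehlerDifferential.D k K x)
  have hc1 := chain_rule φ x t g hgx.symm
  have hc2 := chain_rule (ψ.comp (IsScalarTower.toAlgHom k K K')) x t g hgx.symm
  simp only [AlgHom.comp_apply, IsScalarTower.coe_toAlgHom'] at hc2
  have hv1 : LocRes.vDiff φ 1 x = P.1 g := by
    unfold LocRes.vDiff
    rw [map_one, one_mul, hc1, map_mul, hDt, mul_one, hφ.1]
  have hv2 : LocRes.vDiff ψ 1 (algebraMap K K' x) =
      P.1 g ^ e * LocRes.vDiff ψ 1 (algebraMap K K' t) := by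
    unfold LocRes.vDiff
    rw [map_one, one_mul, one_mul, hc2, map_mul, hψ.1, he g]
  have hg0 : P.1 g ≠ 0 := by
    rw [← hv1]
    exact hx
  have ht0 : LocRes.vDiff ψ 1 (algebraMap K K' t) ≠ 0 := by
    intro h0
    rw [hv2, h0, mul_zero] at hx'
    exact hx' rfl
  refine ⟨?_, ht0⟩
  unfold LocRes.diffExp LocRes.ordDiff
  rw [hv2, hv1, log_mul (pow_ne_zero _ hg0) ht0, log_pow, nsmul_eq_mul]
  ring

theorem diffExp_indep' (hfr : Module.finrank K (Ω[K⁄k]) = 1)
    (P : FunFld.Place k K) (Q : FunFld.Place k K') (e : ℕ) (he : FunFld.IsOverWith Q P e)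
    (φ : K →ₐ[k] LaurentSeries F) (hφ : LocRes.IsExpansionAt P.1 φ)
    (ψ : K' →ₐ[k] LaurentSeries F') (hψ : LocRes.IsExpansionAt Q.1 ψ)
    (x : K) (hx : LocRes.vDiff φ 1 x ≠ 0) (hx' : LocRes.vDiff ψ 1 (algebraMap K K' x) ≠ 0)
    (x' : K) (hx2 : LocRes.vDiff φ 1 x' ≠ 0) (hx2' : LocRes.vDiff ψ 1 (algebraMap K K' x') ≠ 0) :
    LocRes.diffExp φ ψ e x = LocRes.diffExp φ ψ e x' := by
  obtain ⟨t, ht⟩ := hφ.2.2
  rw [(diffExp_eq' hfr P Q e he φ hφ ψ hψ t ht x hx hx').1,
    (diffExp_eq' hfr P Q e he φ hφ ψ hψ t ht x' hx2 hx2').1]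

end Main

section RatFunc

variable {k : Type*} [Field k]

theorem finrank_kaehler_ratFunc : Module.finrank (RatFunc k) (Ω[RatFunc k⁄k]) = 1 := by
  haveI : Algebra.IsSeparable (IntermediateField.adjoin k ({(RatFunc.X : RatFunc k)} : Set (RatFunc k)))
      (RatFunc k) := by
    refine ⟨fun a => ?_⟩
    have ha : a ∈ IntermediateField.adjoin k ({(RatFunc.X : RatFunc k)} : Set (RatFunc k)) := by
      rw [RatFunc.adjoin_X]
      trivial
    have : a = algebraMap (IntermediateField.adjoin k ({(RatFunc.X : RatFunc k)} : Set (RatFunc k)))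
        (RatFunc k) ⟨a, ha⟩ := rfl
    rw [this]
    exact isSeparable_algebraMap _
  obtain ⟨e, -⟩ := Groth.Agent.H55.kaehler_equiv_of_separating (RatFunc.X : RatFunc k)
    RatFunc.transcendental_X
  rw [e.finrank_eq, Module.finrank_self]

end RatFunc

end Groth.Agent.H27.DiffExp
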