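import Groth.Agent.H55.FFOver

/-! The minimal polynomial of a local parameter at a totally ramified place is Eisenstein. -/

set_option autoImplicit false

namespace Groth.Agent.H27.Eisenstein

open FunFld WithZero Groth.Agent.H55

variable {k K K' : Type*} [Field k] [Field K] [Field K'] [Algebra k K] [Algebra K K']
  [Algebra k K'] [IsScalarTower k K K']

theorem val_term {Q : Place k K'} {P : Place k K} {e : ℕ} (he : IsOverWith Q P e)
    (s : K') (hs : Q.1 s = exp (-1 : ℤ)) (a : K) (ha : a ≠ 0) (i : ℕ) :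
    Q.1 (algebraMap K K' a * s ^ i) = exp (-((e : ℤ) * P.ord a + i)) := by
  rw [map_mul, he a, map_pow, hs, pl_val_eq_exp_neg_ord P ha, ← exp_nsmul, ← exp_nsmul, ← exp_add]
  congr 1
  simp only [nsmul_eq_mul, smul_eq_mul]
  ring

theorem eisenstein {Q : Place k K'} {P : Place k K} {e : ℕ} (he : IsOverWith Q P e)
    (s : K') (hs : Q.1 s = exp (-1 : ℤ)) (f : Polynomial K) (hm : f.Monic)
    (hdeg : f.natDegree ≤ e) (hroot : Polynomial.aeval s f = 0) :
    f.natDegree = e ∧ P.1 (f.coeff 0) = exp (-1 : ℤ) ∧ ∀ i, i < e → P.1 (f.coeff i) < 1 := by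
  classical
  have hepos := isOverWith_pos he
  obtain ⟨d, hd⟩ : ∃ d, d = f.natDegree := ⟨_, rfl⟩
  rw [← hd] at hdeg ⊢
  obtain ⟨T, hTdef⟩ : ∃ T : ℕ → K', T = fun i => algebraMap K K' (f.coeff i) * s ^ i := ⟨_, rfl⟩
  have hsum : ∑ i ∈ Finset.range (d + 1), T i = 0 := by
    rw [← hroot, Polynomial.aeval_eq_sum_range, hd, hTdef]
    exact Finset.sum_congr rfl (fun i _ => by rw [Algebra.smul_def])
  have hT0 : ∀ i, f.coeff i = 0 → Q.1 (T i) = 0 := by
    intro i h
    rw [hTdef]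
    simp only
    rw [h, map_zero, zero_mul, map_zero]
  have hT : ∀ i, f.coeff i ≠ 0 → Q.1 (T i) = exp (-((e : ℤ) * P.ord (f.coeff i) + i)) := by
    intro i h
    rw [hTdef]
    exact val_term he s hs _ h i
  have hcd : f.coeff d = 1 := by rw [hd]; exact hm.coeff_natDegree
  have hTd : Q.1 (T d) = exp (-(d : ℤ)) := by
    rw [hT d (by rw [hcd]; exact one_ne_zero), hcd, pl_ord_one]
    congr 1
    ring
  obtain ⟨j, hj, hjmax⟩ := Finset.exists_max_image (Finset.range (d + 1)) (fun i => Q.1 (T i))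
    ⟨d, by simp⟩
  have hjpos : Q.1 (T j) ≠ 0 := by
    have h1 := hjmax d (by simp)
    rw [hTd] at h1
    exact ne_of_gt (lt_of_lt_of_le exp_pos h1)
  obtain ⟨j', hj', hne, heq⟩ : ∃ j' ∈ Finset.range (d + 1), j' ≠ j ∧ Q.1 (T j') = Q.1 (T j) := by
    by_contra hcon
    push Not at hcon
    have := Q.1.map_sum_eq_of_lt hj (f := T) (fun i hi => by
      rw [Finset.mem_sdiff, Finset.mem_singleton] at hi
      exact lt_of_le_of_ne (hjmax i hi.1) (hcon i hi.1 hi.2))
    rw [hsum, map_zero] at this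
    exact hjpos this.symm
  have hcj : f.coeff j ≠ 0 := fun h => hjpos (hT0 j h)
  have hcj' : f.coeff j' ≠ 0 := fun h => hjpos (by rw [← heq]; exact hT0 j' h)
  have h1 : (e : ℤ) * P.ord (f.coeff j') + j' = e * P.ord (f.coeff j) + j := by
    have := heq
    rw [hT j hcj, hT j' hcj', exp_inj, neg_inj] at this
    exact this
  rw [Finset.mem_range] at hj hj'
  have hepos' : (0 : ℤ) < e := by exact_mod_cast hepos
  have hcases : d = e ∧ ((j = 0 ∧ j' = e) ∨ (j = e ∧ j' = 0)) := by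
    obtain ⟨w, hw⟩ : ∃ w : ℤ, w = P.ord (f.coeff j') - P.ord (f.coeff j) := ⟨_, rfl⟩
    have h2 : (e : ℤ) * w = (j : ℤ) - j' := by rw [hw]; linarith
    rcases lt_trichotomy w 0 with hw0 | hw0 | hw0
    · have : (e : ℤ) * w ≤ -e := by nlinarith
      have h3 : (j' : ℤ) - j ≥ e := by linarith
      have h4 : (j' : ℤ) ≤ d := by exact_mod_cast Nat.lt_succ_iff.1 hj'
      have h5 : (d : ℤ) ≤ e := by exact_mod_cast hdeg
      have h6 : (0 : ℤ) ≤ j := by positivity
      refine ⟨by omega, Or.inl ⟨by omega, by omega⟩⟩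
    · exfalso
      rw [hw0, mul_zero] at h2
      apply hne
      omega
    · have : (e : ℤ) ≤ e * w := by nlinarith
      have h3 : (j : ℤ) - j' ≥ e := by linarith
      have h4 : (j : ℤ) ≤ d := by exact_mod_cast Nat.lt_succ_iff.1 hj
      have h5 : (d : ℤ) ≤ e := by exact_mod_cast hdeg
      have h6 : (0 : ℤ) ≤ j' := by positivity
      refine ⟨by omega, Or.inr ⟨by omega, by omega⟩⟩
  obtain ⟨hde, hjj⟩ := hcases
  have hTe : Q.1 (T e) = exp (-(e : ℤ)) := by
    rw [← hde]
    exact hTd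
  have hM : Q.1 (T j) = exp (-(e : ℤ)) ∧ Q.1 (T 0) = exp (-(e : ℤ)) := by
    rcases hjj with ⟨h0, h1'⟩ | ⟨h0, h1'⟩
    · rw [h0, h1'] at heq
      rw [h0, ← heq]
      exact ⟨hTe, hTe⟩
    · rw [h0, h1'] at heq
      rw [h0, heq]
      exact ⟨hTe, hTe⟩
  refine ⟨hde, ?_, ?_⟩
  · have hc0 : f.coeff 0 ≠ 0 := by
      intro h
      have := hT0 0 h
      rw [hM.2] at this
      exact exp_ne_zero this
    have h3 := hM.2
    rw [hT 0 hc0, exp_inj, neg_inj] at h3
    have h4 : P.ord (f.coeff 0) = 1 := by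
      have : (e : ℤ) * P.ord (f.coeff 0) = e * 1 := by
        push_cast at h3
        linarith
      exact mul_left_cancel₀ hepos'.ne' this
    rw [pl_val_eq_exp_neg_ord P hc0, h4]
  · intro i hi
    by_cases hci : f.coeff i = 0
    · rw [hci, map_zero]
      exact zero_lt_one
    · have h3 := hjmax i (by rw [Finset.mem_range]; omega)
      rw [hM.1, hT i hci, exp_le_exp] at h3
      rw [pl_val_lt_one_iff P hci]
      by_contra hle
      push Not at hle
      have : (e : ℤ) * P.ord (f.coeff i) ≤ 0 := by nlinarith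
      have : (i : ℤ) < e := by exact_mod_cast hi
      omega

end Groth.Agent.H27.Eisenstein
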