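import Groth.Agent.H27.Eisenstein
import Groth.Agent.H27.DiffExp2

/-! The different exponent at a totally ramified place is the order of `f'(s)` for the minimal
polynomial `f` of a local parameter `s`. -/

set_option autoImplicit false

namespace Groth.Agent.H27.Eisenstein

open FunFld WithZero Groth.Agent.H55 Groth.Agent.H27.DiffExp

variable {k K K' : Type*} [Field k] [Field K] [Field K'] [Algebra k K] [Algebra K K']
  [Algebra k K'] [IsScalarTower k K K'] {F F' : Type*} [Field F] [Algebra k F] [Field F']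
  [Algebra k F']

theorem D_aeval (ψ : K' →ₐ[k] LaurentSeries F') (s : K') (g : Polynomial K) :
    LocRes.D F' (ψ (Polynomial.aeval s g)) =
      ψ (Polynomial.aeval s (Polynomial.derivative g)) * LocRes.D F' (ψ s) +
      g.sum (fun i a => ψ s ^ i * LocRes.D F' (ψ (algebraMap K K' a))) := by
  induction g using Polynomial.induction_on' with
  | add p q hp hq =>
    rw [map_add, map_add, map_add, hp, hq, Polynomial.derivative_add, map_add, map_add,
      Polynomial.sum_add_index]
    · ring
    · intro i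
      simp
    · intro i a b
      simp [mul_add]
  | monomial n a =>
    have e1 : ψ (Polynomial.aeval s (Polynomial.monomial n a)) =
        ψ (algebraMap K K' a) * ψ s ^ n := by
      rw [Polynomial.aeval_monomial, map_mul, map_pow]
    have e2 : ψ (Polynomial.aeval s (Polynomial.derivative (Polynomial.monomial n a))) =
        ψ (algebraMap K K' a) * (n : LaurentSeries F') * ψ s ^ (n - 1) := by
      rw [Polynomial.derivative_monomial, Polynomial.aeval_monomial, map_mul, map_pow, map_mul,
        map_mul, map_natCast, map_natCast]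
    rw [e1, e2, Polynomial.sum_monomial_index _ _ (by simp), Derivation.leibniz,
      Derivation.leibniz_pow]
    simp only [smul_eq_mul, nsmul_eq_mul]
    ring

theorem valued_D_le_one {φ : K →ₐ[k] LaurentSeries F} {P : Place k K}
    (hφ : LocRes.IsExpansionAt P.1 φ) (a : K) (ha : P.1 a < 1) :
    Valued.v (LocRes.D F (φ a)) ≤ 1 := by
  by_cases ha0 : a = 0
  · rw [ha0, map_zero, map_zero, map_zero]
    exact zero_le_one
  · have h1 : Valued.v (φ a) = exp (-(P.ord a)) := by
      rw [hφ.1 a, pl_val_eq_exp_neg_ord P ha0]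
    have h2 := (valued_D_of_val h1).1
    refine h2.trans ?_
    rw [← exp_zero, exp_le_exp]
    have := (pl_val_lt_one_iff P ha0).1 ha
    omega

theorem ord_derivative_eq (hfr : Module.finrank K (Ω[K⁄k]) = 1) [FiniteDimensional K K']
    (P : Place k K) (Q : Place k K') (e : ℕ) (he : IsOverWith Q P e)
    (φ : K →ₐ[k] LaurentSeries F) (hφ : LocRes.IsExpansionAt P.1 φ)
    (ψ : K' →ₐ[k] LaurentSeries F') (hψ : LocRes.IsExpansionAt Q.1 ψ)
    (x : K) (hx : LocRes.vDiff φ 1 x ≠ 0) (hx' : LocRes.vDiff ψ 1 (algebraMap K K' x) ≠ 0)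
    (hn : e = Module.finrank K K') (s : K') (hs : Q.1 s = exp (-1 : ℤ)) :
    Q.ord (Polynomial.aeval s (Polynomial.derivative (minpoly K s))) =
      LocRes.diffExp φ ψ e x := by
  classical
  obtain ⟨t, ht⟩ := hφ.2.2
  obtain ⟨hd1, hd2⟩ := diffExp_eq' hfr P Q e he φ hφ ψ hψ t ht x hx hx'
  rw [hd1]
  have hint : IsIntegral K s := Algebra.IsIntegral.isIntegral s
  obtain ⟨f, hf⟩ : ∃ f, f = minpoly K s := ⟨_, rfl⟩
  rw [← hf]
  have hm : f.Monic := by rw [hf]; exact minpoly.monic hint
  have hroot : Polynomial.aeval s f = 0 := by rw [hf]; exact minpoly.aeval K s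
  have hdeg : f.natDegree ≤ e := by rw [hf, hn]; exact minpoly.natDegree_le s
  obtain ⟨hde, h0, hlt⟩ := eisenstein he s hs f hm hdeg hroot
  have hepos := isOverWith_pos he
  -- `dt ≠ 0`
  have hφt : Valued.v (φ t) = exp (-((1 : ℕ) : ℤ)) := by
    rw [hφ.1 t, ht]
    rfl
  have hDt : Valued.v (LocRes.D F (φ t)) = 1 := by
    have := (valued_D_of_val hφt).2.1 (by simp)
    rw [this]
    simp
  have hDt0 : LocRes.D F (φ t) ≠ 0 := by
    intro h0
    rw [h0, map_zero] at hDt
    exact zero_ne_one hDt
  have hdt : KaehlerDifferential.D k K t ≠ 0 := D_ne_zero_of_expansion φ t hDt0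
  choose g hg using fun a : K =>
    (finrank_eq_one_iff_of_nonzero' _ hdt).1 hfr (KaehlerDifferential.D k K a)
  have hcφ : ∀ a, LocRes.D F (φ a) = φ (g a) * LocRes.D F (φ t) :=
    fun a => chain_rule φ a t (g a) (hg a).symm
  have hcψ : ∀ a, LocRes.D F' (ψ (algebraMap K K' a)) =
      ψ (algebraMap K K' (g a)) * LocRes.D F' (ψ (algebraMap K K' t)) := by
    intro a
    have := chain_rule (ψ.comp (IsScalarTower.toAlgHom k K K')) a t (g a) (hg a).symm
    simpa only [AlgHom.comp_apply, IsScalarTower.coe_toAlgHom'] using this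
  have hgval : ∀ a, P.1 (g a) = Valued.v (LocRes.D F (φ a)) := by
    intro a
    rw [hcφ a, map_mul, hDt, mul_one, hφ.1]
  have hgzero : ∀ a, KaehlerDifferential.D k K a = 0 → g a = 0 := by
    intro a ha
    have := hg a
    rw [ha, smul_eq_zero] at this
    exact this.resolve_right hdt
  -- the value of `g (f.coeff 0)`
  have hg0 : P.1 (g (f.coeff 0)) = 1 := by
    rw [hgval]
    have h1 : Valued.v (φ (f.coeff 0)) = exp (-((1 : ℕ) : ℤ)) := by
      rw [hφ.1, h0]
      rfl
    have := (valued_D_of_val h1).2.1 (by simp)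
    rw [this]
    simp
  have hgi : ∀ i, i < e → P.1 (g (f.coeff i)) ≤ 1 := by
    intro i hi
    rw [hgval]
    exact valued_D_le_one hφ _ (hlt i hi)
  -- the auxiliary element `G`
  obtain ⟨G, hG⟩ : ∃ G : K', G = ∑ i ∈ f.support, s ^ i * algebraMap K K' (g (f.coeff i)) :=
    ⟨_, rfl⟩
  have hc0 : f.coeff 0 ≠ 0 := by
    intro h
    rw [h, map_zero] at h0
    exact exp_ne_zero h0.symm
  have hGval : Q.1 G = 1 := by
    have h0s : (0 : ℕ) ∈ f.support := Polynomial.mem_support_iff.2 hc0
    have hterm0 : Q.1 (s ^ 0 * algebraMap K K' (g (f.coeff 0))) = 1 := by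
      rw [pow_zero, one_mul, he, hg0, one_pow]
    rw [hG, Q.1.map_sum_eq_of_lt h0s (f := fun i => s ^ i * algebraMap K K' (g (f.coeff i))),
      hterm0]
    intro i hi
    rw [Finset.mem_sdiff, Finset.mem_singleton] at hi
    rw [hterm0]
    have hile : i ≤ e := by
      rw [← hde]
      exact Polynomial.le_natDegree_of_mem_supp _ hi.1
    rcases Nat.lt_or_ge i e with hie | hie
    · rw [map_mul, map_pow, hs, he]
      have h1 : exp (-1 : ℤ) ^ i < 1 := by
        apply pow_lt_one₀ zero_le
        · rw [← exp_zero, exp_lt_exp]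
          norm_num
        · exact hi.2
      calc exp (-1 : ℤ) ^ i * P.1 (g (f.coeff i)) ^ e ≤ exp (-1 : ℤ) ^ i * 1 := by
            gcongr
            exact pow_le_one₀ zero_le (hgi i hie)
        _ < 1 := by rwa [mul_one]
    · have hie' : i = e := le_antisymm hile hie
      have hce : f.coeff i = 1 := by
        rw [hie', ← hde]
        exact hm.coeff_natDegree
      rw [hce, hgzero 1 (by simp), map_zero, mul_zero, map_zero]
      exact zero_lt_one
  -- differentiate the relation `f(s) = 0`
  have hrel := D_aeval ψ s f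
  rw [hroot, map_zero, map_zero] at hrel
  have hsum : f.sum (fun i a => ψ s ^ i * LocRes.D F' (ψ (algebraMap K K' a))) =
      ψ G * LocRes.D F' (ψ (algebraMap K K' t)) := by
    rw [Polynomial.sum_def, hG, map_sum, Finset.sum_mul]
    refine Finset.sum_congr rfl (fun i _ => ?_)
    rw [hcψ, map_mul, map_pow]
    ring
  rw [hsum] at hrel
  have hψs : Valued.v (ψ s) = exp (-((1 : ℕ) : ℤ)) := by
    rw [hψ.1 s, hs]
    rfl
  have hDs : Valued.v (LocRes.D F' (ψ s)) = 1 := by
    have := (valued_D_of_val hψs).2.1 (by simp)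
    rw [this]
    simp
  have hfinal : Q.1 (Polynomial.aeval s (Polynomial.derivative f)) =
      LocRes.vDiff ψ 1 (algebraMap K K' t) := by
    have h1 : ψ (Polynomial.aeval s (Polynomial.derivative f)) * LocRes.D F' (ψ s) =
        -(ψ G * LocRes.D F' (ψ (algebraMap K K' t))) := eq_neg_of_add_eq_zero_left hrel.symm
    have h2 := congrArg (Valued.v (R := LaurentSeries F')) h1
    rw [map_mul, hDs, mul_one, Valuation.map_neg, map_mul, hψ.1, hψ.1, hGval, one_mul] at h2
    rw [h2]
    unfold LocRes.vDiff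
    rw [map_one, one_mul]
  unfold Place.ord LocRes.ordDiff
  rw [hfinal]

end Groth.Agent.H27.Eisenstein
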