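import Groth.Agent.H27.EllRigid

set_option autoImplicit false

namespace Groth.Agent.H27.EllRigid

open WeierstrassCurve IsLocalRing

section
variable (R R' : Type*) [CommRing R] [CommRing R'] [Algebra R R'] (m : Ideal R)

/-- The subalgebra `R + mR'`. -/
def T : Subalgebra R R' where
  carrier := {x | ∃ a : R, x - algebraMap R R' a ∈ m.map (algebraMap R R')}
  mul_mem' := by
    rintro x y ⟨a, ha⟩ ⟨b, hb⟩
    refine ⟨a * b, ?_⟩
    have : x * y - algebraMap R R' (a * b) = (x - algebraMap R R' a) * y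
        + algebraMap R R' a * (y - algebraMap R R' b) := by rw [map_mul]; ring
    rw [this]
    exact Ideal.add_mem _ (Ideal.mul_mem_right _ _ ha) (Ideal.mul_mem_left _ _ hb)
  one_mem' := ⟨1, by simp⟩
  add_mem' := by
    rintro x y ⟨a, ha⟩ ⟨b, hb⟩
    refine ⟨a + b, ?_⟩
    have : x + y - algebraMap R R' (a + b) = (x - algebraMap R R' a)
        + (y - algebraMap R R' b) := by rw [map_add]; ring
    rw [this]; exact Ideal.add_mem _ ha hb
  zero_mem' := ⟨0, by simp⟩
  algebraMap_mem' := fun a => ⟨a, by simp⟩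

variable {R R' m}

theorem mem_T_iff {x : R'} :
    x ∈ T R R' m ↔ ∃ a : R, x - algebraMap R R' a ∈ m.map (algebraMap R R') := Iff.rfl

theorem mem_T_of_mem_map {x : R'} (hx : x ∈ m.map (algebraMap R R')) : x ∈ T R R' m :=
  ⟨0, by simpa using hx⟩

end

theorem components_mem_T (R R' : Type*) [CommRing R] [CommRing R'] [Algebra R R']
    [IsLocalRing R] [IsLocalRing R'] [IsLocalHom (algebraMap R R')]
    (hres : ∀ b : R', ∃ a : R, b - algebraMap R R' a ∈ maximalIdeal R')
    (W₁ W₂ : WeierstrassCurve R) [W₁.IsElliptic] [W₂.IsElliptic]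
    (C : VariableChange R')
    (hC : C • W₁.map (algebraMap R R') = W₂.map (algebraMap R R')) :
    (C.u : R') ∈ T R R' (maximalIdeal R) ∧ ((C.u⁻¹ : R'ˣ) : R') ∈ T R R' (maximalIdeal R) ∧
      C.r ∈ T R R' (maximalIdeal R) ∧ C.s ∈ T R R' (maximalIdeal R) ∧
      C.t ∈ T R R' (maximalIdeal R) := by
  set φ := algebraMap R R' with hφ
  set n := maximalIdeal R' with hn
  set m := maximalIdeal R with hm
  obtain ⟨au, hau⟩ := hres C.u
  obtain ⟨ar, har⟩ := hres C.r
  obtain ⟨as, has⟩ := hres C.s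
  obtain ⟨at', hat⟩ := hres C.t
  have hmn : ∀ x : R, φ x ∈ n → x ∈ m := by
    intro x hx
    by_contra hxm
    have hu : IsUnit x := (IsLocalRing.notMem_maximalIdeal).mp hxm
    exact (IsLocalRing.mem_maximalIdeal _).mp hx (hu.map φ)
  have hau_unit : IsUnit au := by
    have h1 : IsUnit (φ au) := by
      apply (IsLocalRing.notMem_maximalIdeal).mp
      intro hmem
      have : (C.u : R') ∈ n := by
        have := n.add_mem hau hmem
        simpa using this
      exact (IsLocalRing.mem_maximalIdeal _).mp this C.u.isUnit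
    exact isUnit_of_map_unit φ au h1
  set C₀ : VariableChange R := ⟨hau_unit.unit, ar, as, at'⟩ with hC₀
  set π := Ideal.Quotient.mk n with hπdef
  set D := C₀.map φ with hD
  have hπ : C.map π = D.map π := by
    ext
    · simp only [VariableChange.map, Units.coe_map, MonoidHom.coe_coe, hD, hC₀, IsUnit.unit_spec]
      exact Ideal.Quotient.eq.mpr hau
    · simp only [VariableChange.map, hD, hC₀]
      exact Ideal.Quotient.eq.mpr har
    · simp only [VariableChange.map, hD, hC₀]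
      exact Ideal.Quotient.eq.mpr has
    · simp only [VariableChange.map, hD, hC₀]
      exact Ideal.Quotient.eq.mpr hat
  set C'' := C * D⁻¹ with hC''def
  have h1 : C''.map π = 1 := by
    show VariableChange.mapHom π (C * D⁻¹) = 1
    rw [map_mul, map_inv]
    show C.map π * (D.map π)⁻¹ = 1
    rw [hπ]; exact mul_inv_cancel _
  have hδn : (C''.u : R') - 1 ∈ n := by
    have := congrArg (fun E : VariableChange (R' ⧸ n) => (E.u : R' ⧸ n)) h1
    simp only [VariableChange.map, Units.coe_map, MonoidHom.coe_coe, VariableChange.one_def,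
      Units.val_one] at this
    rw [← Ideal.Quotient.eq, this, map_one]
  have hrn : C''.r ∈ n := by
    have := congrArg (fun E : VariableChange (R' ⧸ n) => E.r) h1
    simp only [VariableChange.map, VariableChange.one_def] at this
    exact Ideal.Quotient.eq_zero_iff_mem.mp this
  have hsn : C''.s ∈ n := by
    have := congrArg (fun E : VariableChange (R' ⧸ n) => E.s) h1
    simp only [VariableChange.map, VariableChange.one_def] at this
    exact Ideal.Quotient.eq_zero_iff_mem.mp this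
  have htn : C''.t ∈ n := by
    have := congrArg (fun E : VariableChange (R' ⧸ n) => E.t) h1
    simp only [VariableChange.map, VariableChange.one_def] at this
    exact Ideal.Quotient.eq_zero_iff_mem.mp this
  set W₀ := C₀ • W₁ with hW₀
  have hC'' : C'' • (W₀.map φ) = W₂.map φ := by
    rw [hW₀, ← map_variableChange, hC''def, mul_smul, inv_smul_smul]; exact hC
  have hW : (W₀.map φ).map π = (W₂.map φ).map π := by
    have : (C'' • W₀.map φ).map π = (W₂.map φ).map π := by rw [hC'']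
    rw [← map_variableChange, h1, one_smul] at this
    exact this
  have hcoef : ∀ x y : R, π (φ x) = π (φ y) → x - y ∈ m := by
    intro x y hxy
    apply hmn
    rw [map_sub]
    exact Ideal.Quotient.eq.mp hxy
  have c1 : W₀.a₁ - W₂.a₁ ∈ m := hcoef _ _ (congrArg WeierstrassCurve.a₁ hW)
  have c2 : W₀.a₂ - W₂.a₂ ∈ m := hcoef _ _ (congrArg WeierstrassCurve.a₂ hW)
  have c3 : W₀.a₃ - W₂.a₃ ∈ m := hcoef _ _ (congrArg WeierstrassCurve.a₃ hW)
  have c4 : W₀.a₄ - W₂.a₄ ∈ m := hcoef _ _ (congrArg WeierstrassCurve.a₄ hW)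
  have c6 : W₀.a₆ - W₂.a₆ ∈ m := hcoef _ _ (congrArg WeierstrassCurve.a₆ hW)
  set δ : R' := (C''.u : R') - 1 with hδdef
  set 𝔞 : Ideal R' := Ideal.span {δ, C''.r, C''.s, C''.t} with h𝔞
  have hδ𝔞 : δ ∈ 𝔞 := Ideal.subset_span (by simp)
  have hr𝔞 : C''.r ∈ 𝔞 := Ideal.subset_span (by simp)
  have hs𝔞 : C''.s ∈ 𝔞 := Ideal.subset_span (by simp)
  have ht𝔞 : C''.t ∈ 𝔞 := Ideal.subset_span (by simp)
  set J : Ideal R' := m.map φ ⊔ n * 𝔞 with hJ
  set ψ := Ideal.Quotient.mk J with hψ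
  set χ : R →+* R' ⧸ J := ψ.comp φ with hχdef
  have hχ : ∀ x ∈ m, χ x = 0 := by
    intro x hx
    exact Ideal.Quotient.eq_zero_iff_mem.mpr (le_sup_left (a := m.map φ) (Ideal.mem_map_of_mem φ hx))
  have hχeq : ∀ x y : R, x - y ∈ m → χ x = χ y := by
    intro x y hxy
    have := hχ _ hxy
    rwa [map_sub, sub_eq_zero] at this
  have hWQ : W₀.map χ = W₂.map χ := by
    ext
    · exact hχeq _ _ c1
    · exact hχeq _ _ c2
    · exact hχeq _ _ c3
    · exact hχeq _ _ c4
    · exact hχeq _ _ c6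
  have hCQ : (C''.map ψ) • (W₀.map χ) = W₀.map χ := by
    have e1 : W₀.map χ = (W₀.map φ).map ψ := rfl
    rw [e1, map_variableChange, hC'']
    exact hWQ.symm
  have hprod : ∀ x ∈ n, ∀ y ∈ 𝔞, ψ x * ψ y = 0 := by
    intro x hx y hy
    rw [← map_mul]
    exact Ideal.Quotient.eq_zero_iff_mem.mpr (le_sup_right (a := m.map φ) (Ideal.mul_mem_mul hx hy))
  have hcase : (IsUnit (2 : R' ⧸ J) ∧ IsUnit (3 : R' ⧸ J)) ∨
      ((2 : R' ⧸ J) = 0 ∧ (IsUnit (W₀.map χ).a₁ ∨ (W₀.map χ).a₁ = 0)) ∨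
      ((3 : R' ⧸ J) = 0 ∧ (IsUnit (W₀.map χ).b₂ ∨ (W₀.map χ).b₂ = 0)) := by
    have dich : ∀ x : R, IsUnit (χ x) ∨ χ x = 0 := by
      intro x
      by_cases hx : x ∈ m
      · exact Or.inr (hχ x hx)
      · exact Or.inl (((IsLocalRing.notMem_maximalIdeal).mp hx).map χ)
    by_cases h2 : (2 : R) ∈ m
    · right; left
      refine ⟨by rw [← map_ofNat χ 2]; exact hχ 2 h2, ?_⟩
      rw [WeierstrassCurve.map_a₁]; exact dich _
    · by_cases h3 : (3 : R) ∈ m
      · right; right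
        refine ⟨by rw [← map_ofNat χ 3]; exact hχ 3 h3, ?_⟩
        rw [WeierstrassCurve.map_b₂]; exact dich _
      · left
        have u2 := ((IsLocalRing.notMem_maximalIdeal).mp h2).map χ
        have u3 := ((IsLocalRing.notMem_maximalIdeal).mp h3).map χ
        refine ⟨by rw [← map_ofNat χ 2]; exact u2, by rw [← map_ofNat χ 3]; exact u3⟩
  have hrig := rigid (W₀.map χ) (W₀.map χ).isUnit_Δ (C''.map ψ) hCQ (ψ δ)
    (by simp only [VariableChange.map, Units.coe_map, MonoidHom.coe_coe, hδdef, map_sub, map_one]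
        ring)
    (hprod _ hδn _ hδ𝔞) (hprod _ hrn _ hr𝔞) (hprod _ hrn _ hs𝔞) (hprod _ hrn _ ht𝔞)
    (hprod _ hsn _ hs𝔞) (hprod _ hsn _ ht𝔞) (hprod _ htn _ ht𝔞) hcase
  obtain ⟨d0, r0, s0, t0⟩ := hrig
  have hδJ : δ ∈ J := Ideal.Quotient.eq_zero_iff_mem.mp d0
  have hrJ : C''.r ∈ J := Ideal.Quotient.eq_zero_iff_mem.mp r0
  have hsJ : C''.s ∈ J := Ideal.Quotient.eq_zero_iff_mem.mp s0
  have htJ : C''.t ∈ J := Ideal.Quotient.eq_zero_iff_mem.mp t0
  have h𝔞J : 𝔞 ≤ J := by
    rw [h𝔞, Ideal.span_le]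
    rintro x (rfl | rfl | rfl | rfl)
    · exact hδJ
    · exact hrJ
    · exact hsJ
    · exact htJ
  have h𝔞m : 𝔞 ≤ m.map φ := by
    refine Submodule.le_of_le_smul_of_le_jacobson_bot (I := n) ?_ ?_ h𝔞J
    · exact Submodule.fg_span (Set.toFinite _)
    · exact IsLocalRing.maximalIdeal_le_jacobson ⊥
  -- back to C
  have hCD : C = C'' * D := (inv_mul_cancel_right C D).symm
  have Tδ : δ ∈ T R R' m := mem_T_of_mem_map (h𝔞m hδ𝔞)
  have Tr : C''.r ∈ T R R' m := mem_T_of_mem_map (h𝔞m hr𝔞)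
  have Ts : C''.s ∈ T R R' m := mem_T_of_mem_map (h𝔞m hs𝔞)
  have Tt : C''.t ∈ T R R' m := mem_T_of_mem_map (h𝔞m ht𝔞)
  have Tu : (C''.u : R') ∈ T R R' m := by
    have : (C''.u : R') = 1 + δ := by rw [hδdef]; ring
    rw [this]; exact (T R R' m).add_mem (T R R' m).one_mem Tδ
  have Tui : ((C''.u⁻¹ : R'ˣ) : R') ∈ T R R' m := by
    have e : ((C''.u⁻¹ : R'ˣ) : R') = 1 - δ * ((C''.u⁻¹ : R'ˣ) : R') := by
      have := C''.u.mul_inv
      rw [hδdef]; linear_combination this
    rw [e]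
    refine (T R R' m).sub_mem (T R R' m).one_mem (mem_T_of_mem_map ?_)
    exact Ideal.mul_mem_right _ _ (h𝔞m hδ𝔞)
  have TDu : (D.u : R') ∈ T R R' m := (T R R' m).algebraMap_mem _
  have TDui : ((D.u⁻¹ : R'ˣ) : R') ∈ T R R' m := by
    have : ((D.u⁻¹ : R'ˣ) : R') = algebraMap R R' ((C₀.u⁻¹ : Rˣ) : R) := by
      simp [hD, VariableChange.map, hφ]
    rw [this]; exact (T R R' m).algebraMap_mem _
  have TDr : D.r ∈ T R R' m := (T R R' m).algebraMap_mem _
  have TDs : D.s ∈ T R R' m := (T R R' m).algebraMap_mem _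
  have TDt : D.t ∈ T R R' m := (T R R' m).algebraMap_mem _
  have eu : C.u = C''.u * D.u := congrArg VariableChange.u hCD
  have er : C.r = C''.r * (D.u : R') ^ 2 + D.r := congrArg VariableChange.r hCD
  have es : C.s = (D.u : R') * C''.s + D.s := congrArg VariableChange.s hCD
  have et : C.t = C''.t * (D.u : R') ^ 3 + C''.r * D.s * (D.u : R') ^ 2 + D.t :=
    congrArg VariableChange.t hCD
  refine ⟨?_, ?_, ?_, ?_, ?_⟩
  · rw [eu, Units.val_mul]; exact (T R R' m).mul_mem Tu TDu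
  · rw [eu, mul_inv, Units.val_mul]; exact (T R R' m).mul_mem Tui TDui
  · rw [er]; exact (T R R' m).add_mem ((T R R' m).mul_mem Tr ((T R R' m).pow_mem TDu 2)) TDr
  · rw [es]; exact (T R R' m).add_mem ((T R R' m).mul_mem TDu Ts) TDs
  · rw [et]
    exact (T R R' m).add_mem ((T R R' m).add_mem ((T R R' m).mul_mem Tt ((T R R' m).pow_mem TDu 3))
      ((T R R' m).mul_mem ((T R R' m).mul_mem Tr TDs) ((T R R' m).pow_mem TDu 2))) TDt

end Groth.Agent.H27.EllRigid
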