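import Groth.Agent.H27.EllLocal
import Groth.Agent.H3.HInt

set_option autoImplicit false

namespace Groth.Agent.H27.EllRigid

open WeierstrassCurve IsLocalRing Polynomial

section Integral

variable {R : Type*} [CommRing R] {L : Type*} [CommRing L] [Algebra R L]

theorem isIntegral_of_quartic {x c₂ c₁ c₀ : L} (h₂ : IsIntegral R c₂) (h₁ : IsIntegral R c₁)
    (h₀ : IsIntegral R c₀) (h : x ^ 4 + c₂ * x ^ 2 + c₁ * x + c₀ = 0) : IsIntegral R x := by
  let S := integralClosure R L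
  refine isIntegral_trans (A := S) x ?_
  refine ⟨X ^ 4 + C (⟨c₂, h₂⟩ : S) * X ^ 2 + C (⟨c₁, h₁⟩ : S) * X + C (⟨c₀, h₀⟩ : S), ?_, ?_⟩
  · monicity!
  · simp only [eval₂_add, eval₂_mul, eval₂_pow, eval₂_X, eval₂_C]
    exact h

theorem isIntegral_of_quadratic {x c₁ c₀ : L} (h₁ : IsIntegral R c₁)
    (h₀ : IsIntegral R c₀) (h : x ^ 2 + c₁ * x + c₀ = 0) : IsIntegral R x := by
  let S := integralClosure R L
  refine isIntegral_trans (A := S) x ?_
  refine ⟨X ^ 2 + C (⟨c₁, h₁⟩ : S) * X + C (⟨c₀, h₀⟩ : S), ?_, ?_⟩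
  · monicity!
  · simp only [eval₂_add, eval₂_mul, eval₂_pow, eval₂_X, eval₂_C]
    exact h

theorem isIntegral_components (W₁ W₂ : WeierstrassCurve R) [W₁.IsElliptic] [W₂.IsElliptic]
    (C : VariableChange L)
    (hC : C • W₁.map (algebraMap R L) = W₂.map (algebraMap R L)) :
    IsIntegral R (C.u : L) ∧ IsIntegral R ((C.u⁻¹ : Lˣ) : L) ∧ IsIntegral R C.r ∧
      IsIntegral R C.s ∧ IsIntegral R C.t := by
  set φ := algebraMap R L with hφ
  obtain ⟨-, E2, -, -, E6, Eb6, Eb8, EΔ⟩ := eqs C _ _ hC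
  simp only [map_a₁, map_a₂, map_a₃, map_a₄, map_a₆, map_b₂, map_b₄, map_b₆, map_b₈, map_Δ]
    at E2 E6 Eb6 Eb8 EΔ
  have hint : ∀ a : R, IsIntegral R (φ a) := fun a => isIntegral_algebraMap
  have hu : IsIntegral R (C.u : L) := by
    refine IsIntegral.of_pow (n := 12) (by norm_num) ?_
    have h2 : φ W₂.Δ * φ ((W₂.Δ'⁻¹ : Rˣ) : R) = 1 := by
      rw [← map_mul, ← W₂.coe_Δ', Units.mul_inv, map_one]
    have : (C.u : L) ^ 12 = φ (W₁.Δ * ((W₂.Δ'⁻¹ : Rˣ) : R)) := by
      rw [map_mul, ← EΔ]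
      linear_combination (-(C.u : L) ^ 12) * h2
    rw [this]; exact hint _
  have hui : IsIntegral R ((C.u⁻¹ : Lˣ) : L) := by
    refine IsIntegral.of_pow (n := 12) (by norm_num) ?_
    have h1 : φ W₁.Δ * φ ((W₁.Δ'⁻¹ : Rˣ) : R) = 1 := by
      rw [← map_mul, ← W₁.coe_Δ', Units.mul_inv, map_one]
    have h3 : ((C.u⁻¹ : Lˣ) : L) ^ 12 * (C.u : L) ^ 12 = 1 := by
      rw [← mul_pow, Units.inv_mul, one_pow]
    have : ((C.u⁻¹ : Lˣ) : L) ^ 12 = φ (W₂.Δ * ((W₁.Δ'⁻¹ : Rˣ) : R)) := by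
      rw [map_mul]
      linear_combination (-((C.u⁻¹ : Lˣ) : L) ^ 12) * h1
        - (((C.u⁻¹ : Lˣ) : L) ^ 12 * φ ((W₁.Δ'⁻¹ : Rˣ) : R)) * EΔ
        + (φ W₂.Δ * φ ((W₁.Δ'⁻¹ : Rˣ) : R)) * h3
    rw [this]; exact hint _
  have hr : IsIntegral R C.r := by
    refine isIntegral_of_quartic (c₂ := -φ W₁.b₄)
      (c₁ := -(φ (2 * W₁.b₆) + (C.u : L) ^ 6 * φ W₂.b₆))
      (c₀ := (C.u : L) ^ 8 * φ W₂.b₈ - φ W₁.b₈) ?_ ?_ ?_ ?_
    · exact (hint _).neg
    · exact ((hint _).add ((hu.pow 6).mul (hint _))).neg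
    · exact ((hu.pow 8).mul (hint _)).sub (hint _)
    · rw [map_mul, map_ofNat]
      linear_combination (-C.r) * Eb6 + Eb8
  have hs : IsIntegral R C.s := by
    refine isIntegral_of_quadratic (c₁ := φ W₁.a₁)
      (c₀ := (C.u : L) ^ 2 * φ W₂.a₂ - φ W₁.a₂ - φ 3 * C.r) (hint _) ?_ ?_
    · exact (((hu.pow 2).mul (hint _)).sub (hint _)).sub ((hint _).mul hr)
    · rw [map_ofNat]
      linear_combination E2
  have ht : IsIntegral R C.t := by
    refine isIntegral_of_quadratic (c₁ := φ W₁.a₃ + C.r * φ W₁.a₁)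
      (c₀ := (C.u : L) ^ 6 * φ W₂.a₆ - φ W₁.a₆ - C.r * φ W₁.a₄ - C.r ^ 2 * φ W₁.a₂ - C.r ^ 3)
      ?_ ?_ ?_
    · exact (hint _).add (hr.mul (hint _))
    · exact (((((hu.pow 6).mul (hint _)).sub (hint _)).sub (hr.mul (hint _))).sub
        ((hr.pow 2).mul (hint _))).sub (hr.pow 3)
    · linear_combination E6
  exact ⟨hu, hui, hr, hs, ht⟩

end Integral

universe u

theorem exists_variableChange_of_j_eq_completeLocalDomain (R : Type u) [CommRing R] [IsDomain R]
    [IsNoetherianRing R] [IsLocalRing R] [IsAdicComplete (IsLocalRing.maximalIdeal R) R]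
    [IsAlgClosed (IsLocalRing.ResidueField R)]
    (W₁ W₂ : WeierstrassCurve R) [W₁.IsElliptic] [W₂.IsElliptic] (hj : W₁.j = W₂.j) :
    ∃ C : WeierstrassCurve.VariableChange R, C • W₁ = W₂ := by
  let K := FractionRing R
  let L := AlgebraicClosure K
  have hinj : Function.Injective (algebraMap R L) := by
    rw [IsScalarTower.algebraMap_eq R K L]
    exact (algebraMap K L).injective.comp (IsFractionRing.injective R K)
  obtain ⟨Cbar, hCbar⟩ := WeierstrassCurve.exists_variableChange_of_j_eq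
    (W₁.map (algebraMap R L)) (W₂.map (algebraMap R L)) (by rw [map_j, map_j, hj])
  obtain ⟨iu, iui, ir, is, it⟩ := isIntegral_components W₁ W₂ Cbar hCbar
  let gens : Set L := {(Cbar.u : L), ((Cbar.u⁻¹ : Lˣ) : L), Cbar.r, Cbar.s, Cbar.t}
  have hgens_int : ∀ x ∈ gens, IsIntegral R x := by
    rintro x (rfl | rfl | rfl | rfl | rfl)
    · exact iu
    · exact iui
    · exact ir
    · exact is
    · exact it
  let R' : Subalgebra R L := Algebra.adjoin R gens
  have hfin : Module.Finite R R' :=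
    Algebra.finite_adjoin_of_finite_of_isIntegral (Set.toFinite gens) hgens_int
  have : Algebra.IsIntegral R R' := Algebra.IsIntegral.of_finite R R'
  have : HenselianLocalRing R := H3.henselianLocalRing_of_henselianRing_maximalIdeal R
  have : IsLocalRing R' := H3.isLocalRing_of_isIntegral_of_isDomain R R'
  have : IsLocalHom (algebraMap R R') := H3.isLocalHom_of_isIntegral R R'
  have hres : ∀ b : R', ∃ a : R, b - algebraMap R R' a ∈ maximalIdeal R' := by
    intro b
    have : Algebra.IsIntegral (ResidueField R) (ResidueField R') := Algebra.IsIntegral.of_finite _ _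
    have hs := (IsAlgClosed.algebraMap_bijective_of_isIntegral (k := ResidueField R)
      (K := ResidueField R')).2
    obtain ⟨x, hx⟩ := hs (residue R' b)
    obtain ⟨a, rfl⟩ := residue_surjective x
    refine ⟨a, ?_⟩
    rw [← residue_eq_zero_iff, map_sub, ← hx, IsLocalRing.ResidueField.algebraMap_residue, sub_self]
  have hsub : ∀ x ∈ gens, x ∈ R' := fun x hx => Algebra.subset_adjoin hx
  let u' : R'ˣ := ⟨⟨(Cbar.u : L), hsub _ (by simp [gens])⟩,
    ⟨((Cbar.u⁻¹ : Lˣ) : L), hsub _ (by simp [gens])⟩,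
    Subtype.ext (by simp), Subtype.ext (by simp)⟩
  let C' : VariableChange R' := ⟨u', ⟨Cbar.r, hsub _ (by simp [gens])⟩,
    ⟨Cbar.s, hsub _ (by simp [gens])⟩, ⟨Cbar.t, hsub _ (by simp [gens])⟩⟩
  have hC'map : C'.map (R'.val : R' →+* L) = Cbar := by
    ext <;> rfl
  have hcomp : (R'.val : R' →+* L).comp (algebraMap R R') = algebraMap R L := rfl
  have hC' : C' • W₁.map (algebraMap R R') = W₂.map (algebraMap R R') := by
    apply WeierstrassCurve.map_injective (f := (R'.val : R' →+* L)) Subtype.val_injective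
    show (C' • W₁.map (algebraMap R R')).map _ = (W₂.map (algebraMap R R')).map _
    rw [← map_variableChange, hC'map, WeierstrassCurve.map_map, WeierstrassCurve.map_map, hcomp]
    exact hCbar
  obtain ⟨Tu, Tui, Tr, Ts, Tt⟩ := components_mem_T R R' hres W₁ W₂ C' hC'
  set TT := T R R' (maximalIdeal R) with hTT
  have hT : ∀ x : R', x ∈ TT := by
    have hle : R' ≤ TT.map R'.val := by
      refine Algebra.adjoin_le ?_
      rintro x (rfl | rfl | rfl | rfl | rfl)
      · exact ⟨_, Tu, rfl⟩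
      · exact ⟨_, Tui, rfl⟩
      · exact ⟨_, Tr, rfl⟩
      · exact ⟨_, Ts, rfl⟩
      · exact ⟨_, Tt, rfl⟩
    intro x
    obtain ⟨y, hy, hyx⟩ := hle x.2
    have : y = x := Subtype.val_injective hyx
    rwa [← this]
  have hsurj : Function.Surjective (algebraMap R R') := by
    have hle : (⊤ : Submodule R R') ≤ LinearMap.range (Algebra.linearMap R R') := by
      refine Submodule.le_of_le_smul_of_le_jacobson_bot (I := maximalIdeal R) ?_ ?_ ?_
      · exact Module.Finite.fg_top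
      · exact IsLocalRing.maximalIdeal_le_jacobson ⊥
      · intro x _
        obtain ⟨a, ha⟩ := hT x
        refine Submodule.mem_sup.mpr ⟨algebraMap R R' a, ⟨a, rfl⟩, x - algebraMap R R' a, ?_, by ring⟩
        rw [Ideal.smul_top_eq_map]
        exact ha
    intro x
    obtain ⟨a, ha⟩ := hle (Submodule.mem_top (x := x))
    exact ⟨a, ha⟩
  have hinj' : Function.Injective (algebraMap R R') := by
    have : Function.Injective ((R'.val : R' →+* L) ∘ (algebraMap R R')) := hinj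
    exact Function.Injective.of_comp this
  obtain ⟨bu, hbu⟩ := hsurj (C'.u : R')
  obtain ⟨br, hbr⟩ := hsurj C'.r
  obtain ⟨bs, hbs⟩ := hsurj C'.s
  obtain ⟨bt, hbt⟩ := hsurj C'.t
  have hbu_unit : IsUnit bu := by
    apply isUnit_of_map_unit (algebraMap R R')
    rw [hbu]; exact C'.u.isUnit
  refine ⟨⟨hbu_unit.unit, br, bs, bt⟩, ?_⟩
  apply WeierstrassCurve.map_injective hinj'
  show ((⟨hbu_unit.unit, br, bs, bt⟩ : VariableChange R) • W₁).map (algebraMap R R') =
    W₂.map (algebraMap R R')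
  rw [← map_variableChange, ← hC']
  congr 1
  refine VariableChange.ext (Units.ext ?_) hbr hbs hbt
  simpa [VariableChange.map] using hbu

end Groth.Agent.H27.EllRigid
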