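import Mathlib

set_option autoImplicit false

/-! Rigidity of isomorphisms of Weierstrass elliptic curves (infinitesimal form). -/

namespace Groth.Agent.H27.EllRigid

open WeierstrassCurve

variable {R : Type*} [CommRing R]

theorem unit_pow_cancel (u : Rˣ) (n : ℕ) (x : R) :
    (u : R) ^ n * (((u⁻¹ : Rˣ) : R) ^ n * x) = x := by
  rw [← mul_assoc, ← mul_pow, Units.mul_inv, one_pow, one_mul]

/-- exact (denominator-free) transformation equations -/
theorem eqs (C : VariableChange R) (W W' : WeierstrassCurve R) (h : C • W = W') :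
    (C.u : R) * W'.a₁ = W.a₁ + 2 * C.s ∧
    (C.u : R) ^ 2 * W'.a₂ = W.a₂ - C.s * W.a₁ + 3 * C.r - C.s ^ 2 ∧
    (C.u : R) ^ 3 * W'.a₃ = W.a₃ + C.r * W.a₁ + 2 * C.t ∧
    (C.u : R) ^ 4 * W'.a₄ = W.a₄ - C.s * W.a₃ + 2 * C.r * W.a₂ - (C.t + C.r * C.s) * W.a₁
      + 3 * C.r ^ 2 - 2 * C.s * C.t ∧
    (C.u : R) ^ 6 * W'.a₆ = W.a₆ + C.r * W.a₄ + C.r ^ 2 * W.a₂ + C.r ^ 3 - C.t * W.a₃ - C.t ^ 2
      - C.r * C.t * W.a₁ ∧
    (C.u : R) ^ 6 * W'.b₆ = W.b₆ + 2 * C.r * W.b₄ + C.r ^ 2 * W.b₂ + 4 * C.r ^ 3 ∧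
    (C.u : R) ^ 8 * W'.b₈ = W.b₈ + 3 * C.r * W.b₆ + 3 * C.r ^ 2 * W.b₄ + C.r ^ 3 * W.b₂
      + 3 * C.r ^ 4 ∧
    (C.u : R) ^ 12 * W'.Δ = W.Δ := by
  subst h
  refine ⟨?_, ?_, ?_, ?_, ?_, ?_, ?_, ?_⟩
  · have := unit_pow_cancel C.u 1 (W.a₁ + 2 * C.s)
    rw [variableChange_a₁]; simpa using this
  · rw [variableChange_a₂]; exact unit_pow_cancel _ _ _
  · rw [variableChange_a₃]; exact unit_pow_cancel _ _ _
  · rw [variableChange_a₄]; exact unit_pow_cancel _ _ _
  · rw [variableChange_a₆]; exact unit_pow_cancel _ _ _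
  · rw [variableChange_b₆]; exact unit_pow_cancel _ _ _
  · rw [variableChange_b₈]; exact unit_pow_cancel _ _ _
  · rw [variableChange_Δ]; exact unit_pow_cancel _ _ _

theorem one_add_pow_of_sq_zero (δ : R) (h : δ * δ = 0) (n : ℕ) : (1 + δ) ^ n = 1 + n * δ := by
  induction n with
  | zero => simp
  | succ n ih =>
    rw [pow_succ, ih]; push_cast
    linear_combination (n : R) * h

/-- Infinitesimal rigidity. -/
theorem rigid {Q : Type*} [CommRing Q] (W : WeierstrassCurve Q) (hΔ : IsUnit W.Δ)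
    (C : VariableChange Q) (hC : C • W = W)
    (δ : Q) (hδ : (C.u : Q) = 1 + δ)
    (hδδ : δ * δ = 0)
    (hrr : C.r * C.r = 0) (hrs : C.r * C.s = 0) (hrt : C.r * C.t = 0)
    (hss : C.s * C.s = 0) (hst : C.s * C.t = 0) (htt : C.t * C.t = 0)
    (hcase : (IsUnit (2 : Q) ∧ IsUnit (3 : Q)) ∨ ((2 : Q) = 0 ∧ (IsUnit W.a₁ ∨ W.a₁ = 0)) ∨
      ((3 : Q) = 0 ∧ (IsUnit W.b₂ ∨ W.b₂ = 0))) :
    δ = 0 ∧ C.r = 0 ∧ C.s = 0 ∧ C.t = 0 := by
  obtain ⟨E1, E2, E3, E4, E6, -, -, EΔ⟩ := eqs C W W hC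
  rw [hδ] at E1 E2 E3 E4 E6 EΔ
  rw [one_add_pow_of_sq_zero δ hδδ] at E2 E3 E4 E6 EΔ
  push_cast at E2 E3 E4 E6 EΔ
  set r := C.r with hr
  set s := C.s with hs
  set t := C.t with ht
  have L1 : δ * W.a₁ = 2 * s := by linear_combination E1
  have L2 : 2 * δ * W.a₂ = -s * W.a₁ + 3 * r := by linear_combination E2 - hss
  have L3 : 3 * δ * W.a₃ = r * W.a₁ + 2 * t := by linear_combination E3
  have L4 : 4 * δ * W.a₄ = -s * W.a₃ + 2 * r * W.a₂ - t * W.a₁ := by
    linear_combination E4 + (-W.a₁) * hrs + 3 * hrr - 2 * hst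
  have L6 : 6 * δ * W.a₆ = r * W.a₄ - t * W.a₃ := by
    linear_combination E6 + W.a₂ * hrr + r * hrr - htt - W.a₁ * hrt
  have LΔ : (12 * W.Δ) * δ = 0 := by linear_combination EΔ
  rcases hcase with ⟨h2, h3⟩ | ⟨h2, h1⟩ | ⟨h3, hb⟩
  · have h12 : IsUnit (12 * W.Δ) := by
      have : (12 : Q) = 2 * 2 * 3 := by norm_num
      rw [this]; exact ((h2.mul h2).mul h3).mul hΔ
    have d0 : δ = 0 := (h12.mul_right_eq_zero).mp LΔ
    have s0 : s = 0 := by
      refine (h2.mul_right_eq_zero).mp ?_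
      linear_combination (-1 : Q) * L1 + W.a₁ * d0
    have r0 : r = 0 := by
      refine (h3.mul_right_eq_zero).mp ?_
      linear_combination (-1 : Q) * L2 + 2 * W.a₂ * d0 + W.a₁ * s0
    have t0 : t = 0 := by
      refine (h2.mul_right_eq_zero).mp ?_
      linear_combination (-1 : Q) * L3 + 3 * W.a₃ * d0 + (-W.a₁) * r0
    exact ⟨d0, r0, s0, t0⟩
  · -- characteristic 2
    have M1 : δ * W.a₁ = 0 := by linear_combination L1 + s * h2
    have M2 : r = s * W.a₁ := by linear_combination (-1 : Q) * L2 + (δ * W.a₂ - r) * h2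
    have M3 : δ * W.a₃ = r * W.a₁ := by linear_combination L3 + (t - δ * W.a₃) * h2
    have M4 : s * W.a₃ + t * W.a₁ = 0 := by
      linear_combination (-1 : Q) * L4 + (2 * δ * W.a₄ - r * W.a₂ + t * W.a₁ + s * W.a₃) * h2
    have M6 : r * W.a₄ = t * W.a₃ := by
      linear_combination (-1 : Q) * L6 + (3 * δ * W.a₆) * h2
    rcases h1 with h1 | h1
    · have d0 : δ = 0 := (h1.mul_left_eq_zero).mp M1
      have r0 : r = 0 := by
        refine (h1.mul_left_eq_zero).mp ?_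
        linear_combination (-1 : Q) * M3 + W.a₃ * d0
      have s0 : s = 0 := by
        refine (h1.mul_left_eq_zero).mp ?_
        linear_combination (-1 : Q) * M2 + r0
      have t0 : t = 0 := by
        refine (h1.mul_left_eq_zero).mp ?_
        linear_combination M4 - W.a₃ * s0
      exact ⟨d0, r0, s0, t0⟩
    · have h3u : IsUnit W.a₃ := by
        have hΔ' : W.Δ = W.a₃ ^ 4 := by
          simp only [WeierstrassCurve.Δ, WeierstrassCurve.b₂, WeierstrassCurve.b₄,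
            WeierstrassCurve.b₆, WeierstrassCurve.b₈, h1]
          linear_combination (-14 * W.a₃ ^ 4 - 108 * W.a₃ ^ 2 * W.a₆ - 216 * W.a₆ ^ 2
            - 32 * W.a₄ ^ 3 - 8 * W.a₂ ^ 2 * (4 * W.a₂ * W.a₆ + W.a₂ * W.a₃ ^ 2 - W.a₄ ^ 2)
            + 36 * W.a₂ * W.a₄ * (W.a₃ ^ 2 + 4 * W.a₆)) * h2
        rw [hΔ'] at hΔ
        exact (isUnit_pow_iff (by norm_num)).mp hΔ
      have r0 : r = 0 := by rw [M2, h1, mul_zero]
      have d0 : δ = 0 := by
        refine (h3u.mul_left_eq_zero).mp ?_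
        rw [M3, r0, zero_mul]
      have s0 : s = 0 := by
        refine (h3u.mul_left_eq_zero).mp ?_
        linear_combination M4 - t * h1
      have t0 : t = 0 := by
        refine (h3u.mul_left_eq_zero).mp ?_
        linear_combination (-1 : Q) * M6 + W.a₄ * r0
      exact ⟨d0, r0, s0, t0⟩
  · -- characteristic 3
    have h2u : IsUnit (2 : Q) := by
      refine isUnit_iff_exists_inv.mpr ⟨-1, ?_⟩
      linear_combination (-1 : Q) * h3
    have N1 : W.b₂ * δ = 0 := by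
      simp only [WeierstrassCurve.b₂]
      linear_combination W.a₁ * L1 + 2 * L2 + 2 * r * h3
    have N3 : 2 * t = -r * W.a₁ := by linear_combination (-1 : Q) * L3 + δ * W.a₃ * h3
    have N4 : W.b₂ * r = W.b₄ * δ := by
      simp only [WeierstrassCurve.b₂, WeierstrassCurve.b₄]
      linear_combination (-2 : Q) * L4 - W.a₃ * L1 + W.a₁ * N3 + 2 * δ * W.a₄ * h3
    have N6 : W.b₄ * r = 0 := by
      simp only [WeierstrassCurve.b₄]
      linear_combination (-2 : Q) * L6 + W.a₃ * N3 + 4 * δ * W.a₆ * h3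
    have fin : δ = 0 → r = 0 → δ = 0 ∧ r = 0 ∧ s = 0 ∧ t = 0 := by
      intro d0 r0
      have s0 : s = 0 := by
        refine (h2u.mul_right_eq_zero).mp ?_
        linear_combination (-1 : Q) * L1 + W.a₁ * d0
      have t0 : t = 0 := by
        refine (h2u.mul_right_eq_zero).mp ?_
        linear_combination N3 - W.a₁ * r0
      exact ⟨d0, r0, s0, t0⟩
    rcases hb with hb | hb
    · have d0 : δ = 0 := (hb.mul_right_eq_zero).mp N1
      have r0 : r = 0 := by
        refine (hb.mul_right_eq_zero).mp ?_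
        rw [N4, d0, mul_zero]
      exact fin d0 r0
    · have h4u : IsUnit W.b₄ := by
        have hΔ' : W.Δ = W.b₄ ^ 3 := by
          simp only [WeierstrassCurve.Δ, hb]
          linear_combination (-3 * W.b₄ ^ 3 - 9 * W.b₆ ^ 2) * h3
        rw [hΔ'] at hΔ
        exact (isUnit_pow_iff (by norm_num)).mp hΔ
      have r0 : r = 0 := (h4u.mul_right_eq_zero).mp N6
      have d0 : δ = 0 := by
        refine (h4u.mul_right_eq_zero).mp ?_
        rw [← N4, r0, mul_zero]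
      exact fin d0 r0

end Groth.Agent.H27.EllRigid
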