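import Mathlib

/-!
# Nilpotency of finitely generated Lie algebras over commutative rings, fibrewise

A Lie algebra over a commutative ring `A`, finitely generated as a module, is nilpotent as soon as
all its fibres `κ(p) ⊗ L` are; and (Engel) as soon as all `ad x` are nilpotent.
-/

set_option autoImplicit false

namespace Groth.Agent.H27.EngelFG

open LieModule TensorProduct

universe u

variable {A : Type u} [CommRing A] {L : Type u} [LieRing L] [LieAlgebra A L]

/-- The terms of the lower central series are finitely generated modules. -/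
theorem lcs_fg [Module.Finite A L] (n : ℕ) :
    (lowerCentralSeries A L L n).toSubmodule.FG := by
  induction n with
  | zero =>
    rw [LieModule.lowerCentralSeries_zero, LieSubmodule.top_toSubmodule]
    exact Module.Finite.fg_top
  | succ n ih =>
    rw [LieModule.lowerCentralSeries_succ, LieSubmodule.lieIdeal_oper_eq_linear_span']
    let B : L →ₗ[A] L →ₗ[A] L := (LieModule.toEnd A L L : L →ₗ[A] Module.End A L)
    have h := Submodule.FG.map₂ B (Module.Finite.fg_top (R := A) (M := L)) ih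
    rw [Submodule.map₂_eq_span_image2] at h
    convert h using 2
    ext m
    simp only [Set.mem_setOf_eq, Set.mem_image2, SetLike.mem_coe, Submodule.mem_top, true_and,
      LieSubmodule.mem_top, LieSubmodule.mem_toSubmodule]
    rfl

/-- The bracket trick. -/
theorem lcs_add_le (I : Ideal A) {n : ℕ}
    (h : (lowerCentralSeries A L L n).toSubmodule ≤ I • ⊤) (a : ℕ) :
    (lowerCentralSeries A L L (n + a)).toSubmodule ≤
      I • (lowerCentralSeries A L L a).toSubmodule := by
  induction a with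
  | zero =>
    rw [add_zero, LieModule.lowerCentralSeries_zero, LieSubmodule.top_toSubmodule]
    exact h
  | succ a ih =>
    rw [← add_assoc, LieModule.lowerCentralSeries_succ, LieSubmodule.lieIdeal_oper_eq_linear_span',
      Submodule.span_le]
    rintro _ ⟨x, -, m, hm, rfl⟩
    have hm' := ih hm
    rw [SetLike.mem_coe]
    refine Submodule.smul_induction_on hm' ?_ ?_
    · intro r hr y hy
      rw [lie_smul]
      refine Submodule.smul_mem_smul hr ?_
      rw [LieModule.lowerCentralSeries_succ]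
      exact LieSubmodule.lie_mem_lie (LieSubmodule.mem_top x) hy
    · intro y z hy hz
      rw [lie_add]
      exact add_mem hy hz

variable (A L) in
/-- `L / I L` is nilpotent. -/
def P (I : Ideal A) : Prop :=
  ∃ n : ℕ, (lowerCentralSeries A L L n).toSubmodule ≤
    I • (⊤ : Submodule A L)

theorem P_mul {I J : Ideal A} (hI : P A L I) (hJ : P A L J) : P A L (I * J) := by
  obtain ⟨n, hn⟩ := hI
  obtain ⟨m, hm⟩ := hJ
  refine ⟨n + m, (lcs_add_le I hn m).trans ?_⟩
  rw [Submodule.mul_smul]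
  exact Submodule.smul_mono le_rfl hm

theorem P_mono {I J : Ideal A} (hIJ : I ≤ J) (hI : P A L I) : P A L J := by
  obtain ⟨n, hn⟩ := hI
  exact ⟨n, hn.trans (Submodule.smul_mono_left hIJ)⟩

theorem isOka_P : Ideal.IsOka (P A L) where
  top := ⟨0, by rw [Submodule.top_smul]; exact le_top⟩
  oka {I a} h₁ h₂ := by
    refine P_mono ?_ (P_mul h₁ h₂)
    rw [Ideal.sup_mul]
    refine sup_le Ideal.mul_le_left ?_
    rw [Ideal.span_singleton_mul_le_iff]
    intro z hz
    rw [Ideal.mem_colon_span_singleton] at hz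
    rwa [mul_comm]

theorem chain_P [Module.Finite A L] (C : Set (Ideal A)) (hC : IsChain (· ≤ ·) C)
    (J : Ideal A) (hJ : J ∈ C) (h : P A L (sSup C)) : ∃ I ∈ C, P A L I := by
  classical
  obtain ⟨n, hn⟩ := h
  obtain ⟨G, hG⟩ := lcs_fg (A := A) (L := L) n
  have key : ∀ g ∈ (sSup C) • (⊤ : Submodule A L), ∃ I ∈ C, g ∈ I • (⊤ : Submodule A L) := by
    intro g hg
    refine Submodule.smul_induction_on hg ?_ ?_
    · intro r hr x _
      obtain ⟨I, hIC, hrI⟩ := (Submodule.mem_sSup_of_directed ⟨J, hJ⟩ hC.directedOn).1 hr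
      exact ⟨I, hIC, Submodule.smul_mem_smul hrI Submodule.mem_top⟩
    · rintro x y ⟨I₁, h₁C, hx⟩ ⟨I₂, h₂C, hy⟩
      rcases hC.total h₁C h₂C with h12 | h21
      · exact ⟨I₂, h₂C, add_mem (Submodule.smul_mono_left h12 hx) hy⟩
      · exact ⟨I₁, h₁C, add_mem hx (Submodule.smul_mono_left h21 hy)⟩
  have hfin : ∀ G' : Finset L, (∀ g ∈ G', g ∈ (sSup C) • (⊤ : Submodule A L)) →
      ∃ I ∈ C, ∀ g ∈ G', g ∈ I • (⊤ : Submodule A L) := by
    intro G'
    induction G' using Finset.induction_on with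
    | empty => intro _; exact ⟨J, hJ, by simp⟩
    | insert g G' _ ih =>
      intro hall
      obtain ⟨I₁, h₁C, h₁⟩ := ih (fun g' hg' => hall g' (Finset.mem_insert_of_mem hg'))
      obtain ⟨I₂, h₂C, h₂⟩ := key g (hall g (Finset.mem_insert_self _ _))
      rcases hC.total h₁C h₂C with h12 | h21
      · refine ⟨I₂, h₂C, fun g' hg' => ?_⟩
        rcases Finset.mem_insert.mp hg' with rfl | hg''
        · exact h₂
        · exact Submodule.smul_mono_left h12 (h₁ g' hg'')
      · refine ⟨I₁, h₁C, fun g' hg' => ?_⟩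
        rcases Finset.mem_insert.mp hg' with rfl | hg''
        · exact Submodule.smul_mono_left h21 h₂
        · exact h₁ g' hg''
  obtain ⟨I, hIC, hI⟩ := hfin G (fun g hg => hn (hG ▸ Submodule.subset_span hg))
  refine ⟨I, hIC, n, ?_⟩
  rw [← hG, Submodule.span_le]
  exact fun g hg => hI g hg

/-- The kernel of `L → κ(I) ⊗ L`. -/
theorem exists_smul_mem_of_tmul_eq_zero (I : Ideal A) [I.IsPrime] (w : L)
    (hw : (1 : I.ResidueField) ⊗ₜ[A] w = 0) :
    ∃ s : A, s ∉ I ∧ s • w ∈ I • (⊤ : Submodule A L) := by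
  let D := A ⧸ I
  let κ := I.ResidueField
  have h1 : (1 : κ) ⊗ₜ[D] ((1 : D) ⊗ₜ[A] w) = 0 := by
    apply (TensorProduct.AlgebraTensorModule.cancelBaseChange A D κ κ L).injective
    rw [TensorProduct.AlgebraTensorModule.cancelBaseChange_tmul, one_smul, map_zero]
    exact hw
  haveI : IsLocalizedModule (nonZeroDivisors D) (TensorProduct.mk D κ (D ⊗[A] L) 1) :=
    (isLocalizedModule_iff_isBaseChange (nonZeroDivisors D) κ _).mpr
      (TensorProduct.isBaseChange D (D ⊗[A] L) κ)
  obtain ⟨⟨d, hd⟩, hdw⟩ := (IsLocalizedModule.eq_zero_iff (nonZeroDivisors D)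
    (TensorProduct.mk D κ (D ⊗[A] L) 1)).mp h1
  obtain ⟨s, rfl⟩ := Ideal.Quotient.mk_surjective d
  refine ⟨s, ?_, ?_⟩
  · intro hs
    have : (Ideal.Quotient.mk I s) = 0 := Ideal.Quotient.eq_zero_iff_mem.mpr hs
    exact (nonZeroDivisors.ne_zero hd) this
  · have h2 : (Ideal.Quotient.mk I s) ⊗ₜ[A] w = (0 : D ⊗[A] L) := by
      have : (Ideal.Quotient.mk I s) • ((1 : D) ⊗ₜ[A] w) = (0 : D ⊗[A] L) := hdw
      rwa [TensorProduct.smul_tmul', smul_eq_mul, mul_one] at this
    have h3 := congrArg (TensorProduct.quotTensorEquivQuotSMul L I) h2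
    rw [TensorProduct.quotTensorEquivQuotSMul_mk_tmul, map_zero,
      Submodule.Quotient.mk_eq_zero] at h3
    exact h3

/-- Fibrewise nilpotent implies nilpotent, for Lie algebras finitely generated as modules. -/
theorem isNilpotent_of_fibres [Module.Finite A L]
    (h : ∀ p : PrimeSpectrum A, LieRing.IsNilpotent (p.asIdeal.ResidueField ⊗[A] L)) :
    LieRing.IsNilpotent L := by
  classical
  suffices hbot : P A L ⊥ by
    obtain ⟨n, hn⟩ := hbot
    rw [Submodule.bot_smul, le_bot_iff] at hn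
    exact (LieModule.isNilpotent_iff A L L).mpr ⟨n, (LieSubmodule.toSubmodule_eq_bot _).mp hn⟩
  by_contra hne
  obtain ⟨M, -, hM⟩ : ∃ M, ⊥ ≤ M ∧ Maximal (¬ P A L ·) M := by
    refine zorn_le_nonempty₀ {I | ¬ P A L I}
      (fun C hC₁ hC₂ J hJ => ⟨sSup C, ?_, fun _ => le_sSup⟩) ⊥ hne
    intro H
    obtain ⟨I, h₁, h₂⟩ := chain_P C hC₂ J hJ H
    exact hC₁ h₁ h₂
  haveI hMp : M.IsPrime := isOka_P.isPrime_of_maximal_not hM
  have hfib := h ⟨M, hMp⟩
  obtain ⟨k, hk⟩ := (LieModule.isNilpotent_iff M.ResidueField _ _).mp hfib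
  rw [LieSubmodule.lowerCentralSeries_tensor_eq_baseChange] at hk
  have hzero : ∀ w ∈ lowerCentralSeries A L L k, (1 : M.ResidueField) ⊗ₜ[A] w = 0 := by
    intro w hw
    have := LieSubmodule.tmul_mem_baseChange_of_mem (A := M.ResidueField) (1 : M.ResidueField) hw
    rw [hk] at this
    exact (LieSubmodule.mem_bot _).mp this
  obtain ⟨G, hG⟩ := lcs_fg (A := A) (L := L) k
  have hs : ∃ s : A, s ∉ M ∧ ∀ g ∈ G, s • g ∈ M • (⊤ : Submodule A L) := by
    have hG' : ∀ g ∈ G, g ∈ lowerCentralSeries A L L k := fun g hg => by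
      have : g ∈ (lowerCentralSeries A L L k).toSubmodule :=
        hG ▸ Submodule.subset_span hg
      exact this
    clear hG
    induction G using Finset.induction_on with
    | empty => exact ⟨1, fun h1 => hMp.ne_top ((Ideal.eq_top_iff_one M).mpr h1), by simp⟩
    | insert g G' _ ih =>
      obtain ⟨s₁, hs₁, h₁⟩ := ih (fun g' hg' => hG' g' (Finset.mem_insert_of_mem hg'))
      obtain ⟨s₂, hs₂, h₂⟩ := exists_smul_mem_of_tmul_eq_zero M g
        (hzero g (hG' g (Finset.mem_insert_self _ _)))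
      refine ⟨s₁ * s₂, fun h12 => (hMp.mem_or_mem h12).elim hs₁ hs₂, fun g' hg' => ?_⟩
      rcases Finset.mem_insert.mp hg' with rfl | hg''
      · rw [mul_smul]
        exact Submodule.smul_mem _ _ h₂
      · rw [mul_comm, mul_smul]
        exact Submodule.smul_mem _ _ (h₁ g' hg'')
  obtain ⟨s, hsM, hsG⟩ := hs
  have hsC : ∀ w ∈ (lowerCentralSeries A L L k).toSubmodule,
      s • w ∈ M • (⊤ : Submodule A L) := by
    intro w hw
    rw [← hG] at hw
    refine Submodule.span_induction ?_ ?_ ?_ ?_ hw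
    · exact fun g hg => hsG g hg
    · rw [smul_zero]; exact zero_mem _
    · intro x y _ _ hx hy; rw [smul_add]; exact add_mem hx hy
    · intro r x _ hx; rw [smul_comm]; exact Submodule.smul_mem _ _ hx
  have hgt : M < M ⊔ Ideal.span {s} := Submodule.lt_sup_iff_notMem.2 hsM
  obtain ⟨m, hm⟩ : P A L (M ⊔ Ideal.span {s}) := of_not_not (hM.not_prop_of_gt hgt)
  apply hM.prop
  refine ⟨m + k, (lcs_add_le _ hm k).trans ?_⟩
  rw [Submodule.sup_smul]
  refine sup_le (Submodule.smul_mono le_rfl le_top) ?_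
  rw [Submodule.smul_le]
  intro r hr w hw
  obtain ⟨c, rfl⟩ := Ideal.mem_span_singleton'.mp hr
  rw [mul_smul]
  exact Submodule.smul_mem _ _ (hsC w hw)

end Groth.Agent.H27.EngelFG

namespace Groth.Agent.H27.EngelFG

open LieModule TensorProduct

universe u

variable {A : Type u} [CommRing A] {L : Type u} [LieRing L] [LieAlgebra A L]

theorem frac_rep (p : Ideal A) [p.IsPrime] (c : p.ResidueField) :
    ∃ a d : A, algebraMap A p.ResidueField d ≠ 0 ∧
      c = algebraMap A p.ResidueField a / algebraMap A p.ResidueField d := by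
  obtain ⟨x, y, hy, rfl⟩ := IsFractionRing.div_surjective (A := A ⧸ p) c
  obtain ⟨a, rfl⟩ := Ideal.Quotient.mk_surjective x
  obtain ⟨d, rfl⟩ := Ideal.Quotient.mk_surjective y
  refine ⟨a, d, ?_, rfl⟩
  have := map_ne_zero_of_mem_nonZeroDivisors (algebraMap (A ⧸ p) p.ResidueField)
    p.injective_algebraMap_quotient_residueField hy
  exact this

/-- Engel's theorem for Lie algebras finitely generated as modules over a commutative ring. -/
theorem isNilpotent_of_ad [Module.Finite A L]
    (h : ∀ x : L, IsNilpotent (LieAlgebra.ad A L x)) : LieRing.IsNilpotent L := by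
  apply isNilpotent_of_fibres (A := A)
  intro p
  rw [LieAlgebra.isNilpotent_iff_forall (R := p.asIdeal.ResidueField)]
  intro y
  have hsm : ∀ (a : A) (x : L), (1 : p.asIdeal.ResidueField) ⊗ₜ[A] (a • x) = algebraMap A p.asIdeal.ResidueField a • ((1 : p.asIdeal.ResidueField) ⊗ₜ[A] x) := by
    intro a x
    rw [TensorProduct.tmul_smul, algebraMap_smul]
  obtain ⟨c, x, rfl⟩ : ∃ (c : p.asIdeal.ResidueField) (x : L), y = c • ((1 : p.asIdeal.ResidueField) ⊗ₜ[A] x) := by
    induction y using TensorProduct.induction_on with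
    | zero => exact ⟨0, 0, by simp⟩
    | tmul c x => exact ⟨c, x, by rw [TensorProduct.smul_tmul', smul_eq_mul, mul_one]⟩
    | add y₁ y₂ h₁ h₂ =>
      obtain ⟨c₁, x₁, rfl⟩ := h₁
      obtain ⟨c₂, x₂, rfl⟩ := h₂
      obtain ⟨a₁, d₁, hd₁, rfl⟩ := frac_rep p.asIdeal c₁
      obtain ⟨a₂, d₂, hd₂, rfl⟩ := frac_rep p.asIdeal c₂
      refine ⟨(algebraMap A p.asIdeal.ResidueField d₁ * algebraMap A p.asIdeal.ResidueField d₂)⁻¹, (a₁ * d₂) • x₁ + (a₂ * d₁) • x₂, ?_⟩
      rw [TensorProduct.tmul_add, hsm, hsm, smul_add, smul_smul, smul_smul, map_mul, map_mul]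
      have hc1 : ∀ (a d e : p.asIdeal.ResidueField), d ≠ 0 → e ≠ 0 →
          a / d = (d * e)⁻¹ * (a * e) := by
        intro a d e hd he; field_simp
      have hc2 : ∀ (a d e : p.asIdeal.ResidueField), d ≠ 0 → e ≠ 0 →
          a / e = (d * e)⁻¹ * (a * d) := by
        intro a d e hd he; field_simp
      rw [← hc1 _ _ _ hd₁ hd₂, ← hc2 _ _ _ hd₁ hd₂]
  rw [map_smul]
  refine IsNilpotent.smul ?_ c
  have hbc : LieAlgebra.ad p.asIdeal.ResidueField (p.asIdeal.ResidueField ⊗[A] L) ((1 : p.asIdeal.ResidueField) ⊗ₜ[A] x) = (LieAlgebra.ad A L x).baseChange p.asIdeal.ResidueField :=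
    LieModule.toEnd_baseChange (A := p.asIdeal.ResidueField) (R := A) (L := L) (M := L) x
  rw [hbc]
  obtain ⟨n, hn⟩ := h x
  exact ⟨n, by rw [← LinearMap.baseChange_pow, hn, LinearMap.baseChange_zero]⟩

end Groth.Agent.H27.EngelFG
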