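import Mathlib
import Groth.Prelude.Def_PBC
import Groth.Prelude.Def_EtCore
import Groth.Agent.S6642
import Groth.Agent.H24.EtCons.Defs
import Groth.Agent.H24.EtCons.E
set_option autoImplicit false
universe u
open CategoryTheory CategoryTheory.Limits AlgebraicGeometry Topology
open Groth.Agent.H24.EtCons

namespace Groth.Agent.H27.EtCons_P2

theorem coe_comp {A B C : Scheme.{u}} (f : A ⟶ B) (g : B ⟶ C) :
    (⇑(f ≫ g) : A → C) = ⇑g ∘ ⇑f := by
  funext x
  rfl

theorem range_comp {A B C : Scheme.{u}} (f : A ⟶ B) (g : B ⟶ C) :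
    Set.range (f ≫ g) = g '' Set.range f := by
  rw [coe_comp, Set.range_comp]

/-- the reduced closed subscheme structure on the preimage of a closed set. -/
noncomputable def cl {T X : Scheme.{u}} (g : T ⟶ X) (Z : Set X) (hZ : IsClosed Z) :
    T.IdealSheafData :=
  Scheme.IdealSheafData.vanishingIdeal ⟨g ⁻¹' Z, hZ.preimage g.continuous⟩

theorem range_cl_comp {T X : Scheme.{u}} (g : T ⟶ X) (Z : Set X) (hZ : IsClosed Z) :
    Set.range ((cl g Z hZ).subschemeι ≫ g) = Set.range g ∩ Z := by
  rw [range_comp, Scheme.IdealSheafData.range_subschemeι, cl,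
    Scheme.IdealSheafData.coe_support_vanishingIdeal]
  exact Set.image_preimage_eq_range_inter

/-- (P2) -/
theorem adaptedIn_inter_closed {X : Scheme.{u}} (F : EtCoh.Ab X) (S P Z : Set X) (hZ : IsClosed Z) (hZc : Topology.IsConstructible ((Subtype.val : S → X) ⁻¹' Z)) (h : AdaptedIn F S P) : AdaptedIn F S (P ∩ Z) := by
  obtain ⟨n, T, g, himm, hcons, hdisj, hun, hflc⟩ := h
  refine ⟨n, fun i => (cl (g i) Z hZ).subscheme, fun i => (cl (g i) Z hZ).subschemeι ≫ g i,
    fun i => inferInstance, ?_, ?_, ?_, ?_⟩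
  · intro i
    simp only [range_cl_comp, Set.preimage_inter]
    exact (hcons i).inter hZc
  · intro a b hab
    simp only [range_cl_comp]
    exact (hdisj hab).mono Set.inter_subset_left Set.inter_subset_left
  · simp only [range_cl_comp]
    rw [← Set.iUnion_inter, hun]
  · intro i _
    exact flc_pull_comp F (g i) (cl (g i) Z hZ).subschemeι (hflc i)

end Groth.Agent.H27.EtCons_P2
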