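import Mathlib
import Groth.Prelude.Def_PBC
import Groth.Prelude.Def_EtCore
import Groth.Agent.S6642
import Groth.Agent.H24.EtCons.Defs
import Groth.Agent.H24.EtCons.E
set_option autoImplicit false
universe u
open CategoryTheory CategoryTheory.Limits AlgebraicGeometry Topology
open Groth.Agent.H24.EtCons

namespace Groth.Agent.H27.EtCons_P4

theorem coe_comp {A B C : Scheme.{u}} (f : A ⟶ B) (g : B ⟶ C) :
    (⇑(f ≫ g) : A → C) = ⇑g ∘ ⇑f := by
  funext x
  rfl

theorem range_comp {A B C : Scheme.{u}} (f : A ⟶ B) (g : B ⟶ C) :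
    Set.range (f ≫ g) = g '' Set.range f := by
  rw [coe_comp, Set.range_comp]

/-- range of the restriction of `g` to the preimage of an open. -/
theorem range_ι_comp {T X : Scheme.{u}} (g : T ⟶ X) (V : X.Opens) :
    Set.range ((g ⁻¹ᵁ V).ι ≫ g) = Set.range g ∩ (V : Set X) := by
  rw [range_comp, Scheme.Opens.range_ι]
  exact Set.image_preimage_eq_range_inter

/-- (P4) -/
theorem adapted_of_le {X : Scheme.{u}} (F : EtCoh.Ab X) (U V : X.Opens) (hVU : V ≤ U) (h : EtPBC.AdaptedStrata F (U : Set X)) : EtPBC.AdaptedStrata F (V : Set X) := by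
  obtain ⟨n, T, g, himm, hcons, hdisj, hun, hflc⟩ := h
  refine ⟨n, fun i => ((g i) ⁻¹ᵁ V : (T i).Opens), fun i => ((g i) ⁻¹ᵁ V).ι ≫ g i,
    fun i => inferInstance, ?_, ?_, ?_, ?_⟩
  · intro i
    let φ : ↥(V : Set X) → ↥(U : Set X) := Set.inclusion hVU
    have hφ : IsOpenEmbedding φ := by
      refine IsOpenEmbedding.of_comp φ U.isOpen.isOpenEmbedding_subtypeVal ?_
      exact V.isOpen.isOpenEmbedding_subtypeVal
    have := (hcons i).preimage_of_isOpenEmbedding hφ
    convert this using 1
    ext a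
    simp only [Set.mem_preimage, range_ι_comp, φ]
    constructor
    · rintro ⟨h1, _⟩
      exact h1
    · intro h1
      exact ⟨h1, a.2⟩
  · intro a b hab
    simp only [range_ι_comp]
    exact (hdisj hab).mono Set.inter_subset_left Set.inter_subset_left
  · simp only [range_ι_comp]
    rw [← Set.iUnion_inter, hun]
    exact Set.inter_eq_right.mpr hVU
  · intro i _
    exact flc_pull_comp F (g i) ((g i) ⁻¹ᵁ V).ι (hflc i)

end Groth.Agent.H27.EtCons_P4
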