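import Mathlib
import Groth.Prelude.Def_PBC
import Groth.Prelude.Def_EtCore
import Groth.Agent.S6642
import Groth.Agent.H24.EtCons.Defs
import Groth.Agent.H24.EtCons.E
set_option autoImplicit false
universe u
open CategoryTheory CategoryTheory.Limits AlgebraicGeometry Topology
open Groth.Agent.H24.EtCons

namespace Groth.Agent.H27.EtCons_P6

theorem coe_comp {A B C : Scheme.{u}} (f : A ⟶ B) (g : B ⟶ C) :
    (⇑(f ≫ g) : A → C) = ⇑g ∘ ⇑f := by
  funext x
  rfl

theorem range_comp {A B C : Scheme.{u}} (f : A ⟶ B) (g : B ⟶ C) :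
    Set.range (f ≫ g) = g '' Set.range f := by
  rw [coe_comp, Set.range_comp]

/-- (P6) -/
theorem adapted_of_openImmersion {W X : Scheme.{u}} (j : W ⟶ X) [IsOpenImmersion j] (F : EtCoh.Ab X) (U' : W.Opens) (h : EtPBC.AdaptedStrata ((EtCoh.pull j).obj F) (U' : Set W)) : EtPBC.AdaptedStrata F ((j ''ᵁ U' : X.Opens) : Set X) := by
  obtain ⟨n, T, g, himm, hcons, hdisj, hun, hflc⟩ := h
  have hj : IsOpenEmbedding (⇑j : W → X) := j.isOpenEmbedding
  refine ⟨n, T, fun i => g i ≫ j, fun i => inferInstance, ?_, ?_, ?_, ?_⟩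
  · intro i
    -- the homeomorphism `U' → j '' U'`
    have hmem : ∀ a : ↥(U' : Set W), j a.1 ∈ ((j ''ᵁ U' : X.Opens) : Set X) :=
      fun a => ⟨a.1, a.2, rfl⟩
    let φ : ↥(U' : Set W) → ↥((j ''ᵁ U' : X.Opens) : Set X) := fun a => ⟨j a.1, hmem a⟩
    have hφ : IsOpenEmbedding φ := by
      refine IsOpenEmbedding.of_comp φ (j ''ᵁ U' : X.Opens).isOpen.isOpenEmbedding_subtypeVal ?_
      exact hj.comp U'.isOpen.isOpenEmbedding_subtypeVal
    have hsurj : Function.Surjective φ := by
      rintro ⟨b, a, ha, rfl⟩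
      exact ⟨⟨a, ha⟩, rfl⟩
    refine (isConstructible_preimage_iff_of_isOpenEmbedding hφ ?_ ?_).mp ?_
    · rw [hsurj.range_eq]
      exact IsRetrocompact.univ
    · rw [hsurj.range_eq]
      exact Set.subset_univ _
    · convert hcons i using 1
      ext a
      simp only [Set.mem_preimage, φ, range_comp]
      constructor
      · rintro ⟨w, hw, hw'⟩
        rwa [← hj.injective hw']
      · intro ha
        exact ⟨a.1, ha, rfl⟩
  · intro a b hab
    simp only [range_comp]
    exact (Set.disjoint_image_iff hj.injective).mpr (hdisj hab)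
  · simp only [range_comp]
    rw [← Set.image_iUnion, hun]
    rfl
  · intro i _
    exact flc_of_pull_pull F j (g i) (hflc i)

end Groth.Agent.H27.EtCons_P6
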