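import Mathlib
import Groth.Prelude
import Groth.Agent.H95.StrictTransform

/-!
# (OI) for helper95's S19583 squad: sections killed on the generic fibre are `ϖ`-power torsion
-/

set_option autoImplicit false
set_option linter.style.haveILetI false

universe u

open CategoryTheory CategoryTheory.Limits AlgebraicGeometry

namespace Groth.Agent.H27.FC_OI

/-- The fraction field of a discrete valuation ring is the localization away from a uniformizer
(copied from helper25's `H25/DVRReduced.lean` to keep the import closure small). -/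
theorem isLocalization_away_fractionRing (R : Type u) [CommRing R] [IsDomain R]
    [IsDiscreteValuationRing R] (ϖ : R) (hϖ : Irreducible ϖ) :
    IsLocalization.Away ϖ (FractionRing R) := by
  have hinj := IsFractionRing.injective R (FractionRing R)
  refine (isLocalization_iff _ _).2 ⟨?_, ?_, ?_⟩
  · rintro ⟨y, n, rfl⟩
    apply IsUnit.mk0
    exact (map_ne_zero_iff _ hinj).2 (pow_ne_zero n hϖ.ne_zero)
  · intro z
    obtain ⟨x, y, hy, rfl⟩ := IsFractionRing.div_surjective (A := R) z
    have hy0 : y ≠ 0 := nonZeroDivisors.ne_zero hy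
    obtain ⟨n, w, hw⟩ := IsDiscreteValuationRing.eq_unit_mul_pow_irreducible hy0 hϖ
    refine ⟨(x * ((w⁻¹ : Rˣ) : R), ⟨ϖ ^ n, n, rfl⟩), ?_⟩
    have hw0 : algebraMap R (FractionRing R) (w : R) ≠ 0 := (map_ne_zero_iff _ hinj).2 w.ne_zero
    have hp0 : algebraMap R (FractionRing R) (ϖ ^ n) ≠ 0 :=
      (map_ne_zero_iff _ hinj).2 (pow_ne_zero n hϖ.ne_zero)
    have hwi : algebraMap R (FractionRing R) ((w⁻¹ : Rˣ) : R) =
        (algebraMap R (FractionRing R) (w : R))⁻¹ := by
      apply eq_inv_of_mul_eq_one_left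
      rw [← map_mul, Units.inv_mul, map_one]
    show algebraMap R (FractionRing R) x / algebraMap R (FractionRing R) y *
      algebraMap R (FractionRing R) (ϖ ^ n) = algebraMap R (FractionRing R) (x * ((w⁻¹ : Rˣ) : R))
    rw [hw, map_mul, map_mul, hwi]
    field_simp
  · intro x y hxy
    exact ⟨1, by rw [hinj hxy]⟩

theorem OI {P P' : Scheme.{u}} (R : Type u) [CommRing R] [IsDomain R] [IsDiscreteValuationRing R]
    (ϖ : R) (hϖ : Irreducible ϖ) (g : P ⟶ Spec (CommRingCat.of R)) (m : P' ⟶ P)
    (g' : P' ⟶ Spec (CommRingCat.of (FractionRing R)))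
    (hpb : IsPullback m g' g (Spec.map (CommRingCat.ofHom (algebraMap R (FractionRing R)))))
    (U : P.affineOpens) (a : Γ(P, U.1)) (ha : a ∈ m.ker.ideal U) :
    ∃ n : ℕ, ((g.appLE ⊤ U.1 le_top).hom
      ((Scheme.ΓSpecIso (CommRingCat.of R)).inv.hom ϖ)) ^ n * a = 0 := by
  set j : Spec (CommRingCat.of (FractionRing R)) ⟶ Spec (CommRingCat.of R) :=
    Spec.map (CommRingCat.ofHom (algebraMap R (FractionRing R))) with hj
  haveI hloc : IsLocalization.Away ϖ (FractionRing R) := isLocalization_away_fractionRing R ϖ hϖ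
  haveI hjo : IsOpenImmersion j := IsOpenImmersion.of_isLocalization ϖ
  haveI hmo : IsOpenImmersion m := MorphismProperty.of_isPullback hpb.flip hjo
  haveI hjq : QuasiCompact j := inferInstance
  haveI hmq : QuasiCompact m := MorphismProperty.of_isPullback hpb.flip hjq
  set s : Γ(P, U.1) := (g.appLE ⊤ U.1 le_top).hom
    ((Scheme.ΓSpecIso (CommRingCat.of R)).inv.hom ϖ) with hs
  have hle : P.basicOpen s ≤ U.1 := P.basicOpen_le s
  -- the basic open is in the range of `m`
  have hrange : P.basicOpen s ≤ m.opensRange := by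
    intro x hx
    have hx' : x ∈ U.1 ⊓ g ⁻¹ᵁ ((Spec (CommRingCat.of R)).basicOpen
        ((Scheme.ΓSpecIso (CommRingCat.of R)).inv.hom ϖ)) := by
      rw [← Scheme.basicOpen_appLE g U.1 ⊤ le_top]
      exact hx
    have hgx : g x ∈ (PrimeSpectrum.basicOpen ϖ : Set (PrimeSpectrum R)) := by
      have := hx'.2
      rw [basicOpen_eq_of_affine] at this
      exact this
    rw [← PrimeSpectrum.localization_away_comap_range (FractionRing R) ϖ] at hgx
    obtain ⟨y, hy⟩ := hgx
    have hy' : j y = g x := hy
    obtain ⟨z, hz1, hz2⟩ := Scheme.Pullback.exists_preimage_pullback (f := g) (g := j) x y hy'.symm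
    refine ⟨hpb.isoPullback.inv z, ?_⟩
    rw [← Scheme.Hom.comp_apply, hpb.isoPullback_inv_fst]
    exact hz1
  -- `m.app U a = 0`
  rw [Scheme.Hom.ker_apply, RingHom.mem_ker] at ha
  -- restrict
  have hres : (P.presheaf.map (homOfLE hle).op).hom a = 0 := by
    haveI := Scheme.Hom.isIso_app m (P.basicOpen s) hrange
    have hinj : Function.Injective (m.app (P.basicOpen s)).hom :=
      ((ConcreteCategory.isIso_iff_bijective (m.app (P.basicOpen s))).mp inferInstance).1
    apply hinj
    rw [map_zero]
    have hnat := m.naturality (homOfLE hle).op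
    have := congr($(hnat).hom a)
    simp only [CommRingCat.hom_comp, RingHom.comp_apply] at this
    rw [this, ha, map_zero]
  exact (Groth.Agent.H95.StrictTransform.mem_ker_res_iff U s _ rfl hle a).mp hres

end Groth.Agent.H27.FC_OI
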