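import Mathlib
set_option autoImplicit false
set_option linter.style.haveILetI false
universe u

namespace Groth.Agent.H27.FlatAway

open HomogeneousLocalization

lemma val_sum' {A σ : Type u} [CommRing A] [SetLike σ A] [AddSubgroupClass σ A]
    (𝒜 : ℕ → σ) [GradedRing 𝒜] (S : Submonoid A) {ι' : Type*} (s : Finset ι')
    (g : ι' → HomogeneousLocalization 𝒜 S) :
    (∑ i ∈ s, g i).val = ∑ i ∈ s, (g i).val := by
  simp only [← HomogeneousLocalization.algebraMap_apply]
  exact map_sum _ _ _

/-- (FA) the degree-zero localisation A_(b) is flat over R when the graded pieces of large degree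
are flat. -/
theorem flat_away {R A σ : Type u} [CommRing R] [CommRing A] [SetLike σ A] [AddSubgroupClass σ A]
    (𝒜 : ℕ → σ) [GradedRing 𝒜] (ρ : R →+* A) (hρ : ∀ r, ρ r ∈ 𝒜 0) (d₀ : ℕ)
    (hflat : ∀ d : ℕ, d₀ ≤ d →
      letI := ρ.toAlgebra
      Module.Flat R ↥(Submodule.span R (𝒜 d : Set A)))
    {e : ℕ} (he : 0 < e) (b : A) (hb : b ∈ 𝒜 e)
    (φ : R →+* HomogeneousLocalization.Away 𝒜 b)
    (hφ : ∀ r, (φ r).val = Localization.mk (ρ r) 1) : φ.Flat := by
  classical
  letI algA : Algebra R A := ρ.toAlgebra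
  letI algB : Algebra R (HomogeneousLocalization.Away 𝒜 b) := φ.toAlgebra
  have hsmulA : ∀ (r : R) (c : A), r • c = ρ r * c := fun r c => by
    rw [Algebra.smul_def]; rfl
  have hsmulB : ∀ (r : R) (z : HomogeneousLocalization.Away 𝒜 b), r • z = φ r * z := fun r z => by
    rw [Algebra.smul_def]; rfl
  show Module.Flat R (HomogeneousLocalization.Away 𝒜 b)
  apply Module.Flat.of_forall_isTrivialRelation
  intro l r x hrel
  -- step 1: common denominators
  choose n a ha hz using fun i => HomogeneousLocalization.Away.mk_surjective 𝒜 hb (x i)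
  set k := ∑ i, n i with hk
  have hnk : ∀ i, n i ≤ k := fun i =>
    Finset.single_le_sum (fun _ _ => Nat.zero_le _) (Finset.mem_univ i)
  have ha' : ∀ i, b ^ (k - n i) * a i ∈ 𝒜 (k • e) := by
    intro i
    have h1 : b ^ (k - n i) ∈ 𝒜 ((k - n i) • e) := SetLike.pow_mem_graded _ hb
    have h2 := SetLike.mul_mem_graded h1 (ha i)
    have h3 : (k - n i) • e + n i • e = k • e := by
      rw [← add_smul, Nat.sub_add_cancel (hnk i)]
    rwa [h3] at h2
  have hx : ∀ i, x i = HomogeneousLocalization.Away.mk 𝒜 hb k (b ^ (k - n i) * a i) (ha' i) := by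
    intro i
    rw [← hz i]
    apply HomogeneousLocalization.val_injective
    rw [HomogeneousLocalization.Away.val_mk, HomogeneousLocalization.Away.val_mk,
      Localization.mk_eq_mk_iff, Localization.r_iff_exists]
    refine ⟨1, ?_⟩
    simp only
    rw [← mul_assoc (b ^ n i), ← pow_add, Nat.add_sub_cancel' (hnk i)]
  -- step 2: the relation in the localization
  have hval : (Localization.mk (∑ i, ρ (r i) * (b ^ (k - n i) * a i)) ⟨b ^ k, k, rfl⟩ :
      Localization.Away b) = 0 := by
    have h0 := congrArg HomogeneousLocalization.val hrel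
    rw [HomogeneousLocalization.val_zero, val_sum'] at h0
    rw [← h0, Localization.mk_sum]
    apply Finset.sum_congr rfl
    intro i _
    rw [hsmulB, HomogeneousLocalization.val_mul, hφ, hx i, HomogeneousLocalization.Away.val_mk,
      Localization.mk_mul, one_mul]
  rw [Localization.mk_eq_mk'_apply, IsLocalization.mk'_eq_zero_iff] at hval
  obtain ⟨⟨_, N, rfl⟩, hN⟩ := hval
  simp only at hN
  -- step 3
  set N' := N + d₀ with hN'
  have hN2 : b ^ N' * ∑ i, ρ (r i) * (b ^ (k - n i) * a i) = 0 := by
    rw [hN', pow_add, mul_comm (b ^ N), mul_assoc, hN, mul_zero]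
  set d := (k + N') • e with hd
  have hd0 : d₀ ≤ d := by
    rw [hd, smul_eq_mul]
    calc d₀ ≤ d₀ * e := Nat.le_mul_of_pos_right _ he
      _ ≤ (k + N') * e := Nat.mul_le_mul_right _ (by omega)
  -- step 4
  have hmem : ∀ i, b ^ N' * (b ^ (k - n i) * a i) ∈ 𝒜 d := by
    intro i
    have h1 : b ^ N' ∈ 𝒜 (N' • e) := SetLike.pow_mem_graded _ hb
    have h2 := SetLike.mul_mem_graded h1 (ha' i)
    have h3 : N' • e + k • e = d := by rw [hd, ← add_smul, add_comm]
    rwa [h3] at h2
  let w : Fin l → ↥(Submodule.span R (𝒜 d : Set A)) := fun i =>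
    ⟨b ^ N' * (b ^ (k - n i) * a i), Submodule.subset_span (hmem i)⟩
  have hrelw : ∑ i, r i • w i = 0 := by
    apply Subtype.ext
    rw [Submodule.coe_sum, Submodule.coe_zero]
    simp only [Submodule.coe_smul, w, hsmulA]
    rw [← hN2, Finset.mul_sum]
    apply Finset.sum_congr rfl
    intro i _
    ring
  haveI := hflat d hd0
  obtain ⟨κ, α, y, hy1, hy2⟩ := Module.Flat.isTrivialRelation_of_sum_smul_eq_zero hrelw
  -- step 5
  have hsub : ∀ z ∈ Submodule.span R (𝒜 d : Set A), z ∈ 𝒜 d := by
    intro z hz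
    induction hz using Submodule.span_induction with
    | mem z hz => exact hz
    | zero => exact zero_mem _
    | add z z' _ _ hz hz' => exact add_mem hz hz'
    | smul c z _ hz =>
      rw [hsmulA]
      have := SetLike.mul_mem_graded (hρ c) hz
      rwa [zero_add] at this
  refine ⟨κ, α, fun j => HomogeneousLocalization.Away.mk 𝒜 hb (k + N') (y j).1
    (hsub _ (y j).2), ?_, hy2⟩
  intro i
  rw [hx i]
  apply HomogeneousLocalization.val_injective
  rw [val_sum', HomogeneousLocalization.Away.val_mk]
  have h5 : ∀ j, (α i j • HomogeneousLocalization.Away.mk 𝒜 hb (k + N') (y j).1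
      (hsub _ (y j).2)).val = (Localization.mk (ρ (α i j) * (y j).1)
        (⟨b ^ (k + N'), k + N', rfl⟩ : Submonoid.powers b) : Localization.Away b) := by
    intro j
    rw [hsmulB, HomogeneousLocalization.val_mul, hφ, HomogeneousLocalization.Away.val_mk,
      Localization.mk_mul, one_mul]
  simp only [h5]
  rw [← Localization.mk_sum]
  have h6 : ∑ j, ρ (α i j) * (y j).1 = b ^ N' * (b ^ (k - n i) * a i) := by
    have := congrArg Subtype.val (hy1 i)
    rw [Submodule.coe_sum] at this
    simp only [Submodule.coe_smul, hsmulA, w] at this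
    exact this.symm
  rw [h6, Localization.mk_eq_mk_iff, Localization.r_iff_exists]
  refine ⟨1, ?_⟩
  simp only
  rw [pow_add]
  ring

end Groth.Agent.H27.FlatAway
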