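import Mathlib
import Groth.Agent.H9.ClosedImmStalk
import Groth.Agent.H9.ComapIdeal
set_option autoImplicit false
universe u
open CategoryTheory CategoryTheory.Limits AlgebraicGeometry TopologicalSpace Opposite

namespace Groth.Agent.H27.GG_CORE

variable {X D D' E : Scheme.{u}}

/-- the ideal sheaf of the base change of a closed immersion (abstract pullback square). -/
theorem ker_eq_comap_of_isPullback (i : D ⟶ X) (i' : D' ⟶ X) [IsClosedImmersion i']
    (q : E ⟶ D) (q' : E ⟶ D') (hpb : IsPullback q q' i i') : q.ker = i'.ker.comap i := by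
  have h1 : hpb.isoPullback.hom ≫ pullback.fst i i' = q := hpb.isoPullback_hom_fst
  rw [← h1, Scheme.Hom.ker_comp_of_isIso]
  exact Scheme.IdealSheafData.ker_fst_of_isClosedImmersion i' i

/-- CORE FACT for (CMP): the base change of a closed immersion is cut out, stalkwise, by the
extended ideal. -/
theorem ker_stalkMap_of_isPullback (i : D ⟶ X) (i' : D' ⟶ X) [IsClosedImmersion i]
    [IsClosedImmersion i'] (q : E ⟶ D) (q' : E ⟶ D') (hpb : IsPullback q q' i i') (z : E)
    (U : X.affineOpens) (hz : i (q z) ∈ U.1) :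
    RingHom.ker (q.stalkMap z).hom =
      ((i'.ker.ideal U).map (X.presheaf.germ U.1 (i (q z)) hz).hom).map
        (i.stalkMap (q z)).hom := by
  have : IsClosedImmersion q :=
    MorphismProperty.of_isPullback (P := @IsClosedImmersion) hpb.flip inferInstance
  have hV : IsAffineOpen (i ⁻¹ᵁ U.1) := U.2.preimage i
  have hzV : q z ∈ i ⁻¹ᵁ U.1 := hz
  rw [Groth.Agent.H9.ker_stalkMap_of_isClosedImmersion q ⟨i ⁻¹ᵁ U.1, hV⟩ z hzV,
    ker_eq_comap_of_isPullback i i' q q' hpb,
    Groth.Agent.H9.comap_ideal i i'.ker U ⟨i ⁻¹ᵁ U.1, hV⟩ le_rfl, Ideal.map_map, Ideal.map_map]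
  congr 1
  ext r
  simp only [RingHom.comp_apply]
  rw [Scheme.Hom.appLE_eq_app]
  exact (Scheme.Hom.germ_stalkMap_apply i U.1 (q z) hz r).symm

end Groth.Agent.H27.GG_CORE
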