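import Mathlib
import Groth.Prelude.Def_W4bk4goldsch45p2
import Groth.Agent.H27.HasseUniq

/-!
Change of the variable of a Hasse family on a function field: `Ht = subst (Ht s - s) ∘ Hs`.
-/

set_option autoImplicit false

namespace Groth.Agent.H27.Hasse

open FunFld LocRes PowerSeries

section Subst

variable {A : Type*} [Field A]

theorem coeff_subst_range {a : A⟦X⟧} (ha : constantCoeff a = 0) (f : A⟦X⟧) (j : ℕ) :
    coeff j (f.subst a) = ∑ i ∈ Finset.range (j + 1), coeff i f * coeff j (a ^ i) := by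
  have hs : HasSubst a := HasSubst.of_constantCoeff_zero' ha
  rw [coeff_subst' hs f j, finsum_eq_sum_of_support_subset]
  · rfl
  · intro d hd
    rw [Function.mem_support] at hd
    rw [Finset.coe_range, Set.mem_Iio]
    by_contra hlt
    push Not at hlt
    apply hd
    have : coeff j (a ^ d) = 0 := by
      apply coeff_of_lt_order
      refine lt_of_lt_of_le ?_ (le_order_pow_of_constantCoeff_eq_zero d ha)
      exact_mod_cast (by omega : j < d)
    rw [this, smul_zero]

theorem coeff_pow_self {a : A⟦X⟧} (ha : constantCoeff a = 0) (j : ℕ) :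
    coeff j (a ^ j) = (coeff 1 a) ^ j := by
  obtain ⟨b, rfl⟩ := X_dvd_iff.2 ha
  rw [mul_pow, coeff_X_pow_mul', if_pos le_rfl, Nat.sub_self, coeff_zero_eq_constantCoeff_apply,
    map_pow, ← coeff_zero_eq_constantCoeff_apply, show (1 : ℕ) = 0 + 1 from rfl,
    coeff_succ_X_mul]

end Subst

section FunctionField

variable {k K : Type*} [Field k] [Field K] [Algebra k K]

theorem hasse_change (hK : IsFunctionField k K) {s t : K} {Hs Ht : K →ₐ[k] PowerSeries K}
    (hHs : IsHasseFamily s Hs) (hHt : IsHasseFamily t Ht) (y : K) :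
    Ht y = (Hs y).subst (Ht s - C s) := by
  haveI := isAlgebraic_adjoin_of_hasse hK hHs
  obtain ⟨g, hgdef⟩ : ∃ g : K⟦X⟧, g = Ht s - C s := ⟨_, rfl⟩
  rw [← hgdef]
  have hg0 : constantCoeff g = 0 := by
    rw [hgdef, map_sub, hHt.2, constantCoeff_C, sub_self]
  have hg : HasSubst g := HasSubst.of_constantCoeff_zero' hg0
  let Φ₁ : K →+* K⟦X⟧ := (Ht : K →+* K⟦X⟧)
  let Φ₂ : K →+* K⟦X⟧ :=
    ((substAlgHom hg : K⟦X⟧ →ₐ[K] K⟦X⟧) : K⟦X⟧ →+* K⟦X⟧).comp (Hs : K →+* K⟦X⟧)
  have hπ : ∀ b : K⟦X⟧, constantCoeff b ≠ 0 → IsUnit b := fun b hb => by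
    rw [PowerSeries.isUnit_iff_constantCoeff]
    exact isUnit_iff_ne_zero.2 hb
  have hC : ∀ a : K, (substAlgHom hg : K⟦X⟧ →ₐ[K] K⟦X⟧) (C a) = C a := by
    intro a
    have : (C a : K⟦X⟧) = algebraMap K K⟦X⟧ a := by
      rw [PowerSeries.algebraMap_apply, Algebra.algebraMap_self, RingHom.id_apply]
    rw [this, AlgHom.commutes]
  have hk : ∀ c : k, Φ₁ (algebraMap k K c) = Φ₂ (algebraMap k K c) := by
    intro c
    simp only [Φ₁, Φ₂, RingHom.comp_apply, RingHom.coe_coe, AlgHom.commutes,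
      PowerSeries.algebraMap_apply]
    rw [hC]
  have hs : Φ₁ s = Φ₂ s := by
    simp only [Φ₁, Φ₂, RingHom.comp_apply, RingHom.coe_coe, hHs.1, map_add]
    rw [substAlgHom_X, hC, hgdef]
    ring
  have hF : ∀ a : IntermediateField.adjoin k ({s} : Set K),
      Φ₁ (algebraMap _ K a) = Φ₂ (algebraMap _ K a) :=
    fun a => ringHom_eq_on_adjoin Φ₁ Φ₂ {s} hk
      (fun x hx => by rw [Set.mem_singleton_iff.1 hx]; exact hs) a a.2
  have hπΦ : ∀ y, constantCoeff (Φ₁ y) = constantCoeff (Φ₂ y) := by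
    intro y
    have h1 : constantCoeff (Φ₁ y) = y := hHt.2 y
    have h2 : Hs y = C y + (Hs y - C y) := by ring
    have h3 : constantCoeff (Hs y - C y) = 0 := by
      rw [map_sub, hHs.2, constantCoeff_C, sub_self]
    have h4 : Φ₂ y = C y + (substAlgHom hg : K⟦X⟧ →ₐ[K] K⟦X⟧) (Hs y - C y) := by
      show (substAlgHom hg : K⟦X⟧ →ₐ[K] K⟦X⟧) (Hs y) = _
      conv_lhs => rw [h2]
      rw [map_add, hC]
    rw [h1, h4, map_add, constantCoeff_C, coe_substAlgHom]
    have h5 := constantCoeff_subst_eq_zero hg0 (Hs y - C y) h3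
    have h6 : constantCoeff ((Hs y - C y).subst g) = 0 := h5
    rw [h6, add_zero]
  have key := ringHom_ext_of_isAlgebraic (F := IntermediateField.adjoin k ({s} : Set K))
    (constantCoeff (R := K)) hπ Φ₁ Φ₂ hF hπΦ
  have h := RingHom.congr_fun key y
  simpa [Φ₁, Φ₂, coe_substAlgHom] using h

end FunctionField

end Groth.Agent.H27.Hasse
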