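import Mathlib
import Groth.Prelude.Def_W4bk4goldsch45p2
import Groth.Agent.H55.FFGeom2
import Groth.Agent.S11000
import Groth.Agent.H27.HasseSubst

/-!
Separating variables and Hasse families: the derivation of a Hasse family, differentials of
separating elements, existence of the Hasse family of a separating element (given one).
-/

set_option autoImplicit false

namespace Groth.Agent.H27.Sep

open FunFld LocRes PowerSeries Groth.Agent.H55 Groth.Agent.H27.Hasse

variable {k K : Type*} [Field k] [Field K] [Algebra k K]

section Der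

variable {s : K} {H : K →ₐ[k] PowerSeries K}

/-- The first Hasse derivative as a derivation. -/
noncomputable def hasseDer (hH : IsHasseFamily s H) : Derivation k K K where
  toFun := hasseD H 1
  map_add' := hasseD_add H 1
  map_smul' c y := by
    rw [hasseD_smul, RingHom.id_apply, Algebra.smul_def]
  map_one_eq_zero' := hasseD_one_pos H one_pos
  leibniz' x y := by
    show hasseD H 1 (x * y) = x • hasseD H 1 y + y • hasseD H 1 x
    rw [hasseD_mul_range hH 1 x y, Finset.sum_range_one, Nat.sub_zero, hasseD_zero hH,
      smul_eq_mul, smul_eq_mul]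
    ring

@[simp] theorem hasseDer_apply (hH : IsHasseFamily s H) (y : K) :
    hasseDer hH y = hasseD H 1 y := rfl

theorem hasseD_one_self (hH : IsHasseFamily s H) : hasseD H 1 s = 1 := by
  rw [hasseD_apply, hH.1, map_add, coeff_C, if_neg one_ne_zero, zero_add, coeff_one_X]

/-- The variable of a Hasse family has nonzero differential. -/
theorem D_ne_zero_of_hasse (hH : IsHasseFamily s H) : KaehlerDifferential.D k K s ≠ 0 := by
  intro h0
  have h1 := (hasseDer hH).liftKaehlerDifferential_comp_D s
  rw [h0, map_zero, hasseDer_apply, hasseD_one_self hH] at h1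
  exact zero_ne_one h1

/-- If `dt ≠ 0` then the first Hasse derivative of `t` is nonzero (the module of differentials
being one-dimensional). -/
theorem hasseD_one_ne_zero (hH : IsHasseFamily s H)
    (hfr : Module.finrank K (KaehlerDifferential k K) = 1) {t : K}
    (hdt : KaehlerDifferential.D k K t ≠ 0) : hasseD H 1 t ≠ 0 := by
  obtain ⟨g, hg⟩ := (finrank_eq_one_iff_of_nonzero' _ hdt).1 hfr (KaehlerDifferential.D k K s)
  have h1 := congrArg (hasseDer hH).liftKaehlerDifferential hg
  rw [map_smul, Derivation.liftKaehlerDifferential_comp_D,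
    Derivation.liftKaehlerDifferential_comp_D, hasseDer_apply, hasseDer_apply,
    hasseD_one_self hH, smul_eq_mul] at h1
  intro h0
  rw [h0, mul_zero] at h1
  exact zero_ne_one h1

/-- Existence of the Hasse family with respect to `t`, given one with respect to `s`, when the
first Hasse derivative of `t` is nonzero. -/
theorem exists_hasse (hHs : IsHasseFamily s H) {t : K} (h : hasseD H 1 t ≠ 0) :
    ∃ Ht : K →ₐ[k] PowerSeries K, IsHasseFamily t Ht := by
  obtain ⟨u, hu⟩ : ∃ u : K⟦X⟧, u = H t - C t := ⟨_, rfl⟩
  have hu0 : constantCoeff u = 0 := by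
    rw [hu, map_sub, hHs.2, constantCoeff_C, sub_self]
  have hu1 : coeff 1 u = hasseD H 1 t := by
    rw [hu, map_sub, coeff_C, if_neg one_ne_zero, sub_zero]
    rfl
  haveI : Invertible (coeff 1 u) := invertibleOfNonzero (by rw [hu1]; exact h)
  obtain ⟨g, hg⟩ : ∃ g : K⟦X⟧, g = substInv u := ⟨_, rfl⟩
  have hg0 : constantCoeff g = 0 := by
    rw [hg]
    exact constantCoeff_substInv u
  have hgs : HasSubst g := HasSubst.of_constantCoeff_zero' hg0
  have hug : u.subst g = X := by
    rw [hg]
    exact subst_substInv_right u hu0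
  have hC : ∀ a : K, (substAlgHom hgs : K⟦X⟧ →ₐ[K] K⟦X⟧) (C a) = C a := by
    intro a
    have : (C a : K⟦X⟧) = algebraMap K K⟦X⟧ a := by
      rw [PowerSeries.algebraMap_apply, Algebra.algebraMap_self, RingHom.id_apply]
    rw [this, AlgHom.commutes]
  refine ⟨((substAlgHom hgs : K⟦X⟧ →ₐ[K] K⟦X⟧).restrictScalars k).comp H, ?_, ?_⟩
  · show (substAlgHom hgs : K⟦X⟧ →ₐ[K] K⟦X⟧) (H t) = C t + X
    have : H t = C t + u := by
      rw [hu]
      ring
    rw [this, map_add, hC, coe_substAlgHom, hug]
  · intro y
    show constantCoeff ((substAlgHom hgs : K⟦X⟧ →ₐ[K] K⟦X⟧) (H y)) = y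
    have h2 : H y = C y + (H y - C y) := by ring
    have h3 : constantCoeff (H y - C y) = 0 := by
      rw [map_sub, hHs.2, constantCoeff_C, sub_self]
    conv_lhs => rw [h2]
    rw [map_add, hC, map_add, constantCoeff_C, coe_substAlgHom]
    have h5 := constantCoeff_subst_eq_zero hg0 (H y - C y) h3
    have h6 : constantCoeff ((H y - C y).subst g) = 0 := h5
    rw [h6, add_zero]

end Der

section Separable

open IntermediateField WithZero

/-- An element with nonzero differential is a separating variable. -/
theorem isSeparable_of_D_ne_zero (hK : IsFunctionField k K)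
    (hfr : Module.finrank K (KaehlerDifferential k K) = 1) {x : K}
    (hdx : KaehlerDifferential.D k K x ≠ 0) : Algebra.IsSeparable k⟮x⟯ K := by
  have hxtr : Transcendental k x := by
    intro halg
    obtain ⟨c, rfl⟩ := hK.2 x halg
    exact hdx (Derivation.map_algebraMap _ c)
  haveI hfinx : FiniteDimensional k⟮x⟯ K := ff_finite hK hxtr
  haveI : Algebra.FormallyUnramified k⟮x⟯ K := by
    constructor
    refine ⟨fun ω₁ ω₂ => ?_⟩
    suffices h : ∀ ω : KaehlerDifferential k⟮x⟯ K, ω = 0 by rw [h ω₁, h ω₂]
    intro ω
    obtain ⟨η, rfl⟩ := KaehlerDifferential.map_surjective k k⟮x⟯ K ω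
    obtain ⟨c, hc⟩ := (finrank_eq_one_iff_of_nonzero' _ hdx).1 hfr η
    rw [← hc, map_smul, KaehlerDifferential.map_D]
    have h0 : KaehlerDifferential.D k⟮x⟯ K (algebraMap K K x) = 0 := by
      have h1 : algebraMap K K x = algebraMap k⟮x⟯ K ⟨x, mem_adjoin_simple_self k x⟩ := rfl
      rw [h1, Derivation.map_algebraMap]
    rw [h0, smul_zero]
  exact Algebra.FormallyUnramified.isSeparable k⟮x⟯ K

/-- A local parameter at a place has nonzero differential (over an algebraically closed constant
field). -/
theorem D_ne_zero_of_val [IsAlgClosed k] (hK : IsFunctionField k K) (P : Place k K) {t : K}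
    (ht : P.1 t = exp (-1 : ℤ)) : KaehlerDifferential.D k K t ≠ 0 := by
  have hg := Groth.Agent.S11000.result k K hK
  have ht0 : t ≠ 0 := by
    rintro rfl
    rw [map_zero] at ht
    exact exp_ne_zero ht.symm
  have httr : Transcendental k t :=
    G.transcendental_of_val_ne_one (G.isFF1_of_isFunctionField hK) P ht0 (by
      rw [ht, ← exp_zero, Ne, exp_inj]
      norm_num)
  obtain hz | ⟨p, hp, hpk⟩ := CharP.exists' k
  · haveI : CharZero k⟮t⟯ := charZero_of_injective_algebraMap (algebraMap k k⟮t⟯).injective
    haveI := ff_finite hK httr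
    haveI : Algebra.IsSeparable k⟮t⟯ K := inferInstance
    obtain ⟨e, he⟩ := kaehler_equiv_of_separating t httr
    intro h0
    rw [h0, map_zero] at he
    exact zero_ne_one he
  · haveI := hp
    haveI : CharP K p := charP_of_injective_algebraMap (algebraMap k K).injective p
    rw [Ne, ← (mem_adjoin_pow_iff hK hg p t).1]
    intro hmem
    have hle : adjoin k (Set.range fun y : K => y ^ p) ≤
        Subfield.toIntermediateField ((frobenius K p).fieldRange) (fun c => by
          obtain ⟨d, hd⟩ := IsAlgClosed.exists_pow_nat_eq c hp.out.pos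
          exact ⟨algebraMap k K d, by rw [frobenius_def, ← map_pow, hd]⟩) := by
      rw [adjoin_le_iff]
      rintro _ ⟨y, rfl⟩
      exact ⟨y, rfl⟩
    obtain ⟨u, hu⟩ := hle hmem
    rw [frobenius_def] at hu
    rw [← hu, map_pow] at ht
    have hu0 : P.1 u ≠ 0 := by
      intro h
      rw [h, zero_pow hp.out.ne_zero] at ht
      exact exp_ne_zero ht.symm
    rw [← exp_log hu0, ← exp_nsmul, exp_inj] at ht
    have h1 : (p : ℤ) * log (P.1 u) = -1 := by simpa using ht
    have hp2 := hp.out.two_le
    have h2 : (p : ℤ) ∣ 1 := ⟨-log (P.1 u), by linarith⟩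
    have h3 := Int.le_of_dvd one_pos h2
    omega

end Separable

end Groth.Agent.H27.Sep
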