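import Mathlib
import Groth.Prelude.Def_W4bk4goldsch45p2
import Groth.Agent.H55.FFUnram
import Groth.Agent.S11005
import Groth.Agent.H27.Sep
import Groth.Agent.H27.WDiv
import Groth.Agent.H27.DiffExp

/-!
Generic places: for a separating variable `s`, at almost all places `s - s(P)` is a local
parameter; the divisor of `ds` has finite support.
-/

set_option autoImplicit false

namespace Groth.Agent.H27.Generic

open FunFld WithZero Polynomial IntermediateField Groth.Agent.H55 Groth.Agent.H27.Expn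
open Groth.Agent.H27.Sep

variable {k K : Type*} [Field k] [Field K] [Algebra k K]

theorem val_aeval_le_one (Q : Place k K) {s : K} (hs : Q.1 s ≤ 1) (f : k[X]) :
    Q.1 (aeval s f) ≤ 1 := by
  induction f using Polynomial.induction_on' with
  | add p q hp hq =>
    rw [map_add]
    exact Valuation.map_add_le _ hp hq
  | monomial n c =>
    rw [aeval_monomial, map_mul, map_pow]
    exact (mul_le_mul' (Q.2.1 c) (pow_le_one' hs n)).trans_eq (one_mul _)

theorem val_aeval_eq_pow (Q : Place k K) {s : K} {a : k}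
    (hs : Q.1 (s - algebraMap k K a) < 1) (f : k[X]) (hf : f ≠ 0) :
    Q.1 (aeval s f) = Q.1 (s - algebraMap k K a) ^ (f.rootMultiplicity a) := by
  obtain ⟨h, hfh, hnd⟩ := exists_eq_pow_rootMultiplicity_mul_and_not_dvd f hf a
  have hha : h.eval a ≠ 0 := fun h0 => hnd (dvd_iff_isRoot.2 h0)
  have hsint : Q.1 s ≤ 1 := by
    have : s = (s - algebraMap k K a) + algebraMap k K a := by ring
    rw [this]
    exact Valuation.map_add_le _ hs.le (Q.2.1 a)
  have h1 : Q.1 (aeval s h) = 1 := by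
    obtain ⟨h₁, hh₁⟩ := X_sub_C_dvd_sub_C_eval (a := a) (p := h)
    have e1 : h = C (h.eval a) + (X - C a) * h₁ := by
      rw [← hh₁]
      ring
    have e2 : aeval s h = algebraMap k K (h.eval a) + (s - algebraMap k K a) * aeval s h₁ := by
      conv_lhs => rw [e1]
      simp only [map_add, map_mul, map_sub, aeval_C, aeval_X]
    rw [e2]
    have hlt : Q.1 ((s - algebraMap k K a) * aeval s h₁) < 1 := by
      rw [map_mul]
      exact lt_of_le_of_lt (mul_le_mul' le_rfl (val_aeval_le_one Q hsint h₁))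
        (by rwa [mul_one])
    have hone : Q.1 (algebraMap k K (h.eval a)) = 1 := pl_val_const Q hha
    rw [add_comm, Valuation.map_add_eq_of_lt_right _ (by rw [hone]; exact hlt), hone]
  conv_lhs => rw [hfh]
  rw [map_mul, map_pow, map_mul, map_pow, h1, mul_one]
  simp only [map_sub, aeval_X, aeval_C]

/-- At an unramified place over `k(s)`, `s - s(P)` is a local parameter. -/
theorem val_sub_eq_of_unramified (Q : Place k K) {s : K} (hstr : Transcendental k s) {a : k}
    (hs : Q.1 (s - algebraMap k K a) < 1)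
    (hsurj : Function.Surjective (Q.1.comap (algebraMap k⟮s⟯ K))) :
    Q.1 (s - algebraMap k K a) = exp (-1 : ℤ) := by
  obtain ⟨r, hr⟩ := hsurj (exp (-1 : ℤ))
  rw [Valuation.comap_apply] at hr
  obtain ⟨f, g, hfg⟩ := (mem_adjoin_simple_iff k (r : K)).1 r.2
  have hr' : Q.1 (aeval s f / aeval s g) = exp (-1 : ℤ) := by
    rw [← hfg]
    exact hr
  have hf0 : f ≠ 0 := by
    rintro rfl
    rw [map_zero, zero_div, map_zero] at hr'
    exact exp_ne_zero hr'.symm
  have hg0 : g ≠ 0 := by
    rintro rfl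
    rw [map_zero, div_zero, map_zero] at hr'
    exact exp_ne_zero hr'.symm
  have hsa : s - algebraMap k K a ≠ 0 := by
    intro h
    apply hstr
    rw [sub_eq_zero.1 h]
    exact isAlgebraic_algebraMap a
  have hv0 : Q.1 (s - algebraMap k K a) ≠ 0 := (Valuation.ne_zero_iff _).2 hsa
  obtain ⟨e, he⟩ : ∃ e : ℤ, Q.1 (s - algebraMap k K a) = exp (-e) :=
    ⟨-log (Q.1 (s - algebraMap k K a)), by rw [neg_neg, exp_log hv0]⟩
  have he1 : 1 ≤ e := by
    rw [he, ← exp_zero, exp_lt_exp] at hs
    omega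
  rw [map_div₀, val_aeval_eq_pow Q hs f hf0, val_aeval_eq_pow Q hs g hg0, he, ← exp_nsmul,
    ← exp_nsmul, ← exp_sub, exp_inj] at hr'
  rw [he]
  congr 2
  have h2 : e * ((f.rootMultiplicity a : ℤ) - g.rootMultiplicity a) = 1 := by
    simp only [nsmul_eq_mul] at hr'
    linarith
  have h3 : e ∣ 1 := ⟨_, h2.symm⟩
  have h4 := Int.le_of_dvd one_pos h3
  omega

section AlgClosed

variable [IsAlgClosed k]

open Groth.Agent.H27.Hasse in
/-- For a separating variable `s` (one with a Hasse family), at almost all places `s` is integral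
and `s - s(Q)` is a local parameter. -/
theorem finite_not_param (hK : IsFunctionField k K) {s : K} {H : K →ₐ[k] PowerSeries K}
    (hHs : LocRes.IsHasseFamily s H) :
    {Q : Place k K | ¬ (Q.1 s ≤ 1 ∧
      Q.1 (s - algebraMap k K (cst Q s)) = exp (-1 : ℤ))}.Finite := by
  have hg := Groth.Agent.S11000.result k K hK
  have hfr := finrank_kaehler hK hg
  have hstr : Transcendental k s := transcendental_of_hasse hK hHs
  haveI := isSeparable_of_D_ne_zero hK hfr (D_ne_zero_of_hasse hHs)
  haveI := ff_finite hK hstr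
  have hFF1 : G.IsFF1 k k⟮s⟯ := G.isFF1_of_isFunctionField
    (Groth.Agent.S11005.result k K hK hg k⟮s⟯ ⟨s, mem_adjoin_simple_self k s, hstr⟩).1
  have h1 := finite_ramified (k := k) (K := k⟮s⟯) (K' := K) hFF1
  have h2 := poles_finite hK s
  refine (h1.union h2).subset ?_
  intro Q hQ
  by_contra hcon
  simp only [Set.mem_union, Set.mem_setOf_eq, not_or, not_not, not_lt] at hcon
  exact hQ ⟨hcon.2, val_sub_eq_of_unramified Q hstr (cst_spec Q hK hcon.2) hcon.1⟩

omit [IsAlgClosed k] in
theorem ordDiff_eq_zero_of_param (Φ : Place k K → (K →ₐ[k] LaurentSeries k)) (Q : Place k K)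
    (hΦ : LocRes.IsExpansionAt Q.1 (Φ Q)) {s : K} {a : k}
    (h : Q.1 (s - algebraMap k K a) = exp (-1 : ℤ)) : LocRes.ordDiff (Φ Q) 1 s = 0 := by
  have h1 : LocRes.D k (Φ Q s) = LocRes.D k (Φ Q (s - algebraMap k K a)) := by
    rw [map_sub, map_sub, AlgHom.commutes, Derivation.map_algebraMap, sub_zero]
  unfold LocRes.ordDiff LocRes.vDiff
  rw [map_one, one_mul, h1,
    Groth.Agent.H27.WDiv.valued_D_eq_one (by rw [hΦ.1, h])]
  simp

theorem finite_support_ordDiff (hK : IsFunctionField k K) {s : K} {H : K →ₐ[k] PowerSeries K}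
    (hHs : LocRes.IsHasseFamily s H) (Φ : Place k K → (K →ₐ[k] LaurentSeries k))
    (hΦ : ∀ P : Place k K, LocRes.IsExpansionAt P.1 (Φ P)) :
    (Function.support fun Q : Place k K => LocRes.ordDiff (Φ Q) 1 s).Finite :=
  (finite_not_param hK hHs).subset (fun Q hQ hgood =>
    hQ (ordDiff_eq_zero_of_param Φ Q (hΦ Q) hgood.2))

theorem divDiff_apply (hK : IsFunctionField k K) {s : K} {H : K →ₐ[k] PowerSeries K}
    (hHs : LocRes.IsHasseFamily s H) (Φ : Place k K → (K →ₐ[k] LaurentSeries k))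
    (hΦ : ∀ P : Place k K, LocRes.IsExpansionAt P.1 (Φ P)) (Q : Place k K) :
    divDiff Φ 1 s Q = LocRes.ordDiff (Φ Q) 1 s := by
  unfold divDiff
  rw [dif_pos (finite_support_ordDiff hK hHs Φ hΦ)]
  rfl

/-- Change of variable in the order of a differential: `ord (ds) = ord (ds/dt) + ord (dt)`. -/
theorem ordDiff_change (hK : IsFunctionField k K) {s t : K} {Hs Ht : K →ₐ[k] PowerSeries K}
    (hHs : LocRes.IsHasseFamily s Hs) (hHt : LocRes.IsHasseFamily t Ht)
    (Φ : Place k K → (K →ₐ[k] LaurentSeries k)) (Q : Place k K)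
    (hΦ : LocRes.IsExpansionAt Q.1 (Φ Q)) :
    LocRes.ordDiff (Φ Q) 1 s = Q.ord (LocRes.hasseD Ht 1 s) + LocRes.ordDiff (Φ Q) 1 t := by
  have hg := Groth.Agent.S11000.result k K hK
  have hfr := finrank_kaehler hK hg
  have hdt := D_ne_zero_of_hasse hHt
  have hds := D_ne_zero_of_hasse hHs
  -- ds = g dt with g = D_t s
  obtain ⟨g, hgs⟩ := (finrank_eq_one_iff_of_nonzero' _ hdt).1 hfr (KaehlerDifferential.D k K s)
  have hgval : g = LocRes.hasseD Ht 1 s := by
    have h1 := congrArg (hasseDer hHt).liftKaehlerDifferential hgs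
    rw [map_smul, Derivation.liftKaehlerDifferential_comp_D,
      Derivation.liftKaehlerDifferential_comp_D, hasseDer_apply, hasseDer_apply,
      hasseD_one_self hHt, smul_eq_mul, mul_one] at h1
    exact h1
  have hg0 : g ≠ 0 := by
    rintro rfl
    rw [zero_smul] at hgs
    exact hds hgs.symm
  have hc := Groth.Agent.H27.DiffExp.chain_rule (Φ Q) s t g hgs.symm
  -- D (Φ t) ≠ 0
  obtain ⟨u, hu⟩ := hΦ.2.2
  have hDu : Valued.v (LocRes.D k (Φ Q u)) = 1 :=
    Groth.Agent.H27.WDiv.valued_D_eq_one (by rw [hΦ.1, hu])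
  obtain ⟨h', hh'⟩ := (finrank_eq_one_iff_of_nonzero' _ hdt).1 hfr (KaehlerDifferential.D k K u)
  have hcu := Groth.Agent.H27.DiffExp.chain_rule (Φ Q) u t h' hh'.symm
  have hDt0 : LocRes.D k (Φ Q t) ≠ 0 := by
    intro h0
    rw [hcu, h0, mul_zero, map_zero] at hDu
    exact zero_ne_one hDu
  have hvt : Valued.v (LocRes.D k (Φ Q t)) ≠ 0 := (Valuation.ne_zero_iff _).2 hDt0
  have hvg : Q.1 g ≠ 0 := (Valuation.ne_zero_iff _).2 hg0
  unfold LocRes.ordDiff LocRes.vDiff Place.ord
  rw [map_one, one_mul, one_mul, hc, map_mul, hΦ.1, log_mul hvg hvt, ← hgval]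
  ring

end AlgClosed

end Groth.Agent.H27.Generic
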