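import Mathlib
import Groth.Agent.S2363
import Groth.Agent.Lead.CompleteNoetherian

/-!
# Gonflement + completion

Every Noetherian local ring `A` admits a faithfully flat local `A`-algebra `B` which is a complete
Noetherian local ring with algebraically closed residue field
(EGA 0_III 10.3.1 = `Groth.Agent.S2363.result`, followed by the adic completion).
-/

set_option autoImplicit false
set_option linter.style.haveILetI false
universe u

namespace Groth.Agent.H27.Gonf

open IsLocalRing

/-- A complete Noetherian local ring with algebraically closed residue field, faithfully flat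
over a given Noetherian local ring. -/
theorem exists_complete_algClosed (A : Type u) [CommRing A] [IsNoetherianRing A] [IsLocalRing A] :
    ∃ (B : Type u) (_ : CommRing B) (_ : Algebra A B) (_ : IsNoetherianRing B)
      (_ : IsLocalRing B), IsAdicComplete (maximalIdeal B) B ∧
        IsAlgClosed (ResidueField B) ∧ Module.FaithfullyFlat A B ∧
        IsLocalHom (algebraMap A B) := by
  obtain ⟨B₀, _, _, hN, hL, hloc, hflat, e, -⟩ :=
    Groth.Agent.S2363.result (A := A) (AlgebraicClosure (ResidueField A))
  haveI := hN
  haveI := hL
  haveI := hloc
  haveI := hflat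
  -- the maximal ideal of `B₀` is `𝔪 B₀`
  have hmax : (maximalIdeal A).map (algebraMap A B₀) = maximalIdeal B₀ := by
    have hfield : IsField (B₀ ⧸ (maximalIdeal A).map (algebraMap A B₀)) :=
      e.toMulEquiv.isField (Field.toIsField _)
    have hM : ((maximalIdeal A).map (algebraMap A B₀)).IsMaximal :=
      Ideal.Quotient.maximal_of_isField _ hfield
    exact IsLocalRing.eq_maximalIdeal hM
  -- residue field of `B₀` is algebraically closed
  let e₀ : ResidueField B₀ ≃+* AlgebraicClosure (ResidueField A) :=
    (Ideal.quotEquivOfEq hmax.symm).trans e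
  haveI : IsAlgClosed (ResidueField B₀) :=
    IsAlgClosed.of_ringEquiv (AlgebraicClosure (ResidueField A)) (ResidueField B₀) e₀.symm
  -- the completion
  let B := AdicCompletion (maximalIdeal B₀) B₀
  haveI hNB : IsNoetherianRing B :=
    Groth.Agent.Lead.isNoetherianRing_adicCompletion (maximalIdeal B₀)
      (maximalIdeal B₀).fg_of_isNoetherianRing
  haveI : IsScalarTower A B₀ B := IsScalarTower.of_algebraMap_eq (fun _ => rfl)
  haveI hlocB : IsLocalHom (algebraMap A B) := by
    rw [IsScalarTower.algebraMap_eq A B₀ B]
    exact RingHom.isLocalHom_comp _ _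
  haveI : Module.Flat B₀ B := inferInstance
  haveI : Module.Flat A B := Module.Flat.trans A B₀ B
  have hbij := AdicCompletion.residueField_map_bijective B₀
  let e₁ : ResidueField B₀ ≃+* ResidueField B :=
    RingEquiv.ofBijective (IsLocalRing.ResidueField.map (algebraMap B₀ B)) hbij
  haveI : IsAlgClosed (ResidueField B) :=
    IsAlgClosed.of_ringEquiv (ResidueField B₀) (ResidueField B) e₁
  exact ⟨B, inferInstance, inferInstance, hNB, inferInstance, inferInstance, inferInstance,
    Module.FaithfullyFlat.of_flat_of_isLocalHom, hlocB⟩

end Groth.Agent.H27.Gonf
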