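import Mathlib
import Groth.Agent.H10.InsepArt
import Groth.Agent.H3.InsepGlue
import Groth.Agent.H3.FlatDescent

/-!
# (V6) for helper10's S6824: ind-smoothness of the Artinian subalgebra (helper27, backup copy)
-/

set_option autoImplicit false
universe u
open IsLocalRing

namespace Groth.Agent.H27.IndSmoothSub

/-- (V6) ind-smoothness of the Artinian subalgebra over the truncated regular local ring -/
theorem indSmooth_of_subalgebra {k K Λb Pb : Type u} [Field k] [Field K] [Algebra k K]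
    [CommRing Λb] [IsLocalRing Λb] [Algebra k Λb] (πb : Λb →ₐ[k] K) (A₀ : Subalgebra k Λb)
    [IsLocalRing A₀] [Module.Flat A₀ Λb]
    (hmax : (maximalIdeal A₀).map (algebraMap A₀ Λb) = RingHom.ker πb)
    (hunit : ∀ x : A₀, IsUnit x ↔ πb x ≠ 0)
    [CommRing Pb] [Algebra Pb A₀] [Algebra Pb Λb] [IsScalarTower Pb A₀ Λb] [Module.Flat Pb Λb]
    (F κ : IntermediateField k K) (hκF : κ ≤ F) (hsep : ∀ x ∈ F, IsSeparable κ x)
    (hF1 : ∀ x ∈ A₀, πb x ∈ F) (hF2 : ∀ c ∈ F, ∃ x ∈ A₀, πb x = c)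
    (hκ1 : ∀ x : Pb, πb (algebraMap Pb Λb x) ∈ κ)
    (hκ2 : ∀ c ∈ κ, ∃ x : Pb, πb (algebraMap Pb Λb x) = c)
    (hnil : IsNilpotent (RingHom.ker (πb.toRingHom.comp (algebraMap Pb Λb))))
    (hgen : (RingHom.ker (πb.toRingHom.comp (algebraMap Pb Λb))).map (algebraMap Pb Λb) =
      RingHom.ker πb) :
    Smoothing.IndSmooth Pb A₀ := by
  letI algκF : Algebra κ F := (IntermediateField.inclusion hκF).toRingHom.toAlgebra
  haveI : Algebra.IsGeometricallyReduced κ F :=
    Groth.Agent.H3.InsepGlue.isGeometricallyReduced_inclusion κ F hκF hsep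
  -- faithful flatness of `A₀ → Λb`
  haveI : IsLocalHom (algebraMap A₀ Λb) := by
    constructor
    intro x hx
    rw [hunit]
    have h1 : IsUnit (πb (algebraMap A₀ Λb x)) := hx.map πb
    exact h1.ne_zero
  haveI : Module.FaithfullyFlat A₀ Λb := Module.FaithfullyFlat.of_flat_of_isLocalHom
  haveI : Module.Flat Pb A₀ := Groth.Agent.H3.flat_of_flat_of_faithfullyFlat Pb A₀ Λb
  -- the two residue maps
  let ρ : Pb →+* κ := RingHom.codRestrict (πb.toRingHom.comp (algebraMap Pb Λb)) κ hκ1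
  have hρval : ∀ r : Pb, ((ρ r : κ) : K) = πb (algebraMap Pb Λb r) := fun r => rfl
  have hρ : Function.Surjective ρ := by
    rintro ⟨c, hc⟩
    obtain ⟨x, hx⟩ := hκ2 c hc
    exact ⟨x, Subtype.ext hx⟩
  have hkerρ : RingHom.ker ρ = RingHom.ker (πb.toRingHom.comp (algebraMap Pb Λb)) := by
    ext r
    rw [RingHom.mem_ker, RingHom.mem_ker]
    constructor
    · intro h
      have := congrArg (fun z : κ => (z : K)) h
      exact this
    · intro h
      exact Subtype.ext h
  let ρ' : A₀ →+* F := RingHom.codRestrict (πb.toRingHom.comp (algebraMap A₀ Λb)) F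
    (fun x => hF1 x.1 x.2)
  have hρ'val : ∀ x : A₀, ((ρ' x : F) : K) = πb (x : Λb) := fun x => rfl
  have hρ' : Function.Surjective ρ' := by
    rintro ⟨c, hc⟩
    obtain ⟨x, hx, hxc⟩ := hF2 c hc
    exact ⟨⟨x, hx⟩, Subtype.ext hxc⟩
  have hkerρ' : RingHom.ker ρ' = maximalIdeal A₀ := by
    ext x
    rw [RingHom.mem_ker, mem_maximalIdeal, mem_nonunits_iff, hunit, not_not]
    constructor
    · intro h
      have := congrArg (fun z : F => (z : K)) h
      exact this
    · intro h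
      exact Subtype.ext h
  have hker : (RingHom.ker ρ).map (algebraMap Pb A₀) = RingHom.ker ρ' := by
    rw [hkerρ', hkerρ]
    apply Ideal.map_injective_of_faithfullyFlat (A := A₀) (B := Λb)
    rw [Ideal.map_map, hmax, ← hgen, IsScalarTower.algebraMap_eq Pb A₀ Λb]
  have hcomm : ∀ r, ρ' (algebraMap Pb A₀ r) = algebraMap κ F (ρ r) := by
    intro r
    apply Subtype.ext
    rw [hρ'val]
    show πb ((algebraMap Pb A₀ r : A₀) : Λb) = ((ρ r : κ) : K)
    rw [hρval, IsScalarTower.algebraMap_apply Pb A₀ Λb]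
    rfl
  exact Groth.Agent.H10.InsepArt.indSmooth_of_flat_artinian ρ hρ (hkerρ ▸ hnil) ρ' hρ' hker hcomm

end Groth.Agent.H27.IndSmoothSub
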