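import Mathlib

/-!
# A finite polynomial witness for local isomorphisms (helper27)

`Dat ι σ Λ R` is a finite amount of polynomial data over `R`: relations `v`, a cover `g` with
coefficients `c`, and for each member of the cover an element `f` of `R` together with elements
witnessing `(R[T]/(v))_g ≅ R_f`.  `Valid D e` is a finite list of ideal memberships, natural in `R`,
and `isLocalIso_of_valid` shows that it forces `R[T]/(v)` to be a local isomorphism over `R`.
-/

set_option autoImplicit false
universe u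

namespace Groth.Agent.H27.IndZarWit

open MvPolynomial

/-- polynomial data. -/
@[ext]
structure Dat (ι σ Λ : Type*) (R : Type*) [CommRing R] where
  v : σ → MvPolynomial ι R
  g : Λ → MvPolynomial ι R
  c : Λ → MvPolynomial ι R
  z : Λ → MvPolynomial ι R
  f : Λ → R
  t : Λ → ι → R
  y : Λ → R

/-- exponents. -/
structure Exps (ι Λ : Type*) where
  na : Λ → ℕ
  nb : Λ → ι → ℕ
  mb : Λ → ι → ℕ
  ny : Λ → ℕ

variable {ι σ Λ : Type*} {R R' : Type*} [CommRing R] [CommRing R']

/-- base change of data. -/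
noncomputable def Dat.map (φ : R →+* R') (D : Dat ι σ Λ R) : Dat ι σ Λ R' where
  v s := MvPolynomial.map φ (D.v s)
  g l := MvPolynomial.map φ (D.g l)
  c l := MvPolynomial.map φ (D.c l)
  z l := MvPolynomial.map φ (D.z l)
  f l := φ (D.f l)
  t l k := φ (D.t l k)
  y l := φ (D.y l)

section exprs

variable [Fintype Λ] (D : Dat ι σ Λ R) (e : Exps ι Λ)

noncomputable def P1 : MvPolynomial ι R := ∑ l, D.c l * D.g l - 1

noncomputable def Pa (l : Λ) : MvPolynomial ι R := C (D.f l) * D.z l - D.g l ^ e.na l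

noncomputable def Pb (l : Λ) (k : ι) : MvPolynomial ι R :=
  D.g l ^ e.mb l k * (C (D.f l) ^ e.nb l k * X k - C (D.t l k))

noncomputable def hh (l : Λ) (k : ι) : MvPolynomial Unit R := C (D.t l k) * X () ^ e.nb l k

noncomputable def Pc (l : Λ) (s : σ) : MvPolynomial Unit R := bind₁ (hh D e l) (D.v s)

noncomputable def Pc' (l : Λ) : MvPolynomial Unit R :=
  bind₁ (hh D e l) (D.g l) * (C (D.y l) * X () ^ e.ny l) - 1

noncomputable def rel (l : Λ) : MvPolynomial Unit R := C (D.f l) * X () - 1

/-- the witness conditions. -/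
structure Valid : Prop where
  h1 : P1 D ∈ Ideal.span (Set.range D.v)
  ha : ∀ l, Pa D e l ∈ Ideal.span (Set.range D.v)
  hb : ∀ l k, Pb D e l k ∈ Ideal.span (Set.range D.v)
  hc : ∀ l s, Pc D e l s ∈ Ideal.span {rel D l}
  hc' : ∀ l, Pc' D e l ∈ Ideal.span {rel D l}

variable (φ : R →+* R')

lemma map_P1 : MvPolynomial.map φ (P1 D) = P1 (D.map φ) := by
  simp only [P1, Dat.map, map_sub, map_sum, map_mul, map_one]

lemma map_Pa (l : Λ) : MvPolynomial.map φ (Pa D e l) = Pa (D.map φ) e l := by
  simp only [Pa, Dat.map, map_sub, map_mul, map_pow, MvPolynomial.map_C]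

lemma map_Pb (l : Λ) (k : ι) : MvPolynomial.map φ (Pb D e l k) = Pb (D.map φ) e l k := by
  simp only [Pb, Dat.map, map_sub, map_mul, map_pow, MvPolynomial.map_C, MvPolynomial.map_X]

lemma map_hh (l : Λ) (k : ι) : MvPolynomial.map φ (hh D e l k) = hh (D.map φ) e l k := by
  simp only [hh, Dat.map, map_mul, map_pow, MvPolynomial.map_C, MvPolynomial.map_X]

lemma map_Pc (l : Λ) (s : σ) : MvPolynomial.map φ (Pc D e l s) = Pc (D.map φ) e l s := by
  unfold Pc
  rw [MvPolynomial.map_bind₁]
  simp only [map_hh]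
  rfl

lemma map_Pc' (l : Λ) : MvPolynomial.map φ (Pc' D e l) = Pc' (D.map φ) e l := by
  unfold Pc'
  rw [map_sub, map_mul, MvPolynomial.map_bind₁, map_mul, map_pow, MvPolynomial.map_C,
    MvPolynomial.map_X, map_one]
  simp only [map_hh]
  rfl

lemma map_rel (l : Λ) : MvPolynomial.map φ (rel D l) = rel (D.map φ) l := by
  simp only [rel, Dat.map, map_sub, map_mul, MvPolynomial.map_C, MvPolynomial.map_X, map_one]

end exprs

section main

variable [Fintype Λ] (D : Dat ι σ Λ R) (e : Exps ι Λ)

/-- The localization of `R[T]/(v)` at `g l` is the localization of `R` at `f l`. -/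
theorem away_of_valid (hV : Valid D e) (l : Λ) :
    IsLocalization.Away (D.f l)
      (Localization.Away (Ideal.Quotient.mk (Ideal.span (Set.range D.v)) (D.g l))) := by
  classical
  set I : Ideal (MvPolynomial ι R) := Ideal.span (Set.range D.v) with hI
  let S := MvPolynomial ι R ⧸ I
  let mk : MvPolynomial ι R →+* S := Ideal.Quotient.mk I
  let Rf := Localization.Away (D.f l)
  let Sg := Localization.Away (mk (D.g l))
  let inv : Rf := IsLocalization.Away.invSelf (S := Rf) (D.f l)
  have hinv : algebraMap R Rf (D.f l) * inv = 1 := IsLocalization.Away.mul_invSelf (D.f l)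
  let ev : MvPolynomial Unit R →ₐ[R] Rf := aeval (fun _ => inv)
  have hevrel : ev (rel D l) = 0 := by
    show ev (C (D.f l) * X () - 1) = 0
    rw [map_sub, map_mul, map_one, aeval_C, aeval_X, hinv, sub_self]
  have hevspan : ∀ q ∈ Ideal.span {rel D l}, ev q = 0 := by
    intro q hq
    obtain ⟨a, rfl⟩ := Ideal.mem_span_singleton'.1 hq
    rw [map_mul, hevrel, mul_zero]
  let α₀ : MvPolynomial ι R →ₐ[R] Rf := aeval (fun k => ev (hh D e l k))
  have hα₀ : ∀ p, α₀ p = ev (bind₁ (hh D e l) p) := by
    intro p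
    exact (aeval_bind₁ (fun _ => inv) (hh D e l) p).symm
  have hα₀I : ∀ p ∈ I, α₀ p = 0 := by
    intro p hp
    have hle : I ≤ RingHom.ker α₀.toRingHom := by
      rw [hI, Ideal.span_le]
      rintro _ ⟨s, rfl⟩
      show α₀ (D.v s) = 0
      rw [hα₀]
      exact hevspan _ (hV.hc l s)
    exact hle hp
  let α : S →ₐ[R] Rf := Ideal.Quotient.liftₐ I α₀ hα₀I
  have hαmk : ∀ p, α (mk p) = α₀ p := fun p => rfl
  have hunit : IsUnit (α (mk (D.g l))) := by
    have h0 := hevspan _ (hV.hc' l)
    unfold Pc' at h0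
    rw [map_sub, map_mul, map_one, sub_eq_zero, ← hα₀] at h0
    rw [hαmk]
    exact IsUnit.of_mul_eq_one _ h0
  let α' : Sg →ₐ[R] Rf :=
    IsLocalization.liftAlgHom (M := Submonoid.powers (mk (D.g l))) (f := α) (by
      rintro ⟨_, n, rfl⟩
      rw [map_pow]
      exact hunit.pow n)
  have hα' : ∀ x : S, α' (algebraMap S Sg x) = α x := by
    intro x
    exact IsLocalization.lift_eq _ x
  -- `f` is a unit in `Sg`
  have hgunit : IsUnit (algebraMap S Sg (mk (D.g l))) :=
    IsLocalization.Away.algebraMap_isUnit (mk (D.g l))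
  have hfS : ∀ r : R, algebraMap R Sg r = algebraMap S Sg (mk (C r)) := by
    intro r
    rw [IsScalarTower.algebraMap_apply R S Sg]
    rfl
  have hfunit : IsUnit (algebraMap R Sg (D.f l)) := by
    have h0 : mk (Pa D e l) = 0 := Ideal.Quotient.eq_zero_iff_mem.2 (hV.ha l)
    unfold Pa at h0
    rw [map_sub, map_mul, map_pow, sub_eq_zero] at h0
    have h1 := congrArg (algebraMap S Sg) h0
    rw [map_mul, map_pow, ← hfS] at h1
    exact isUnit_of_mul_isUnit_left (h1 ▸ hgunit.pow _)
  let β : Rf →ₐ[R] Sg :=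
    IsLocalization.liftAlgHom (M := Submonoid.powers (D.f l)) (f := Algebra.ofId R Sg) (by
      rintro ⟨_, n, rfl⟩
      rw [map_pow]
      exact hfunit.pow n)
  have hβinv : algebraMap R Sg (D.f l) * β inv = 1 := by
    have h0 := congrArg β hinv
    rw [map_mul, map_one, AlgHom.commutes] at h0
    exact h0
  have h1 : α'.comp β = AlgHom.id R Rf :=
    (IsLocalization.algHom_subsingleton (Submonoid.powers (D.f l))).elim _ _
  have h2 : β.comp α' = AlgHom.id R Sg := by
    apply IsLocalization.algHom_ext (Submonoid.powers (mk (D.g l)))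
    apply Ideal.Quotient.algHom_ext
    apply MvPolynomial.algHom_ext
    intro k
    show β (α' (algebraMap S Sg (mk (X k)))) = algebraMap S Sg (mk (X k))
    rw [hα', hαmk]
    show β (aeval (fun k => ev (hh D e l k)) (X k)) = _
    rw [aeval_X]
    show β (ev (C (D.t l k) * X () ^ e.nb l k)) = _
    rw [map_mul, map_pow, aeval_C, aeval_X, map_mul, map_pow, AlgHom.commutes]
    have h0 : mk (Pb D e l k) = 0 := Ideal.Quotient.eq_zero_iff_mem.2 (hV.hb l k)
    unfold Pb at h0
    have h3 := congrArg (algebraMap S Sg) h0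
    rw [map_mul, map_pow, map_mul, map_pow, map_zero] at h3
    have h4 := (hgunit.pow (e.mb l k)).mul_right_eq_zero.1 h3
    rw [map_sub, map_sub, sub_eq_zero, map_mul, map_mul, map_pow, map_pow, ← hfS, ← hfS] at h4
    rw [← h4, mul_right_comm, ← mul_pow, hβinv, one_pow, one_mul]
  exact IsLocalization.isLocalization_of_algEquiv (Submonoid.powers (D.f l))
    (AlgEquiv.ofAlgHom β α' h2 h1)

/-- A valid witness forces `R[T]/(v)` to be a local isomorphism over `R`. -/
theorem isLocalIso_of_valid (hV : Valid D e) :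
    Algebra.IsLocalIso R (MvPolynomial ι R ⧸ Ideal.span (Set.range D.v)) := by
  classical
  set I : Ideal (MvPolynomial ι R) := Ideal.span (Set.range D.v) with hI
  let mk : MvPolynomial ι R →+* (MvPolynomial ι R ⧸ I) := Ideal.Quotient.mk I
  have hspan : Ideal.span (Set.range fun l => mk (D.g l)) = ⊤ := by
    rw [Ideal.eq_top_iff_one]
    have h0 : mk (P1 D) = 0 := Ideal.Quotient.eq_zero_iff_mem.2 hV.h1
    unfold P1 at h0
    rw [map_sub, map_one, sub_eq_zero, map_sum] at h0
    rw [← h0]
    refine Ideal.sum_mem _ (fun l _ => ?_)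
    rw [map_mul]
    exact Ideal.mul_mem_left _ _ (Ideal.subset_span ⟨l, rfl⟩)
  haveI : ∀ l, Algebra.IsLocalIso R (Localization.Away (mk (D.g l))) := fun l => by
    haveI : IsLocalization.Away (D.f l) (Localization.Away (mk (D.g l))) := away_of_valid D e hV l
    haveI : Algebra.IsStandardOpenImmersion R (Localization.Away (mk (D.g l))) := ⟨D.f l, this⟩
    infer_instance
  exact Algebra.IsLocalIso.of_span_range_eq_top (fun l => mk (D.g l)) hspan
    (fun l => Localization.Away (mk (D.g l)))

end main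

end Groth.Agent.H27.IndZarWit
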