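import Mathlib
import Groth.Agent.H27.IndZarWit
import Groth.Agent.H48.IndZar

/-!
# Every local isomorphism admits a polynomial witness (helper27)
-/

set_option autoImplicit false
universe u

namespace Groth.Agent.H27.IndZarWit

open MvPolynomial

section local_data

variable {B E : Type u} [CommRing B] [CommRing E] [Algebra B E]

/-- the element-level data attached to one member of the cover. -/
theorem exists_local_data {n : ℕ} (π : MvPolynomial (Fin n) B →ₐ[B] E) (gE : E) (f : B)
    [IsLocalization.Away f (Localization.Away gE)] :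
    ∃ (z : E) (na : ℕ) (t : Fin n → B) (nb mb : Fin n → ℕ) (y : B) (ny : ℕ),
      algebraMap B E f * z = gE ^ na ∧
      (∀ k, gE ^ mb k * (algebraMap B E f ^ nb k * π (X k) - algebraMap B E (t k)) = 0) ∧
      ∃ α : E →ₐ[B] Localization.Away f,
        (∀ k, α (π (X k)) = algebraMap B (Localization.Away f) (t k) *
          IsLocalization.Away.invSelf (S := Localization.Away f) f ^ nb k) ∧
        α gE * (algebraMap B (Localization.Away f) y *
          IsLocalization.Away.invSelf (S := Localization.Away f) f ^ ny) = 1 := by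
  let Sg := Localization.Away gE
  let Rf := Localization.Away f
  let inv : Rf := IsLocalization.Away.invSelf (S := Rf) f
  have hinv : algebraMap B Rf f * inv = 1 := IsLocalization.Away.mul_invSelf f
  have htow : ∀ b : B, algebraMap B Sg b = algebraMap E Sg (algebraMap B E b) := fun b =>
    IsScalarTower.algebraMap_apply B E Sg b
  -- (a)
  obtain ⟨u, hu⟩ := (IsLocalization.Away.algebraMap_isUnit (S := Sg) f).exists_right_inv
  obtain ⟨n1, a, ha⟩ := IsLocalization.Away.surj gE u
  have h1 : algebraMap E Sg (algebraMap B E f * a) = algebraMap E Sg (gE ^ n1) := by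
    rw [map_mul, ← ha, ← htow, ← mul_assoc, hu, one_mul, map_pow]
  obtain ⟨m1, hm1⟩ := IsLocalization.Away.exists_of_eq gE h1
  -- (b)
  have hb : ∀ k : Fin n, ∃ (nb : ℕ) (t : B) (mb : ℕ),
      algebraMap E Sg (π (X k)) * algebraMap B Sg f ^ nb = algebraMap B Sg t ∧
      gE ^ mb * (algebraMap B E f ^ nb * π (X k) - algebraMap B E t) = 0 := by
    intro k
    obtain ⟨nb, t, ht⟩ := IsLocalization.Away.surj (S := Sg) f (algebraMap E Sg (π (X k)))
    have h2 : algebraMap E Sg (algebraMap B E f ^ nb * π (X k)) =
        algebraMap E Sg (algebraMap B E t) := by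
      rw [map_mul, map_pow, ← htow, ← htow, mul_comm]
      exact ht
    obtain ⟨mb, hmb⟩ := IsLocalization.Away.exists_of_eq gE h2
    exact ⟨nb, t, mb, ht, by rw [mul_sub, hmb, sub_self]⟩
  choose nb t mb hbt hbe using hb
  -- (c)
  let eqv : Sg ≃ₐ[B] Rf := IsLocalization.algEquiv (Submonoid.powers f) Sg Rf
  let α : E →ₐ[B] Rf := eqv.toAlgHom.comp (IsScalarTower.toAlgHom B E Sg)
  have hα : ∀ x : E, α x = eqv (algebraMap E Sg x) := fun x => rfl
  have hαk : ∀ k, α (π (X k)) = algebraMap B Rf (t k) * inv ^ nb k := by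
    intro k
    have h3 := congrArg eqv (hbt k)
    rw [map_mul, map_pow, AlgEquiv.commutes, AlgEquiv.commutes, ← hα] at h3
    rw [← h3, mul_assoc, ← mul_pow, hinv, one_pow, mul_one]
  have hgu : IsUnit (α gE) := by
    rw [hα]
    exact (IsLocalization.Away.algebraMap_isUnit (S := Sg) gE).map eqv
  obtain ⟨w, hw⟩ := hgu.exists_right_inv
  obtain ⟨ny, y, hy⟩ := IsLocalization.Away.surj (S := Rf) f w
  have hwy : w = algebraMap B Rf y * inv ^ ny := by
    rw [← hy, mul_assoc, ← mul_pow, hinv, one_pow, mul_one]
  refine ⟨gE ^ m1 * a, m1 + n1, t, nb, mb, y, ny, ?_, hbe, α, hαk, ?_⟩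
  · rw [pow_add, ← hm1]
    ring
  · rw [← hwy]
    exact hw

end local_data

section ker

variable {B : Type u} [CommRing B] (f : B)

/-- the kernel of evaluation at `1/f`. -/
theorem mem_span_rel_of_aeval_eq_zero (q : MvPolynomial Unit B)
    (hq : aeval (fun _ => IsLocalization.Away.invSelf (S := Localization.Away f) f) q = 0) :
    q ∈ Ideal.span {C f * X () - 1} := by
  have h0 : IsLocalization.Away.mvPolynomialQuotientEquiv (Localization.Away f) f
      (Ideal.Quotient.mk _ q) = 0 := by
    rw [IsLocalization.Away.mvPolynomialQuotientEquiv_apply]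
    exact hq
  have h1 : Ideal.Quotient.mk (Ideal.span {C f * X () - 1}) q = 0 := by
    apply (IsLocalization.Away.mvPolynomialQuotientEquiv (Localization.Away f) f).injective
    rw [h0, map_zero]
  exact Ideal.Quotient.eq_zero_iff_mem.1 h1

end ker

section ex

variable (B E : Type u) [CommRing B] [CommRing E] [Algebra B E] [Algebra.IsLocalIso B E]

/-- every local isomorphism admits a valid witness. -/
theorem exists_dat :
    ∃ (n : ℕ) (σ Λ : Type u) (_ : Fintype σ) (_ : Fintype Λ) (D : Dat (Fin n) σ Λ B)
      (e : Exps (Fin n) Λ) (π : MvPolynomial (Fin n) B →ₐ[B] E),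
      Function.Surjective π ∧ RingHom.ker π.toRingHom = Ideal.span (Set.range D.v) ∧
        Valid D e := by
  classical
  haveI := Groth.Agent.H48.IndZar.finitePresentation_of_isLocalIso B E
  obtain ⟨n, π, hπ, S, hS⟩ := Algebra.FinitePresentation.out (R := B) (A := E)
  have hcover := Algebra.IsLocalIso.span_isStandardOpenImmersion_eq_top B E
  have h1mem : (1 : E) ∈ Ideal.span
      {g : E | Algebra.IsStandardOpenImmersion B (Localization.Away g)} := by
    rw [hcover]; trivial
  obtain ⟨T, hT, h1T⟩ := Submodule.mem_span_finite_of_mem_span h1mem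
  have h1T' : (1 : E) ∈ Ideal.span (Set.range fun l : T => (l : E)) := by
    have : (Set.range fun l : T => (l : E)) = (T : Set E) := Subtype.range_coe
    rw [this]; exact h1T
  obtain ⟨cE, hcE⟩ := Ideal.mem_span_range_iff_exists_fun.1 h1T'
  have hstd : ∀ l : T, ∃ f : B, IsLocalization.Away f (Localization.Away (l : E)) := by
    intro l
    have := hT l.2
    exact (this : Algebra.IsStandardOpenImmersion B (Localization.Away (l : E))).exists_away
  choose f hf using hstd
  have hloc : ∀ l : T, _ := fun l =>
    haveI := hf l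
    exists_local_data π (l : E) (f l)
  choose zE na t nb mb y ny hza hbe α hαk hαg using hloc
  choose g hg using fun l : T => hπ (l : E)
  choose c hc using fun l : T => hπ (cE l)
  choose z hz using fun l : T => hπ (zE l)
  let D : Dat (Fin n) S T B :=
    { v := fun s => (s : MvPolynomial (Fin n) B), g := g, c := c, z := z, f := f, t := t, y := y }
  let e : Exps (Fin n) T := { na := na, nb := nb, mb := mb, ny := ny }
  have hker : RingHom.ker π.toRingHom = Ideal.span (Set.range D.v) := by
    rw [← hS]
    congr 1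
    exact Subtype.range_coe.symm
  have hmem : ∀ p : MvPolynomial (Fin n) B, π p = 0 → p ∈ Ideal.span (Set.range D.v) := by
    intro p hp
    rw [← hker]
    exact hp
  have hπC : ∀ b : B, π (C b) = algebraMap B E b := fun b => π.commutes b
  have hπv : ∀ s : S, π (D.v s) = 0 := by
    intro s
    have : D.v s ∈ RingHom.ker π.toRingHom := by
      rw [hker]; exact Ideal.subset_span ⟨s, rfl⟩
    exact this
  refine ⟨n, S, T, inferInstance, inferInstance, D, e, π, hπ, hker, ?_⟩
  refine ⟨hmem _ ?_, fun l => hmem _ ?_, fun l k => hmem _ ?_, fun l s => ?_, fun l => ?_⟩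
  · show π (∑ l, c l * g l - 1) = 0
    rw [map_sub, map_sum, map_one, sub_eq_zero, ← hcE]
    refine Finset.sum_congr rfl (fun l _ => ?_)
    rw [map_mul, hc, hg]
  · show π (C (f l) * z l - g l ^ na l) = 0
    rw [map_sub, map_mul, map_pow, hπC, hz, hg, hza, sub_self]
  · show π (g l ^ mb l k * (C (f l) ^ nb l k * X k - C (t l k))) = 0
    rw [map_mul, map_pow, map_sub, map_mul, map_pow, hπC, hπC, hg]
    exact hbe l k
  · -- (c)
    have hcomp : (aeval (fun k => aeval (R := B) (fun _ : Unit =>
        IsLocalization.Away.invSelf (S := Localization.Away (f l)) (f l)) (hh D e l k)) :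
        MvPolynomial (Fin n) B →ₐ[B] Localization.Away (f l)) = (α l).comp π := by
      apply MvPolynomial.algHom_ext
      intro k
      rw [aeval_X, AlgHom.comp_apply, hαk]
      show aeval _ (C (t l k) * X () ^ nb l k) = _
      rw [map_mul, map_pow, aeval_C, aeval_X]
    apply mem_span_rel_of_aeval_eq_zero
    show aeval _ (bind₁ (hh D e l) (D.v s)) = 0
    rw [aeval_bind₁, hcomp, AlgHom.comp_apply, hπv, map_zero]
  · have hcomp : (aeval (fun k => aeval (R := B) (fun _ : Unit =>
        IsLocalization.Away.invSelf (S := Localization.Away (f l)) (f l)) (hh D e l k)) :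
        MvPolynomial (Fin n) B →ₐ[B] Localization.Away (f l)) = (α l).comp π := by
      apply MvPolynomial.algHom_ext
      intro k
      rw [aeval_X, AlgHom.comp_apply, hαk]
      show aeval _ (C (t l k) * X () ^ nb l k) = _
      rw [map_mul, map_pow, aeval_C, aeval_X]
    apply mem_span_rel_of_aeval_eq_zero
    show aeval _ (bind₁ (hh D e l) (g l) * (C (y l) * X () ^ ny l) - 1) = 0
    rw [map_sub, map_mul, map_one, aeval_bind₁, hcomp, AlgHom.comp_apply, hg, map_mul, map_pow,
      aeval_C, aeval_X, hαg, sub_self]

end ex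

end Groth.Agent.H27.IndZarWit
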