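import Mathlib
import Groth.Prelude.Def_PBC
import Groth.Agent.Lead.ColimDescent
import Groth.Agent.H12.IndEtD
import Groth.Agent.H48.IndZar
import Groth.Agent.H27.IndZarEx

/-!
# Descent of local isomorphisms along a colimit-like system; ind-Zariski maps compose (helper27)
-/

set_option autoImplicit false
universe u

namespace Groth.Agent.H27.IndZarWit

open MvPolynomial Groth.Agent.Lead.ColimDescent Groth.Agent.H12.IndEt

section gen

variable {X Y Z : Type u} [CommRing X] [CommRing Y] [CommRing Z]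

lemma mem_span_map (φ : X →+* Y) {ν τ : Type*} (p : MvPolynomial ν X)
    (v : τ → MvPolynomial ν X) (h : p ∈ Ideal.span (Set.range v)) :
    MvPolynomial.map φ p ∈ Ideal.span (Set.range fun s => MvPolynomial.map φ (v s)) := by
  have h1 := Ideal.mem_map_of_mem (MvPolynomial.map φ) h
  rw [Ideal.map_span] at h1
  have h2 : (Set.range fun s => MvPolynomial.map φ (v s)) = (MvPolynomial.map φ) '' Set.range v := by
    ext q
    constructor
    · rintro ⟨s, rfl⟩
      exact ⟨v s, ⟨s, rfl⟩, rfl⟩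
    · rintro ⟨_, ⟨s, rfl⟩, rfl⟩
      exact ⟨s, rfl⟩
  rw [h2]
  exact h1

variable {A : Type u} [CommRing A] [Algebra A X] [Algebra A Y] [Algebra A Z]

lemma map_map_algHom (φ : X →ₐ[A] Y) (ψ : Y →ₐ[A] Z) {ν : Type*} (r : MvPolynomial ν X) :
    MvPolynomial.map ψ.toRingHom (MvPolynomial.map φ.toRingHom r) =
      MvPolynomial.map (ψ.comp φ).toRingHom r := by
  rw [MvPolynomial.map_map]
  rfl

lemma map_aeval_algHom (φ : X →ₐ[A] Y) {ν : Type*} {m : ℕ} (w : Fin m → MvPolynomial ν X)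
    (p : MvPolynomial (Fin m) A) :
    MvPolynomial.map φ.toRingHom (aeval w p) = aeval (fun k => MvPolynomial.map φ.toRingHom (w k)) p := by
  have h2 := congrArg (fun t : MvPolynomial (Fin m) A →ₐ[A] MvPolynomial ν Y => t p)
    (comp_aeval (f := w) (mapAlgHom (σ := ν) φ))
  exact h2

end gen

section Descent

variable {κ : Type u} {A : Type u} [CommRing A] {G : κ → Type u} [∀ i, CommRing (G i)]
  [∀ i, Algebra A (G i)] {B : Type u} [CommRing B] [Algebra A B] {g : ∀ i, G i →ₐ[A] B}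

/-- ideal membership over the colimit descends to a later stage. -/
theorem descend_mem_span (H : Sys A G B g) {ν τ : Type*} [Fintype τ] (i : κ)
    (p : MvPolynomial ν (G i)) (v : τ → MvPolynomial ν (G i))
    (h : MvPolynomial.map (g i).toRingHom p ∈
      Ideal.span (Set.range fun s => MvPolynomial.map (g i).toRingHom (v s))) :
    ∃ (j : κ) (φ : G i →ₐ[A] G j), (g j).comp φ = g i ∧
      MvPolynomial.map φ.toRingHom p ∈
        Ideal.span (Set.range fun s => MvPolynomial.map φ.toRingHom (v s)) := by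
  classical
  obtain ⟨d, hd⟩ := Ideal.mem_span_range_iff_exists_fun.1 h
  obtain ⟨i', q', hq'⟩ := Sys.lift_polys H (Finset.univ.image d)
  have hq : ∀ s, MvPolynomial.map (g i').toRingHom (q' (d s)) = d s := fun s =>
    hq' _ (Finset.mem_image_of_mem d (Finset.mem_univ s))
  obtain ⟨j1, φ1, φ1', c1, c1'⟩ := H.dir i i'
  let err : MvPolynomial ν (G j1) := MvPolynomial.map φ1.toRingHom p -
    ∑ s, MvPolynomial.map φ1'.toRingHom (q' (d s)) * MvPolynomial.map φ1.toRingHom (v s)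
  have herr : MvPolynomial.map (g j1).toRingHom err = 0 := by
    simp only [err, map_sub, map_sum, map_mul, map_map_algHom, c1, c1', hq]
    rw [hd, sub_self]
  obtain ⟨j2, φ2, c2, hk⟩ := Sys.kill_polys H j1 {err} (by
    intro r hr
    rw [Finset.mem_singleton] at hr
    rw [hr]
    exact herr)
  refine ⟨j2, φ2.comp φ1, by rw [← AlgHom.comp_assoc, c2, c1], ?_⟩
  have h0 := hk err (Finset.mem_singleton_self _)
  simp only [err, map_sub, map_sum, map_mul, map_map_algHom] at h0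
  rw [sub_eq_zero] at h0
  rw [h0]
  exact Ideal.sum_mem _ fun s _ => Ideal.mul_mem_left _ _ (Ideal.subset_span ⟨s, rfl⟩)

variable (g) in
/-- stable predicates on later stages. -/
def Stab (i : κ) (Q : ∀ j, (G i →ₐ[A] G j) → Prop) : Prop :=
  ∀ j (φ : G i →ₐ[A] G j), (g j).comp φ = g i → Q j φ →
    ∀ k (ψ : G j →ₐ[A] G k), (g k).comp ψ = g j → Q k (ψ.comp φ)

variable (g) in
/-- achievable predicates on later stages. -/
def Ach (i : κ) (Q : ∀ j, (G i →ₐ[A] G j) → Prop) : Prop :=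
  ∀ j (φ : G i →ₐ[A] G j), (g j).comp φ = g i →
    ∃ k, ∃ ψ : G j →ₐ[A] G k, (g k).comp ψ = g j ∧ Q k (ψ.comp φ)

theorem ach_and {i : κ} {Q1 Q2 : ∀ j, (G i →ₐ[A] G j) → Prop} (hS1 : Stab g i Q1)
    (hA1 : Ach g i Q1) (hA2 : Ach g i Q2) : Ach g i (fun j φ => Q1 j φ ∧ Q2 j φ) := by
  intro j φ c
  obtain ⟨k1, ψ1, c1, h1⟩ := hA1 j φ c
  obtain ⟨k2, ψ2, c2, h2⟩ := hA2 k1 (ψ1.comp φ) (by rw [← AlgHom.comp_assoc, c1, c])
  refine ⟨k2, ψ2.comp ψ1, by rw [← AlgHom.comp_assoc, c2, c1], ?_, ?_⟩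
  · rw [AlgHom.comp_assoc]
    exact hS1 k1 (ψ1.comp φ) (by rw [← AlgHom.comp_assoc, c1, c]) h1 k2 ψ2 c2
  · rw [AlgHom.comp_assoc]
    exact h2

theorem stab_and {i : κ} {Q1 Q2 : ∀ j, (G i →ₐ[A] G j) → Prop} (hS1 : Stab g i Q1)
    (hS2 : Stab g i Q2) : Stab g i (fun j φ => Q1 j φ ∧ Q2 j φ) := by
  intro j φ c h k ψ cψ
  exact ⟨hS1 j φ c h.1 k ψ cψ, hS2 j φ c h.2 k ψ cψ⟩

theorem stab_forall {i : κ} {α : Type*} {Q : α → ∀ j, (G i →ₐ[A] G j) → Prop}
    (hS : ∀ a, Stab g i (Q a)) (s : Set α) : Stab g i (fun j φ => ∀ a ∈ s, Q a j φ) := by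
  intro j φ c h k ψ cψ a ha
  exact hS a j φ c (h a ha) k ψ cψ

theorem ach_forall_finset {i : κ} {α : Type*} {Q : α → ∀ j, (G i →ₐ[A] G j) → Prop}
    (hS : ∀ a, Stab g i (Q a)) (hA : ∀ a, Ach g i (Q a)) (s : Finset α) :
    Ach g i (fun j φ => ∀ a ∈ s, Q a j φ) := by
  classical
  induction s using Finset.induction_on with
  | empty =>
    intro j φ c
    exact ⟨j, AlgHom.id A _, AlgHom.comp_id _, by simp⟩
  | insert a s ha ih =>
    have h1 := ach_and (stab_forall hS (s : Set α)) ih (hA a)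
    intro j φ c
    obtain ⟨k, ψ, cψ, h2, h3⟩ := h1 j φ c
    refine ⟨k, ψ, cψ, ?_⟩
    intro b hb
    rcases Finset.mem_insert.1 hb with rfl | hb
    · exact h3
    · exact h2 b hb

theorem ach_forall {i : κ} {α : Type*} [Fintype α] {Q : α → ∀ j, (G i →ₐ[A] G j) → Prop}
    (hS : ∀ a, Stab g i (Q a)) (hA : ∀ a, Ach g i (Q a)) :
    Ach g i (fun j φ => ∀ a, Q a j φ) := by
  intro j φ c
  obtain ⟨k, ψ, cψ, h⟩ := ach_forall_finset hS hA Finset.univ j φ c
  exact ⟨k, ψ, cψ, fun a => h a (Finset.mem_univ a)⟩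

/-- the membership predicate. -/
def QM {ν τ : Type*} (i : κ) (p : MvPolynomial ν (G i)) (v : τ → MvPolynomial ν (G i)) :
    ∀ j, (G i →ₐ[A] G j) → Prop := fun _ φ =>
  MvPolynomial.map φ.toRingHom p ∈
    Ideal.span (Set.range fun s => MvPolynomial.map φ.toRingHom (v s))

theorem stab_QM {ν τ : Type*} (i : κ) (p : MvPolynomial ν (G i))
    (v : τ → MvPolynomial ν (G i)) : Stab g i (QM i p v) := by
  intro j φ _ h k ψ _
  have h1 := mem_span_map ψ.toRingHom _ _ h
  simp only [map_map_algHom] at h1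
  exact h1

theorem ach_QM (H : Sys A G B g) {ν τ : Type*} [Fintype τ] (i : κ) (p : MvPolynomial ν (G i))
    (v : τ → MvPolynomial ν (G i))
    (h : MvPolynomial.map (g i).toRingHom p ∈
      Ideal.span (Set.range fun s => MvPolynomial.map (g i).toRingHom (v s))) :
    Ach g i (QM i p v) := by
  intro j φ c
  obtain ⟨k, ψ, cψ, hk⟩ := descend_mem_span H j (MvPolynomial.map φ.toRingHom p)
    (fun s => MvPolynomial.map φ.toRingHom (v s)) (by
      simp only [map_map_algHom, c]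
      exact h)
  refine ⟨k, ψ, cψ, ?_⟩
  simp only [map_map_algHom] at hk
  exact hk

end Descent

end Groth.Agent.H27.IndZarWit
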