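import Mathlib
import Groth.Prelude.Def_PBC
import Groth.Agent.Lead.ColimDescent
import Groth.Agent.H12.IndEtD
import Groth.Agent.H48.IndZar
import Groth.Agent.H27.IndZarDesc

/-!
# Ind-Zariski ring maps compose (helper27)

`fact_of_localIso_over_sys`: a local isomorphism over a colimit-like system of local isomorphisms
over `A` satisfies `H48.IndZar.Fact A _`.  `isIndZariski_trans`: ind-Zariski maps compose.
-/

set_option autoImplicit false
universe u

namespace Groth.Agent.H27.IndZarWit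

open MvPolynomial Groth.Agent.Lead.ColimDescent Groth.Agent.H12.IndEt
open CategoryTheory CategoryTheory.Limits

section StabAll

variable {κ : Type u} {A : Type u} [CommRing A] {G : κ → Type u} [∀ i, CommRing (G i)]
  [∀ i, Algebra A (G i)] {B : Type u} [CommRing B] [Algebra A B] {g : ∀ i, G i →ₐ[A] B}

theorem stab_forall_all {i : κ} {α : Type*} {Q : α → ∀ j, (G i →ₐ[A] G j) → Prop}
    (hS : ∀ a, Stab g i (Q a)) : Stab g i (fun j φ => ∀ a, Q a j φ) := by
  intro j φ c h k ψ cψ a
  exact hS a j φ c (h a) k ψ cψ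

end StabAll

section Main

variable {A B E : Type u} [CommRing A] [CommRing B] [CommRing E] [Algebra A B] [Algebra B E]
  [Algebra A E] [IsScalarTower A B E]

/-- a local isomorphism over a colimit-like system of local isomorphisms over `A` satisfies
`Fact A _`. -/
theorem fact_of_localIso_over_sys {κ : Type u} {G : κ → Type u} [∀ i, CommRing (G i)]
    [∀ i, Algebra A (G i)] {g : ∀ i, G i →ₐ[A] B} (H : Sys A G B g)
    (hG : ∀ i, Algebra.IsLocalIso A (G i)) [Algebra.IsLocalIso B E] :
    Groth.Agent.H48.IndZar.Fact A E := by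
  classical
  intro P _ _ _ f
  obtain ⟨n, σ, Λ, _, _, D, e, π, hπ, hker, hV⟩ := exists_dat B E
  obtain ⟨m, fp, hfp, hkerP⟩ := Algebra.FinitePresentation.out (R := A) (A := P)
  obtain ⟨SP, hSP⟩ := hkerP
  choose wB hwB using fun k : Fin m => hπ (f (fp (X k)))
  have hcomp : (π.restrictScalars A).comp (aeval wB) = f.comp fp := by
    apply MvPolynomial.algHom_ext
    intro k
    show π (aeval wB (X k)) = f (fp (X k))
    rw [aeval_X, hwB]
  have hfp0 : ∀ l : SP, fp l.1 = 0 := by
    intro l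
    have hmem : l.1 ∈ RingHom.ker fp.toRingHom := by
      rw [← hSP]; exact Ideal.subset_span l.2
    exact hmem
  have hPB : ∀ l : SP, aeval wB l.1 ∈ Ideal.span (Set.range D.v) := by
    intro l
    rw [← hker]
    have h1 := congrArg (fun t : MvPolynomial (Fin m) A →ₐ[A] E => t l.1) hcomp
    have h2 : π (aeval wB l.1) = f (fp l.1) := h1
    show π (aeval wB l.1) = 0
    rw [h2, hfp0 l, map_zero]
  -- lift all the data to a stage
  let T := σ ⊕ (Λ ⊕ (Λ ⊕ (Λ ⊕ (Λ ⊕ ((Λ × Fin n) ⊕ (Λ ⊕ Fin m))))))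
  let x : T → MvPolynomial (Fin n) B := fun t =>
    Sum.elim D.v (Sum.elim D.g (Sum.elim D.c (Sum.elim D.z (Sum.elim (fun l => C (D.f l))
      (Sum.elim (fun lk => C (D.t lk.1 lk.2)) (Sum.elim (fun l => C (D.y l)) wB)))))) t
  obtain ⟨i0, q', hq'⟩ := Sys.lift_polys H (Finset.univ.image x)
  have hq : ∀ t : T, MvPolynomial.map (g i0).toRingHom (q' (x t)) = x t := fun t =>
    hq' _ (Finset.mem_image_of_mem x (Finset.mem_univ t))
  have hcoeff : ∀ (r : MvPolynomial (Fin n) (G i0)) (b : B),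
      MvPolynomial.map (g i0).toRingHom r = C b → g i0 (coeff 0 r) = b := by
    intro r b hr
    have h1 := congrArg (coeff 0) hr
    rw [coeff_map, coeff_zero_C] at h1
    exact h1
  let D0 : Dat (Fin n) σ Λ (G i0) :=
    { v := fun s => q' (D.v s)
      g := fun l => q' (D.g l)
      c := fun l => q' (D.c l)
      z := fun l => q' (D.z l)
      f := fun l => coeff 0 (q' (C (D.f l)))
      t := fun l k => coeff 0 (q' (C (D.t l k)))
      y := fun l => coeff 0 (q' (C (D.y l))) }
  let w0 : Fin m → MvPolynomial (Fin n) (G i0) := fun k => q' (wB k)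
  have hD0 : D0.map (g i0).toRingHom = D := by
    apply Dat.ext
    · funext s; exact hq (Sum.inl s)
    · funext l; exact hq (Sum.inr (Sum.inl l))
    · funext l; exact hq (Sum.inr (Sum.inr (Sum.inl l)))
    · funext l; exact hq (Sum.inr (Sum.inr (Sum.inr (Sum.inl l))))
    · funext l
      exact hcoeff _ _ (hq (Sum.inr (Sum.inr (Sum.inr (Sum.inr (Sum.inl l))))))
    · funext l k
      exact hcoeff _ _ (hq (Sum.inr (Sum.inr (Sum.inr (Sum.inr (Sum.inr (Sum.inl (l, k))))))))
    · funext l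
      exact hcoeff _ _
        (hq (Sum.inr (Sum.inr (Sum.inr (Sum.inr (Sum.inr (Sum.inr (Sum.inl l))))))))
  have hw0 : ∀ k, MvPolynomial.map (g i0).toRingHom (w0 k) = wB k := fun k =>
    hq (Sum.inr (Sum.inr (Sum.inr (Sum.inr (Sum.inr (Sum.inr (Sum.inr k)))))))
  have hDv : ∀ (X' : Type u) [CommRing X'] (ψ : G i0 →+* X'),
      (fun s => MvPolynomial.map ψ (D0.v s)) = (D0.map ψ).v := fun _ _ _ => rfl
  -- the clauses
  let α1 := Unit ⊕ (Λ ⊕ ((Λ × Fin n) ⊕ SP))
  let p1 : α1 → MvPolynomial (Fin n) (G i0) := fun a =>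
    Sum.elim (fun _ => P1 D0) (Sum.elim (Pa D0 e) (Sum.elim (fun lk => Pb D0 e lk.1 lk.2)
      (fun l : SP => aeval w0 l.1))) a
  let α2 := (Λ × σ) ⊕ Λ
  let p2 : α2 → MvPolynomial Unit (G i0) := fun a =>
    Sum.elim (fun ls => Pc D0 e ls.1 ls.2) (Pc' D0 e) a
  let l2 : α2 → Λ := fun a => Sum.elim (fun ls => ls.1) id a
  have hA1 : ∀ a : α1, Ach g i0 (QM i0 (p1 a) D0.v) := by
    intro a
    apply ach_QM H
    rw [hDv, hD0]
    rcases a with _ | l | lk | l
    · show MvPolynomial.map (g i0).toRingHom (P1 D0) ∈ _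
      rw [map_P1, hD0]; exact hV.h1
    · show MvPolynomial.map (g i0).toRingHom (Pa D0 e l) ∈ _
      rw [map_Pa, hD0]; exact hV.ha l
    · show MvPolynomial.map (g i0).toRingHom (Pb D0 e lk.1 lk.2) ∈ _
      rw [map_Pb, hD0]; exact hV.hb lk.1 lk.2
    · show MvPolynomial.map (g i0).toRingHom (aeval w0 l.1) ∈ _
      rw [map_aeval_algHom]
      simp only [hw0]
      exact hPB l
  have hrelrange : ∀ (X' : Type u) [CommRing X'] (D' : Dat (Fin n) σ Λ X') (l : Λ),
      (Set.range fun _ : Unit => rel D' l) = {rel D' l} := fun _ _ D' l => Set.range_const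
  have hA2 : ∀ a : α2, Ach g i0 (QM i0 (p2 a) (fun _ : Unit => rel D0 (l2 a))) := by
    intro a
    apply ach_QM H
    simp only [map_rel, hD0]
    rw [hrelrange]
    rcases a with ls | l
    · show MvPolynomial.map (g i0).toRingHom (Pc D0 e ls.1 ls.2) ∈ _
      rw [map_Pc, hD0]; exact hV.hc ls.1 ls.2
    · show MvPolynomial.map (g i0).toRingHom (Pc' D0 e l) ∈ _
      rw [map_Pc', hD0]; exact hV.hc' l
  have hAll := ach_and (stab_forall_all (fun a => stab_QM i0 (p1 a) D0.v))
    (ach_forall (fun a => stab_QM i0 (p1 a) D0.v) hA1)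
    (ach_forall (fun a => stab_QM i0 (p2 a) (fun _ : Unit => rel D0 (l2 a))) hA2)
  obtain ⟨j, φ, hφ, hQ1, hQ2⟩ := hAll i0 (AlgHom.id A _) (AlgHom.comp_id _)
  simp only [AlgHom.comp_id] at hQ1 hQ2
  let D1 : Dat (Fin n) σ Λ (G j) := D0.map φ.toRingHom
  let w1 : Fin m → MvPolynomial (Fin n) (G j) := fun k => MvPolynomial.map φ.toRingHom (w0 k)
  have hV1 : Valid D1 e := by
    refine ⟨?_, fun l => ?_, fun l k => ?_, fun l s => ?_, fun l => ?_⟩
    · have h := hQ1 (Sum.inl ())
      unfold QM at h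
      rw [show p1 (Sum.inl ()) = P1 D0 from rfl, map_P1] at h
      exact h
    · have h := hQ1 (Sum.inr (Sum.inl l))
      unfold QM at h
      rw [show p1 (Sum.inr (Sum.inl l)) = Pa D0 e l from rfl, map_Pa] at h
      exact h
    · have h := hQ1 (Sum.inr (Sum.inr (Sum.inl (l, k))))
      unfold QM at h
      rw [show p1 (Sum.inr (Sum.inr (Sum.inl (l, k)))) = Pb D0 e l k from rfl, map_Pb] at h
      exact h
    · have h := hQ2 (Sum.inl (l, s))
      unfold QM at h
      rw [show p2 (Sum.inl (l, s)) = Pc D0 e l s from rfl, map_Pc,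
        show l2 (Sum.inl (l, s)) = l from rfl] at h
      simp only [map_rel, Set.range_const] at h
      exact h
    · have h := hQ2 (Sum.inr l)
      unfold QM at h
      rw [show p2 (Sum.inr l) = Pc' D0 e l from rfl, map_Pc',
        show l2 (Sum.inr l) = l from rfl] at h
      simp only [map_rel, Set.range_const] at h
      exact h
  have hP1 : ∀ l : SP, aeval w1 l.1 ∈ Ideal.span (Set.range D1.v) := by
    intro l
    have h := hQ1 (Sum.inr (Sum.inr (Sum.inr l)))
    unfold QM at h
    rw [show p1 (Sum.inr (Sum.inr (Sum.inr l))) = aeval w0 l.1 from rfl, map_aeval_algHom] at h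
    exact h
  haveI := hG j
  haveI : Algebra.IsLocalIso (G j) (MvPolynomial (Fin n) (G j) ⧸ Ideal.span (Set.range D1.v)) :=
    isLocalIso_of_valid D1 e hV1
  haveI : Algebra.IsLocalIso A (MvPolynomial (Fin n) (G j) ⧸ Ideal.span (Set.range D1.v)) :=
    Algebra.IsLocalIso.trans A (G j) _
  -- the map to `E`
  let xE : Fin n → E := fun k => π (X k)
  have hπeval : ∀ r : MvPolynomial (Fin n) B, aeval xE r = π r := by
    intro r
    have h1 : π = aeval xE := MvPolynomial.aeval_unique π
    rw [h1]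
  have hg1 : ∀ r : MvPolynomial (Fin n) (G i0),
      MvPolynomial.map (g j).toRingHom (MvPolynomial.map φ.toRingHom r) =
        MvPolynomial.map (g i0).toRingHom r := by
    intro r
    rw [map_map_algHom, hφ]
  have hπv : ∀ s : σ, π (D.v s) = 0 := by
    intro s
    have : D.v s ∈ RingHom.ker π.toRingHom := by
      rw [hker]; exact Ideal.subset_span ⟨s, rfl⟩
    exact this
  have hκ0 : ∀ r ∈ Ideal.span (Set.range D1.v), evalStage (g j) xE r = 0 := by
    intro r hr
    have hle : Ideal.span (Set.range D1.v) ≤ RingHom.ker (evalStage (g j) xE).toRingHom := by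
      refine Ideal.span_le.2 ?_
      rintro _ ⟨s, rfl⟩
      show evalStage (g j) xE (MvPolynomial.map φ.toRingHom (D0.v s)) = 0
      rw [evalStage_apply, hg1, hπeval]
      have h2 : MvPolynomial.map (g i0).toRingHom (D0.v s) = D.v s :=
        congrFun (congrArg Dat.v hD0) s
      rw [h2, hπv]
    exact hle hr
  let κ' : (MvPolynomial (Fin n) (G j) ⧸ Ideal.span (Set.range D1.v)) →ₐ[A] E :=
    Ideal.Quotient.liftₐ _ (evalStage (g j) xE) hκ0
  -- the map from `P`
  let α0 : MvPolynomial (Fin m) A →ₐ[A]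
      (MvPolynomial (Fin n) (G j) ⧸ Ideal.span (Set.range D1.v)) :=
    (Ideal.Quotient.mkₐ A (Ideal.span (Set.range D1.v))).comp (aeval w1)
  have hα0 : ∀ q ∈ RingHom.ker fp.toRingHom, α0 q = 0 := by
    intro q hq
    rw [← hSP] at hq
    have hle : Ideal.span (SP : Set (MvPolynomial (Fin m) A)) ≤ RingHom.ker α0.toRingHom := by
      refine Ideal.span_le.2 ?_
      intro p hp
      show Ideal.Quotient.mk (Ideal.span (Set.range D1.v)) (aeval w1 p) = 0
      exact Ideal.Quotient.eq_zero_iff_mem.2 (hP1 ⟨p, hp⟩)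
    exact hle hq
  let α : P →ₐ[A] (MvPolynomial (Fin n) (G j) ⧸ Ideal.span (Set.range D1.v)) :=
    (Ideal.Quotient.liftₐ (RingHom.ker fp.toRingHom) α0 hα0).comp
      (Ideal.quotientKerAlgEquivOfSurjective hfp).symm.toAlgHom
  refine ⟨MvPolynomial (Fin n) (G j) ⧸ Ideal.span (Set.range D1.v), inferInstance, inferInstance,
    inferInstance, α, κ', ?_⟩
  ext p
  obtain ⟨q, rfl⟩ := hfp p
  have h1 : (Ideal.quotientKerAlgEquivOfSurjective hfp).symm (fp q) =
      Ideal.Quotient.mk _ q := by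
    apply (Ideal.quotientKerAlgEquivOfSurjective hfp).injective
    rw [AlgEquiv.apply_symm_apply]
    rfl
  show κ' (Ideal.Quotient.liftₐ _ α0 hα0
    ((Ideal.quotientKerAlgEquivOfSurjective hfp).symm (fp q))) = f (fp q)
  rw [h1]
  show κ' (α0 q) = f (fp q)
  have h2 : κ'.comp α0 = f.comp fp := by
    apply MvPolynomial.algHom_ext
    intro k
    show evalStage (g j) xE (aeval w1 (X k)) = f (fp (X k))
    rw [aeval_X, evalStage_apply]
    show aeval xE (MvPolynomial.map (g j).toRingHom (MvPolynomial.map φ.toRingHom (w0 k))) = _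
    rw [hg1, hw0, hπeval, hwB]
  exact congrArg (fun t : MvPolynomial (Fin m) A →ₐ[A] E => t q) h2

end Main

section Trans

variable {A B C : Type u} [CommRing A] [CommRing B] [CommRing C] [Algebra A B] [Algebra B C]
  [Algebra A C] [IsScalarTower A B C]

/-- ind-Zariski ring maps compose. -/
theorem isIndZariski_trans (hAB : EtPBC.IsIndZariski A B) (hBC : EtPBC.IsIndZariski B C) :
    EtPBC.IsIndZariski A C := by
  obtain ⟨J, iJ, iF, D, c, hc, hD, ⟨e⟩⟩ := hAB
  letI algR : ∀ j, Algebra A (D.obj j).right := fun j => (D.obj j).hom.hom.toAlgebra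
  obtain ⟨ψ, H⟩ := exists_sys_of_isColimit D c hc e
  obtain ⟨J', iJ', iF', D', c', hc', hD', ⟨e'⟩⟩ := hBC
  letI algR' : ∀ j, Algebra B (D'.obj j).right := fun j => (D'.obj j).hom.hom.toAlgebra
  obtain ⟨ψ', H'⟩ := exists_sys_of_isColimit D' c' hc' e'
  letI algA' : ∀ j, Algebra A (D'.obj j).right := fun j =>
    ((algebraMap B (D'.obj j).right).comp (algebraMap A B)).toAlgebra
  haveI : ∀ j, IsScalarTower A B (D'.obj j).right := fun j =>
    IsScalarTower.of_algebraMap_eq (fun _ => rfl)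
  have H'' := Sys.restrict (A := A) H'
  refine Groth.Agent.H48.IndZar.isIndZariski_of_fact ?_
  intro P _ _ _ f
  obtain ⟨j, τ, hτ⟩ := Sys.exists_factor H'' P f
  haveI : Algebra.IsLocalIso B (D'.obj j).right := hD' j
  obtain ⟨E', i1, i2, i3, a, b, hab⟩ :=
    fact_of_localIso_over_sys (E := (D'.obj j).right) H hD P τ
  exact ⟨E', i1, i2, i3, a, ((ψ' j).restrictScalars A).comp b, by
    rw [AlgHom.comp_assoc, hab]; exact hτ⟩

end Trans

end Groth.Agent.H27.IndZarWit
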