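import Mathlib
import Groth.Prelude.Def_Tame
set_option autoImplicit false
set_option linter.style.haveILetI false
universe u
open IsLocalRing Pointwise

namespace Groth.Agent.H27.KatoHD

/-- For a finite module over a Noetherian ring: dimension at most zero implies finite length. -/
theorem isFiniteLength_of_supportDim_le_zero {R : Type u} [CommRing R] [IsNoetherianRing R]
    (N : Type u) [AddCommGroup N]
    [Module R N] [Module.Finite R N] (h : Module.supportDim R N ≤ 0) : IsFiniteLength R N := by
  rw [Module.supportDim_eq_ringKrullDim_quotient_annihilator] at h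
  letI : Module (R ⧸ Module.annihilator R N) N := Module.quotientAnnihilator
  haveI : IsScalarTower R (R ⧸ Module.annihilator R N) N := inferInstance
  haveI hfin : Module.Finite (R ⧸ Module.annihilator R N) N :=
    Module.Finite.of_restrictScalars_finite R _ _
  have hK : Ring.KrullDimLE 0 (R ⧸ Module.annihilator R N) :=
    Ring.krullDimLE_iff.mpr (by exact_mod_cast h)
  have hAR : IsArtinianRing (R ⧸ Module.annihilator R N) :=
    isArtinianRing_iff_krullDimLE_zero.mpr hK
  have h1 : IsArtinian (R ⧸ Module.annihilator R N) N := inferInstance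
  have h2 : IsArtinian R N :=
    isArtinian_of_surjective_algebraMap (R := R ⧸ Module.annihilator R N)
      Ideal.Quotient.mk_surjective
  exact isFiniteLength_iff_isNoetherian_isArtinian.mpr ⟨inferInstance, h2⟩

section Herb
variable (R : Type u) [CommRing R] [IsNoetherianRing R] [IsLocalRing R] (p : Ideal R) [p.IsPrime]

/-- (HD) -/
theorem length_perH_lt_top
    (hp : ∀ p' : Ideal R, p'.IsPrime → p < p' → p' = maximalIdeal R)
    (M : Type u) [AddCommGroup M] [Module R M] [Module.Finite R M]
    (hM : ∀ q ∈ Module.support R M, p ≤ q.asIdeal) (φ ψ : M →ₗ[R] M)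
    (h : ∀ z ∈ LinearMap.ker φ, ∃ s : R, s ∉ p ∧ s • z ∈ LinearMap.range ψ) :
    Module.length R (CycAlg.perH φ ψ) < ⊤ := by
  rw [lt_top_iff_ne_top, Module.length_ne_top_iff]
  apply isFiniteLength_of_supportDim_le_zero
  have hs : ∀ q ∈ Module.support R (CycAlg.perH φ ψ), q.asIdeal = maximalIdeal R := by
    intro q hq
    have h1 : q ∈ Module.support R M :=
      Module.support_subset_of_injective (LinearMap.ker φ).subtype (Submodule.subtype_injective _)
        (Module.support_subset_of_surjective (Submodule.mkQ _) (Submodule.mkQ_surjective _) hq)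
    have hle := hM q h1
    obtain ⟨m, hm⟩ := Module.mem_support_iff_exists_annihilator.mp hq
    obtain ⟨z, rfl⟩ := Submodule.Quotient.mk_surjective _ m
    obtain ⟨s, hs, hsz⟩ := h z.1 z.2
    have hsq : s ∈ q.asIdeal := by
      apply hm
      rw [Submodule.mem_annihilator_span_singleton, ← Submodule.Quotient.mk_smul,
        Submodule.Quotient.mk_eq_zero]
      exact hsz
    have hne : p ≠ q.asIdeal := fun h => hs (h ▸ hsq)
    exact hp _ q.2 (lt_of_le_of_ne hle hne)
  unfold Module.supportDim
  haveI : Subsingleton ↥(Module.support R (CycAlg.perH φ ψ)) := by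
    constructor
    rintro ⟨a, ha⟩ ⟨b, hb⟩
    apply Subtype.ext
    apply PrimeSpectrum.ext
    rw [hs a ha, hs b hb]
  exact Order.krullDim_nonpos_of_subsingleton

end Herb

end Groth.Agent.H27.KatoHD
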