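import Mathlib
import Groth.Prelude.Def_Tame
set_option autoImplicit false
universe u
open IsLocalRing Pointwise

namespace Groth.Agent.H27.KatoHE

section Herb
variable (R : Type u) [CommRing R] [IsNoetherianRing R] [IsLocalRing R] (p : Ideal R) [p.IsPrime]

/-- support of `M/xM` is inside the closed point. -/
theorem support_quot_smul_subset
    (hp : ∀ p' : Ideal R, p'.IsPrime → p < p' → p' = maximalIdeal R)
    (M : Type u) [AddCommGroup M] [Module R M] [Module.Finite R M]
    (hM : ∀ q ∈ Module.support R M, p ≤ q.asIdeal) (x : R) (hx : x ∉ p) :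
    ∀ q ∈ Module.support R (M ⧸ x • (⊤ : Submodule R M)), q.asIdeal = maximalIdeal R := by
  intro q hq
  have hq' : q ∈ Module.support R (QuotSMulTop x M) := hq
  rw [Module.support_quotSMulTop] at hq'
  obtain ⟨h1, h2⟩ := hq'
  rw [PrimeSpectrum.mem_zeroLocus, Set.singleton_subset_iff] at h2
  have hle := hM q h1
  have hlt : p < q.asIdeal := lt_of_le_of_ne hle (fun h => hx (h ▸ h2))
  exact hp _ q.2 hlt

/-- (HE) -/
theorem supportDim_quot_smul_le
    (hp : ∀ p' : Ideal R, p'.IsPrime → p < p' → p' = maximalIdeal R)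
    (M : Type u) [AddCommGroup M] [Module R M] [Module.Finite R M]
    (hM : ∀ q ∈ Module.support R M, p ≤ q.asIdeal) (x : R) (hx : x ∉ p) :
    Module.supportDim R (M ⧸ x • (⊤ : Submodule R M)) ≤ 0 := by
  have hs := support_quot_smul_subset R p hp M hM x hx
  unfold Module.supportDim
  haveI : Subsingleton ↥(Module.support R (M ⧸ x • (⊤ : Submodule R M))) := by
    constructor
    rintro ⟨a, ha⟩ ⟨b, hb⟩
    apply Subtype.ext
    apply PrimeSpectrum.ext
    rw [hs a ha, hs b hb]
  exact Order.krullDim_nonpos_of_subsingleton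

end Herb

end Groth.Agent.H27.KatoHE
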