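import Mathlib
import Groth.Prelude.Def_Tame
import Groth.Agent.S1833
import Groth.Agent.H27.KatoHE
import Groth.Agent.H27.KatoHD
set_option autoImplicit false
set_option linter.style.haveILetI false
universe u
open IsLocalRing Pointwise

namespace Groth.Agent.H27.KatoHB

section Herb
variable (R : Type u) [CommRing R] [IsNoetherianRing R] [IsLocalRing R] (p : Ideal R) [p.IsPrime]

omit [IsNoetherianRing R] [IsLocalRing R] in
theorem length_perH_zero {N : Type u} [AddCommGroup N] [Module R N] (x : R) :
    Module.length R (CycAlg.perH (0 : N →ₗ[R] N) (x • LinearMap.id)) =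
      Module.length R (N ⧸ x • (⊤ : Submodule R N)) := by
  have hk : LinearMap.ker (0 : N →ₗ[R] N) = ⊤ := LinearMap.ker_zero
  refine (Submodule.Quotient.equiv _ _ (LinearEquiv.ofTop _ hk) ?_).length_eq
  ext y
  constructor
  · rintro ⟨z, hz, rfl⟩
    obtain ⟨n, hn⟩ := hz
    have : (LinearEquiv.ofTop _ hk) z = x • n := by
      rw [LinearEquiv.ofTop_apply]
      simpa using hn.symm
    show (LinearEquiv.ofTop _ hk) z ∈ x • (⊤ : Submodule R N)
    rw [this]
    exact Submodule.smul_mem_pointwise_smul n x ⊤ trivial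
  · intro hy
    obtain ⟨n, -, rfl⟩ := (Submodule.mem_smul_pointwise_iff_exists _ _ _).1 hy
    refine ⟨⟨x • n, by rw [hk]; trivial⟩, ⟨n, by simp⟩, rfl⟩

omit [IsNoetherianRing R] [IsLocalRing R] in
theorem length_perH_smul_zero {N : Type u} [AddCommGroup N] [Module R N] (x : R) :
    Module.length R (CycAlg.perH (x • LinearMap.id : N →ₗ[R] N) 0) =
      Module.length R (LinearMap.ker (LinearMap.lsmul R N x)) := by
  have h1 : (LinearMap.range (0 : N →ₗ[R] N)).submoduleOf
      (LinearMap.ker (x • LinearMap.id : N →ₗ[R] N)) = ⊥ := by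
    rw [LinearMap.range_zero]
    ext z
    simp [Submodule.submoduleOf]
  have h2 : LinearMap.ker (x • LinearMap.id : N →ₗ[R] N) = LinearMap.ker (LinearMap.lsmul R N x) := by
    ext z
    simp
  exact ((Submodule.quotEquivOfEqBot _ h1).trans (LinearEquiv.ofEq _ _ h2)).length_eq

/-- (HB) -/
theorem herbrand_zero_smul
    (hp : ∀ p' : Ideal R, p'.IsPrime → p < p' → p' = maximalIdeal R) (hpm : p ≠ maximalIdeal R)
    (N : Type u) [AddCommGroup N] [Module R N] [Module.Finite R N]
    (hN : ∀ q ∈ Module.support R N, p ≤ q.asIdeal) (x : R) (hx : x ∉ p) :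
    CycAlg.FinCoh R (0 : N →ₗ[R] N) (x • LinearMap.id) ∧
    CycAlg.herbrand R (0 : N →ₗ[R] N) (x • LinearMap.id) =
      ((Ring.ord (R ⧸ p) (Ideal.Quotient.mk p x)).toNat : ℤ) *
        ((Module.length (Localization.AtPrime p) (LocalizedModule p.primeCompl N)).toNat : ℤ) := by
  classical
  have hfin1 : Module.length R (CycAlg.perH (0 : N →ₗ[R] N) (x • LinearMap.id)) < ⊤ :=
    KatoHD.length_perH_lt_top R p hp N hN 0 (x • LinearMap.id)
      (fun z _ => ⟨x, hx, ⟨z, by simp⟩⟩)
  have hfin2 : Module.length R (CycAlg.perH (x • LinearMap.id : N →ₗ[R] N) 0) < ⊤ :=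
    KatoHD.length_perH_lt_top R p hp N hN (x • LinearMap.id) 0 (fun z hz => ⟨x, hx, ⟨0, by
      rw [LinearMap.mem_ker] at hz
      simpa using hz.symm⟩⟩)
  refine ⟨⟨hfin1, hfin2⟩, ?_⟩
  have e1 := length_perH_zero R (N := N) x
  have e2 := length_perH_smul_zero R (N := N) x
  -- dimension hypotheses
  have h0 := KatoHE.supportDim_quot_smul_le R p hp N hN x hx
  have h1 : Module.supportDim R N ≤ 1 := by
    unfold Module.supportDim
    rw [Order.krullDim_le_one_iff]
    rintro ⟨q, hq⟩
    by_cases hqp : q.asIdeal = p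
    · left
      rintro ⟨q', hq'⟩ hle
      have h3 : q'.asIdeal ≤ q.asIdeal := hle
      have h4 : p ≤ q'.asIdeal := hN q' hq'
      have : q'.asIdeal = q.asIdeal := le_antisymm h3 (hqp ▸ h4)
      show q.asIdeal ≤ q'.asIdeal
      rw [this]
    · right
      have hqm : q.asIdeal = maximalIdeal R :=
        hp _ q.2 (lt_of_le_of_ne (hN q hq) (fun h => hqp h.symm))
      rintro ⟨q', hq'⟩ _
      show q'.asIdeal ≤ q.asIdeal
      rw [hqm]
      exact IsLocalRing.le_maximalIdeal q'.2.ne_top
  have key := Groth.Agent.S1833.result R N x h1 h0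
  -- the finite sum
  let P0 : PrimeSpectrum R := ⟨p, inferInstance⟩
  have hsum : (∑ᶠ (q : PrimeSpectrum R) (_ : q ∈ Module.support R N ∧
      q.asIdeal ≠ IsLocalRing.maximalIdeal R),
      Ring.ord (R ⧸ q.asIdeal) (Ideal.Quotient.mk q.asIdeal x) *
        Module.length (Localization.AtPrime q.asIdeal) (LocalizedModule q.asIdeal.primeCompl N)) =
      Ring.ord (R ⧸ p) (Ideal.Quotient.mk p x) *
        Module.length (Localization.AtPrime p) (LocalizedModule p.primeCompl N) := by
    rw [finsum_eq_single _ P0]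
    · rw [finsum_eq_if]
      split_ifs with hC
      · rfl
      · have hns : P0 ∉ Module.support R N := fun h => hC ⟨h, hpm⟩
        rw [Module.notMem_support_iff] at hns
        have : Module.length (Localization.AtPrime p) (LocalizedModule p.primeCompl N) = 0 := by
          haveI : Subsingleton (LocalizedModule p.primeCompl N) := hns
          exact Module.length_eq_zero
        rw [this, mul_zero]
    · intro q hq
      rw [finsum_eq_if, if_neg]
      rintro ⟨hqs, hqm⟩
      apply hq
      apply PrimeSpectrum.ext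
      show q.asIdeal = p
      by_contra hne
      exact hqm (hp _ q.2 (lt_of_le_of_ne (hN q hqs) (fun h => hne h.symm)))
  rw [hsum] at key
  unfold CycAlg.herbrand
  rw [e1, e2]
  rw [e1] at hfin1
  rw [e2] at hfin2
  set a := Module.length R (N ⧸ x • (⊤ : Submodule R N)) with ha
  set b := Module.length R (LinearMap.ker (LinearMap.lsmul R N x)) with hb
  set c1 := Ring.ord (R ⧸ p) (Ideal.Quotient.mk p x) with hc1
  set c2 := Module.length (Localization.AtPrime p) (LocalizedModule p.primeCompl N) with hc2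
  have hc : c1 * c2 ≠ ⊤ := by
    intro h
    rw [h, add_top] at key
    exact hfin1.ne key
  rw [key, ENat.toNat_add hfin2.ne hc, ENat.toNat_mul]
  push_cast
  ring

end Herb

end Groth.Agent.H27.KatoHB
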