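import Mathlib
import Groth.Prelude.Def_W4bk4goldsch45p2
import Groth.Agent.H27.LocDet

/-!
More valuation lemmas at a fixed place: units under a fixed point, Hasse derivatives of inverses.
-/

set_option autoImplicit false

namespace Groth.Agent.H27.LocDet

open FunFld WithZero Groth.Agent.H55 Groth.Agent.H27.Expn Groth.Agent.H27.LocOrd
open Groth.Agent.H27.Hasse

variable {k K : Type*} [Field k] [IsAlgClosed k] [Field K] [Algebra k K]
  (hK : IsFunctionField k K) (P : Place k K) {t : K} (ht : P.1 t = exp (-1 : ℤ))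

section Fixed

variable {τ : K →ₐ[k] K}

include hK in
theorem fix_unit (hP : IsFixedPt τ P) {w : K} (hw : P.1 w = 1) : P.1 (τ w) = 1 := by
  have hw0 : w ≠ 0 := by
    intro h
    rw [h, map_zero] at hw
    exact zero_ne_one hw
  have h1 := fix_int hK P hP hw.le
  have h2 : P.1 (τ w⁻¹) ≤ 1 := fix_int hK P hP (by rw [map_inv₀, hw, inv_one])
  rw [map_inv₀, map_inv₀] at h2
  have hne : P.1 (τ w) ≠ 0 := (Valuation.ne_zero_iff _).2 ((map_ne_zero τ).2 hw0)
  exact le_antisymm h1 ((inv_le_one₀ (zero_lt_iff.2 hne)).1 h2)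

include hK ht in
theorem fix_val (hP : IsFixedPt τ P) {y : K} {m : ℕ} (hy : P.1 y = exp (-(m : ℤ))) :
    P.1 (τ y) = P.1 (τ t) ^ m := by
  have ht0 := t_ne_zero ht
  have hw : P.1 (y / t ^ m) = 1 := by
    rw [map_div₀, map_pow, ht, hy, exp_neg_one_pow', div_self exp_ne_zero]
  have h2 : y = t ^ m * (y / t ^ m) := by
    rw [mul_div_cancel₀ _ (pow_ne_zero _ ht0)]
  conv_lhs => rw [h2]
  rw [map_mul, map_pow, map_mul, map_pow, fix_unit hK P hP hw, mul_one]

end Fixed

section HasseVal

variable {Ht : K →ₐ[k] PowerSeries K} (hHt : LocRes.IsHasseFamily t Ht)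

include hK ht hHt

/-- Hasse derivatives of the inverse of a function vanishing to order `m`: pole order at most
`m + i`. -/
theorem hasse_inv_val {y : K} {m : ℕ} (hy : P.1 y = exp (-(m : ℤ))) (i : ℕ) :
    P.1 (LocRes.hasseD Ht i y⁻¹) ≤ exp ((m : ℤ) + i) := by
  have hy0 : y ≠ 0 := by
    intro h
    rw [h, map_zero] at hy
    exact exp_ne_zero hy.symm
  induction i using Nat.strong_induction_on with
  | _ i ih =>
    rcases Nat.eq_zero_or_pos i with rfl | hi
    · rw [hasseD_zero hHt, map_inv₀, hy, ← exp_neg]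
      simp
    · have h1 : LocRes.hasseD Ht i (y * y⁻¹) = 0 := by
        rw [mul_inv_cancel₀ hy0]
        exact hasseD_one_pos Ht hi
      rw [hasseD_mul_range hHt] at h1
      have h2 : y * LocRes.hasseD Ht i y⁻¹ =
          -∑ b ∈ Finset.range i, LocRes.hasseD Ht (i - b) y * LocRes.hasseD Ht b y⁻¹ :=
        eq_neg_of_add_eq_zero_left h1
      have h3 : P.1 (y * LocRes.hasseD Ht i y⁻¹) ≤ exp (i : ℤ) := by
        rw [h2, Valuation.map_neg]
        apply Valuation.map_sum_le
        intro b hb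
        rw [map_mul]
        have hb' := Finset.mem_range.1 hb
        calc P.1 (LocRes.hasseD Ht (i - b) y) * P.1 (LocRes.hasseD Ht b y⁻¹)
            ≤ exp (-((m : ℤ) - (i - b : ℕ))) * exp ((m : ℤ) + b) :=
              mul_le_mul' (hasse_val hK P ht hHt hy.le (i - b)) (ih b hb')
          _ = exp (i : ℤ) := by
              rw [← exp_add]
              congr 1
              omega
      rw [map_mul, hy] at h3
      calc P.1 (LocRes.hasseD Ht i y⁻¹)
          = exp (m : ℤ) * (exp (-(m : ℤ)) * P.1 (LocRes.hasseD Ht i y⁻¹)) := by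
            rw [← mul_assoc, ← exp_add]
            simp
        _ ≤ exp (m : ℤ) * exp (i : ℤ) := mul_le_mul' le_rfl h3
        _ = exp ((m : ℤ) + i) := (exp_add _ _).symm

end HasseVal

end Groth.Agent.H27.LocDet
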