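import Mathlib
import Groth.Prelude.Def_W4bk4goldsch45p2
import Groth.Agent.H55.FFSing

/-!
Behaviour of the divisor of a projective map under equivalence `φ ↦ y · Aφ`.
-/

set_option autoImplicit false

namespace Groth.Agent.H27.MapDivInv

open FunFld WithZero Groth.Agent.H55

variable {k K : Type*} [Field k] [Field K] [Algebra k K]

section General

variable {ι : Type*} [Fintype ι] [Nonempty ι]

theorem val_le_of_mem_span (hK : IsFunctionField k K) (ψ : ι → K) (hψ0 : ∀ j, ψ j ≠ 0)
    (Q : Place k K) {f : K} (hf : f ∈ Submodule.span k (Set.range ψ)) :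
    Q.1 f ≤ exp (mapDiv k ψ Q) := by
  have h : Submodule.span k (Set.range ψ) ≤ L (mapDiv k ψ) :=
    Submodule.span_le.2 (by
      rintro _ ⟨i, rfl⟩
      exact mem_L_mapDiv hK ψ hψ0 i)
  exact h hf Q

theorem mapDiv_le_of_span (hK : IsFunctionField k K) (ψ ψ' : ι → K) (hψ0 : ∀ j, ψ j ≠ 0)
    (hψ'0 : ∀ j, ψ' j ≠ 0) (h : ∀ i, ψ' i ∈ Submodule.span k (Set.range ψ)) (Q : Place k K) :
    mapDiv k ψ' Q ≤ mapDiv k ψ Q := by
  obtain ⟨j, -, hj⟩ := Finset.exists_max_image Finset.univ (fun i => Q.1 (ψ' i))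
    Finset.univ_nonempty
  have h1 := val_eq_exp_mapDiv hK ψ' hψ'0 Q j (fun i => hj i (Finset.mem_univ _))
  have h2 := val_le_of_mem_span hK ψ hψ0 Q (h j)
  rw [h1, exp_le_exp] at h2
  exact h2

theorem mapDiv_mul_left (hK : IsFunctionField k K) (ψ : ι → K) (hψ0 : ∀ j, ψ j ≠ 0) {y : K}
    (hy : y ≠ 0) (Q : Place k K) :
    mapDiv k (fun i => y * ψ i) Q = mapDiv k ψ Q - Q.ord y := by
  obtain ⟨j, -, hj⟩ := Finset.exists_max_image Finset.univ (fun i => Q.1 (ψ i))
    Finset.univ_nonempty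
  have h1 := val_eq_exp_mapDiv hK ψ hψ0 Q j (fun i => hj i (Finset.mem_univ _))
  have h2 := val_eq_exp_mapDiv hK (fun i => y * ψ i) (fun i => mul_ne_zero hy (hψ0 i)) Q j
    (fun i => by
      simp only [map_mul]
      exact mul_le_mul' le_rfl (hj i (Finset.mem_univ _)))
  simp only [map_mul] at h2
  rw [h1, pl_val_eq_exp_neg_ord Q hy, ← exp_add, exp_inj] at h2
  omega

end General

section Matrix

variable {n : ℕ}

theorem linearIndependent_matrix_apply (φ : Fin (n + 1) → K) (hφ : LinearIndependent k φ)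
    (A : Matrix (Fin (n + 1)) (Fin (n + 1)) k) (hA : A.det ≠ 0) :
    LinearIndependent k (fun i => ∑ j, A i j • φ j) := by
  rw [Fintype.linearIndependent_iff]
  intro c hc
  have h1 : ∑ j, (∑ i, c i * A i j) • φ j = 0 := by
    rw [← hc]
    simp_rw [Finset.sum_smul, Finset.smul_sum, smul_smul]
    exact Finset.sum_comm
  have h2 := Fintype.linearIndependent_iff.1 hφ _ h1
  have h3 : Matrix.vecMul c A = 0 := by
    ext j
    simpa [Matrix.vecMul, dotProduct] using h2 j
  have h4 := Matrix.eq_zero_of_vecMul_eq_zero hA h3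
  intro i
  exact congrFun h4 i

theorem span_matrix_apply (φ : Fin (n + 1) → K) (hφ : LinearIndependent k φ)
    (A : Matrix (Fin (n + 1)) (Fin (n + 1)) k) (hA : A.det ≠ 0) :
    Submodule.span k (Set.range fun i => ∑ j, A i j • φ j) = Submodule.span k (Set.range φ) := by
  have hle : Submodule.span k (Set.range fun i => ∑ j, A i j • φ j) ≤
      Submodule.span k (Set.range φ) := by
    rw [Submodule.span_le]
    rintro _ ⟨i, rfl⟩
    exact Submodule.sum_mem _ (fun j _ =>
      Submodule.smul_mem _ _ (Submodule.subset_span ⟨j, rfl⟩))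
  haveI : FiniteDimensional k (Submodule.span k (Set.range φ)) :=
    FiniteDimensional.span_of_finite k (Set.finite_range φ)
  apply Submodule.eq_of_le_of_finrank_eq hle
  rw [finrank_span_eq_card hφ, finrank_span_eq_card (linearIndependent_matrix_apply φ hφ A hA)]

/-- The divisor of `y · Aφ` is that of `φ` minus the divisor of `y`. -/
theorem mapDiv_equiv (hK : IsFunctionField k K) (φ : Fin (n + 1) → K)
    (hφ : LinearIndependent k φ) (A : Matrix (Fin (n + 1)) (Fin (n + 1)) k) (hA : A.det ≠ 0)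
    {y : K} (hy : y ≠ 0) (φ' : Fin (n + 1) → K) (hφ' : ∀ i, φ' i = y * ∑ j, A i j • φ j)
    (Q : Place k K) : mapDiv k φ' Q = mapDiv k φ Q - Q.ord y := by
  have hli := linearIndependent_matrix_apply φ hφ A hA
  have hsp := span_matrix_apply φ hφ A hA
  have h0 : ∀ j, φ j ≠ 0 := fun j => hφ.ne_zero j
  have h0' : ∀ i, (∑ j, A i j • φ j) ≠ 0 := fun i => hli.ne_zero i
  have e1 : φ' = fun i => y * ∑ j, A i j • φ j := funext hφ'
  rw [e1, mapDiv_mul_left hK _ h0' hy Q]
  congr 1
  apply le_antisymm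
  · exact mapDiv_le_of_span hK φ _ h0 h0' (fun i => by
      rw [← hsp]
      exact Submodule.subset_span ⟨i, rfl⟩) Q
  · exact mapDiv_le_of_span hK _ φ h0' h0 (fun j => by
      rw [hsp]
      exact Submodule.subset_span ⟨j, rfl⟩) Q

end Matrix

end Groth.Agent.H27.MapDivInv
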