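import Mathlib
import Groth.Prelude.Def_QCohCat
import Groth.Prelude.Def_Coh
import Groth.Agent.H22.QCohLimits
import Groth.Agent.H8.CohAffine
import Groth.Agent.H8.IsoCover
import Groth.Agent.H8.SectionsExact
set_option autoImplicit false
set_option linter.style.haveILetI false
universe u
open CategoryTheory CategoryTheory.Limits AlgebraicGeometry TopologicalSpace Opposite

namespace Groth.Agent.H27.NoethObj_N1b

/-- (N1a), local copy: a monomorphism of `QCoh Y` is a monomorphism of `Y.Modules`. -/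
theorem mono_hom_of_mono {Y : Scheme.{u}} {A B : QCohCat.QCoh Y} (f : A ⟶ B) [Mono f] :
    Mono f.hom := by
  haveI : A.obj.IsQuasicoherent := A.property
  haveI : B.obj.IsQuasicoherent := B.property
  have hK : (kernel f.hom).IsQuasicoherent := Groth.Agent.H22.QCohLimits.isQuasicoherent_kernel f.hom
  let K : QCohCat.QCoh Y := ⟨kernel f.hom, hK⟩
  let k : K ⟶ A := ObjectProperty.homMk (kernel.ι f.hom)
  have hk : k ≫ f = 0 ≫ f := by
    ext1
    simp [k]
  have hk0 : k = 0 := (cancel_mono f).mp hk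
  have : kernel.ι f.hom = 0 := congrArg (fun g => g.hom) hk0
  exact Preadditive.mono_of_kernel_zero this

/-- the submodule of sections in the image of a morphism. -/
def secRange {Y : Scheme.{u}} {A B : Y.Modules} (φ : A ⟶ B) (V : Y.Opens) :
    Submodule Γ(Y, V) Γ(B, V) where
  carrier := Set.range (φ.app V)
  add_mem' := by
    rintro _ _ ⟨a, rfl⟩ ⟨b, rfl⟩
    exact ⟨a + b, map_add _ _ _⟩
  zero_mem' := ⟨0, map_zero _⟩
  smul_mem' := by
    rintro r _ ⟨a, rfl⟩
    exact ⟨r • a, φ.app_smul r a⟩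

theorem secRange_mono {Y : Scheme.{u}} {A A' B : Y.Modules} (φ : A ⟶ B) (φ' : A' ⟶ B)
    (g : A ⟶ A') (hg : g ≫ φ' = φ) (V : Y.Opens) : secRange φ V ≤ secRange φ' V := by
  rintro _ ⟨a, rfl⟩
  refine ⟨g.app V a, ?_⟩
  rw [← hg]
  rfl

theorem ofLE_hom {Y : Scheme.{u}} {M : QCohCat.QCoh Y} (P Q : Subobject M) (h : P ≤ Q) :
    (Subobject.ofLE P Q h).hom ≫ Q.arrow.hom = P.arrow.hom := by
  have := congrArg (fun g => g.hom) (Subobject.ofLE_arrow h)
  exact this

/-- (N1b) -/
theorem noeth_of_coh (Y : Scheme.{u}) [IsNoetherian Y] (M : QCohCat.QCoh Y) (h : Coh.IsCoh M.obj) : IsNoetherianObject M := by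
  rw [isNoetherianObject_iff_monotone_chain_condition]
  intro f
  haveI : M.obj.IsQuasicoherent := M.property
  haveI : SheafOfModules.IsFiniteType (R := Y.ringCatSheaf) M.obj := h.2
  have key : ∀ V : Y.affineOpens, ∃ n, ∀ m, n ≤ m →
      secRange (f n).arrow.hom V.1 = secRange (f m).arrow.hom V.1 := by
    intro V
    haveI : IsNoetherianRing Γ(Y, V.1) := IsLocallyNoetherian.component_noetherian V
    haveI : Module.Finite Γ(Y, V.1) Γ(M.obj, V.1) :=
      Groth.Agent.H8.finite_sections_of_isAffineOpen M.obj V.2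
    haveI : IsNoetherian Γ(Y, V.1) Γ(M.obj, V.1) := isNoetherian_of_isNoetherianRing_of_finite _ _
    exact monotone_stabilizes_iff_noetherian.mpr inferInstance
      ⟨fun k => secRange (f k).arrow.hom V.1, fun a b hab =>
        secRange_mono _ _ (Subobject.ofLE (f a) (f b) (f.monotone hab)).hom
          (ofLE_hom _ _ _) V.1⟩
  choose nV hnV using key
  -- finite affine cover
  obtain ⟨t, ht⟩ := isCompact_univ.elim_finite_subcover
    (fun U : Y.affineOpens => ((U.1 : Y.Opens) : Set Y)) (fun U => U.1.isOpen) (by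
      intro x _
      have hx : x ∈ (⊤ : Y.Opens) := trivial
      rw [← iSup_affineOpens_eq_top Y] at hx
      obtain ⟨U, hU⟩ := Opens.mem_iSup.mp hx
      exact Set.mem_iUnion.mpr ⟨U, hU⟩)
  refine ⟨t.sup nV, fun m hm => ?_⟩
  set n := t.sup nV with hn
  have hle : f n ≤ f m := f.monotone hm
  let g := Subobject.ofLE (f n) (f m) hle
  have hg : g.hom ≫ (f m).arrow.hom = (f n).arrow.hom := ofLE_hom _ _ _
  haveI : Mono (f m).arrow.hom := mono_hom_of_mono (f m).arrow
  haveI : Mono (f n).arrow.hom := mono_hom_of_mono (f n).arrow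
  haveI : ((f n : QCohCat.QCoh Y)).obj.IsQuasicoherent := (f n : QCohCat.QCoh Y).property
  haveI : ((f m : QCohCat.QCoh Y)).obj.IsQuasicoherent := (f m : QCohCat.QCoh Y).property
  have hiso : IsIso g.hom := by
    refine Groth.Agent.H8.isIso_of_bijective_affine_cover g.hom (ι := ↥t) (fun U => U.1.1) ?_
      (fun U => U.1.2) ?_
    · change (⨆ U : ↥t, (U.1.1 : Y.Opens)) = ⊤
      rw [eq_top_iff]
      rintro x -
      obtain ⟨U, hU⟩ := Set.mem_iUnion.mp (ht (Set.mem_univ x))
      obtain ⟨hUt, hxU⟩ := Set.mem_iUnion.mp hU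
      exact Opens.mem_iSup.mpr ⟨⟨U, hUt⟩, hxU⟩
    · rintro ⟨U, hUt⟩
      have hS : secRange (f n).arrow.hom U.1 = secRange (f m).arrow.hom U.1 := by
        have h1 : nV U ≤ n := Finset.le_sup (f := nV) hUt
        rw [← hnV U n h1, ← hnV U m (h1.trans hm)]
      have hinj_m := Groth.Agent.H8.app_injective_of_mono (f m).arrow.hom U.1
      have hinj_n := Groth.Agent.H8.app_injective_of_mono (f n).arrow.hom U.1
      have hcomp : ∀ x, (f m).arrow.hom.app U.1 (g.hom.app U.1 x) = (f n).arrow.hom.app U.1 x := by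
        intro x
        rw [← hg]
        rfl
      constructor
      · intro x y hxy
        apply hinj_n
        rw [← hcomp, ← hcomp, hxy]
      · intro y
        have hy : (f m).arrow.hom.app U.1 y ∈ secRange (f n).arrow.hom U.1 := by
          rw [hS]
          exact ⟨y, rfl⟩
        obtain ⟨x, hx⟩ := hy
        refine ⟨x, hinj_m ?_⟩
        rw [hcomp]
        exact hx
  haveI : IsIso g := by
    haveI : IsIso ((QCohCat.isQCoh Y).ι.map g) := hiso
    exact isIso_of_reflects_iso g (QCohCat.isQCoh Y).ι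
  refine le_antisymm hle ?_
  refine Subobject.le_of_comm (inv g) ?_
  rw [IsIso.inv_comp_eq]
  exact (Subobject.ofLE_arrow hle).symm

end Groth.Agent.H27.NoethObj_N1b
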