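import Mathlib
import Groth.Prelude.Def_Curves
import Groth.Agent.S0210
import Groth.Agent.S0213

/-!
# Norms in finite extensions of `C_1` fields; the kernel of the norm (Hilbert 90 for all finite
Galois extensions whose intermediate norms are surjective)
-/

set_option autoImplicit false

namespace Groth.Agent.H27.NormC1

open MvPolynomial

universe u

theorem isCr_of_isCi {K : Type*} [Field K] (h : Curves.IsCi K 1) : Curves.IsCr K 1 := by
  intro n d f hf hd hlt
  obtain ⟨a, ha0, ha⟩ := h 1 n (fun _ => f) (fun _ => d) (fun _ => hf) (fun _ => hd)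
    (by simpa using hlt)
  exact ⟨a, ha0, ha 0⟩

/-- The norm of a finite extension of a `C_1` field is surjective. -/
theorem norm_surjective_of_isCr {K : Type*} [Field K] {L : Type*} [Field L] [Algebra K L]
    [FiniteDimensional K L] (hK : Curves.IsCr K 1) :
    Function.Surjective (Algebra.norm K : L → K) := by
  classical
  intro a
  let κ := Module.Free.ChooseBasisIndex K L
  let b : Module.Basis κ K L := Module.Free.chooseBasis K L
  have hκ : 0 < Fintype.card κ := by
    have : Nonempty κ := b.index_nonempty
    exact Fintype.card_pos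
  let M : Matrix κ κ (MvPolynomial (Option κ) K) :=
    ∑ l, (X (some l) : MvPolynomial (Option κ) K) • (Algebra.leftMulMatrix b (b l)).map C
  have hM : ∀ s t, (M s t).IsHomogeneous 1 := by
    intro s t
    simp only [M, Matrix.sum_apply, Matrix.smul_apply, Matrix.map_apply, smul_eq_mul]
    apply IsHomogeneous.sum
    intro l _
    have := (isHomogeneous_X K (some l : Option κ)).mul
      (isHomogeneous_C (Option κ) (Algebra.leftMulMatrix b (b l) s t))
    simpa using this
  have hdet := Groth.Agent.S0213.isHomogeneous_det M 1 hM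
  rw [mul_one] at hdet
  let F : MvPolynomial (Option κ) K := M.det - C a * X none ^ (Fintype.card κ)
  have hF : F.IsHomogeneous (Fintype.card κ) := by
    apply IsHomogeneous.sub hdet
    have := (isHomogeneous_C (Option κ) a).mul
      ((isHomogeneous_X K (none : Option κ)).pow (Fintype.card κ))
    simpa using this
  obtain ⟨y, hy0, hy⟩ := Groth.Agent.S0213.isCr_fintype hK F (Fintype.card κ) hF hκ
    (by rw [pow_one, Fintype.card_option]; exact Nat.lt_succ_self _)
  set x : L := ∑ l, y (some l) • b l with hx
  have hev : eval y M.det = Algebra.norm K x := by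
    rw [Algebra.norm_eq_matrix_det b, RingHom.map_det, hx, map_sum]
    congr 1
    ext s t
    simp only [map_sum, RingHom.mapMatrix_apply, Matrix.map_apply, Matrix.sum_apply,
      Matrix.smul_apply, smul_eq_mul, map_mul, eval_C, eval_X, map_smul]
  have hnorm : Algebra.norm K x = a * y none ^ (Fintype.card κ) := by
    have := hy
    simp only [F, map_sub, map_mul, eval_C, map_pow, eval_X] at this
    rw [← hev]; exact sub_eq_zero.mp this
  by_cases hyn : y none = 0
  · exfalso
    rw [hyn, zero_pow hκ.ne', mul_zero] at hnorm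
    have hx0 : x = 0 := Algebra.norm_eq_zero_iff.mp hnorm
    apply hy0
    funext o
    cases o with
    | none => exact hyn
    | some l =>
      exact Fintype.linearIndependent_iff.mp b.linearIndependent (fun l => y (some l)) hx0 l
  · refine ⟨algebraMap K L (y none)⁻¹ * x, ?_⟩
    rw [map_mul, Algebra.norm_algebraMap, hnorm, Module.finrank_eq_card_chooseBasisIndex]
    have hne : y none ^ Fintype.card κ ≠ 0 := pow_ne_zero _ hyn
    show (y none)⁻¹ ^ Fintype.card κ * (a * y none ^ Fintype.card κ) = a
    rw [inv_pow, mul_comm a, ← mul_assoc, inv_mul_cancel₀ hne, one_mul]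

section H90

variable {L : Type u} [Field L]

/-- The action of a group element on units. -/
noncomputable def actU {G : Type*} [Group G] [MulSemiringAction G L] (g : G) : Lˣ →* Lˣ :=
  Units.map (MulDistribMulAction.toMonoidHom L g)

@[simp] theorem actU_val {G : Type*} [Group G] [MulSemiringAction G L] (g : G) (u : Lˣ) :
    ((actU g u : Lˣ) : L) = g • (u : L) := rfl

variable (L) in
/-- The generators `w / g w`. -/
def DSet (G : Type*) [Group G] [MulSemiringAction G L] : Set Lˣ :=
  {v | ∃ (w : Lˣ) (g : G), (v : L) = (w : L) / g • (w : L)}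

variable (L) in
/-- The subgroup generated by the `w / g w`. -/
def D (G : Type*) [Group G] [MulSemiringAction G L] : Subgroup Lˣ :=
  Subgroup.closure (DSet L G)

theorem div_actU_mem {G : Type*} [Group G] [MulSemiringAction G L] (g : G) (w : Lˣ) :
    w / actU g w ∈ D L G :=
  Subgroup.subset_closure ⟨w, g, by rw [Units.val_div_eq_div_val, actU_val]⟩

theorem D_subgroup_le {G : Type*} [Group G] [MulSemiringAction G L] (N : Subgroup G) :
    D L N ≤ D L G :=
  Subgroup.closure_mono (fun _ ⟨w, g, h⟩ => ⟨w, (g : G), h⟩)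

theorem exists_theta {G : Type*} [Group G] [Fintype G] [MulSemiringAction G L] [FaithfulSMul G L]
    (N : Subgroup G) [hN : N.Normal] [Fintype N] (σ : G) (p : ℕ) (hσp : σ ^ p ∈ N)
    (hbij : Function.Bijective (fun x : Fin p × N => σ ^ (x.1 : ℕ) * (x.2 : G)))
    (u : L) (hu0 : u ≠ 0) (hu : ∏ g : G, g • u = 1) :
    ∃ θ : L, θ ≠ 0 ∧ (∀ h : N, h • θ = θ) ∧ (∏ h : N, h • u) = θ / σ • θ := by
  classical
  set v : L := ∏ h : N, h • u with hv
  have hv0 : v ≠ 0 := Finset.prod_ne_zero_iff.mpr (fun h _ => (smul_ne_zero_iff_ne h).mpr hu0)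
  have hvN : ∀ h : N, h • v = v := by
    intro h
    rw [hv, Finset.smul_prod']
    refine Fintype.prod_equiv (Equiv.mulLeft h) _ _ (fun h' => ?_)
    rw [Equiv.coe_mulLeft, mul_smul]
  have hfix : ∀ c : L, (∀ h : N, h • c = c) → ∀ (g : G) (h : N), h • (g • c) = g • c := by
    intro c hc g h
    have hmem : g⁻¹ * (h : G) * g ∈ N := by
      have := hN.conj_mem (h : G) h.2 g⁻¹
      simpa using this
    have h1 : (h : G) * g = g * (g⁻¹ * (h : G) * g) := by group
    calc h • (g • c) = ((h : G) * g) • c := by rw [mul_smul]; rfl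
      _ = g • ((⟨g⁻¹ * (h : G) * g, hmem⟩ : N) • c) := by rw [h1, mul_smul]; rfl
      _ = g • c := by rw [hc]
  let a : ℕ → L := fun i => ∏ j ∈ Finset.range i, σ ^ j • v
  have ha0 : a 0 = 1 := Finset.prod_range_zero _
  have ha_ne : ∀ i, a i ≠ 0 := fun i =>
    Finset.prod_ne_zero_iff.mpr (fun j _ => (smul_ne_zero_iff_ne _).mpr hv0)
  have ha_succ : ∀ i, a (i + 1) = v * σ • a i := by
    intro i
    simp only [a]
    rw [Finset.prod_range_succ', pow_zero, one_smul, mul_comm, Finset.smul_prod']
    congr 1
    refine Finset.prod_congr rfl (fun j _ => ?_)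
    rw [pow_succ', mul_smul]
  have haN : ∀ i (h : N), h • a i = a i := by
    intro i h
    simp only [a]
    rw [Finset.smul_prod']
    exact Finset.prod_congr rfl (fun j _ => hfix v hvN _ h)
  have hap : a p = 1 := by
    rw [← hu]
    simp only [a, hv]
    rw [Finset.prod_range (fun j => σ ^ j • ∏ h : N, h • u)]
    rw [← Fintype.prod_bijective _ hbij (fun x => (σ ^ (x.1 : ℕ) * (x.2 : G)) • u)
      (fun g => g • u) (fun _ => rfl)]
    rw [Fintype.prod_prod_type]
    refine Finset.prod_congr rfl (fun i _ => ?_)
    rw [Finset.smul_prod']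
    refine Finset.prod_congr rfl (fun h _ => ?_)
    rw [mul_smul]; rfl
  let cc : L → L := fun x => ∑ h : N, h • x
  have hccN : ∀ x (h : N), h • cc x = cc x := by
    intro x h
    simp only [cc]
    rw [Finset.smul_sum]
    refine Fintype.sum_equiv (Equiv.mulLeft h) _ _ (fun h' => ?_)
    rw [Equiv.coe_mulLeft, mul_smul]
  let θ : L → L := fun x => ∑ i ∈ Finset.range p, a i * σ ^ i • cc x
  have hθ_ne : ∃ x, θ x ≠ 0 := by
    by_contra hcon
    push Not at hcon
    let e : Fin p × N ≃ G := Equiv.ofBijective _ hbij
    let ι : G → (L →* L) := fun g => MulDistribMulAction.toMonoidHom L g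
    have hι : Function.Injective ι := by
      intro g g' h
      apply eq_of_smul_eq_smul (α := L)
      intro y
      exact DFunLike.congr_fun h y
    have hli : LinearIndependent L (fun g : G => ((ι g : L →* L) : L → L)) :=
      (linearIndependent_monoidHom L L).comp ι hι
    let c : G → L := fun g => a ((e.symm g).1 : ℕ)
    have hsum : ∑ g : G, c g • ((ι g : L →* L) : L → L) = 0 := by
      funext x
      simp only [Finset.sum_apply, Pi.smul_apply, smul_eq_mul, Pi.zero_apply]
      rw [← hcon x]
      rw [← Equiv.sum_comp e (fun g => c g * (ι g) x)]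
      rw [Fintype.sum_prod_type]
      simp only [θ]
      rw [Finset.sum_range (fun i => a i * σ ^ i • cc x)]
      refine Finset.sum_congr rfl (fun i _ => ?_)
      simp only [cc]
      rw [Finset.smul_sum, Finset.mul_sum]
      refine Finset.sum_congr rfl (fun h _ => ?_)
      have hc : c (e (i, h)) = a i := by simp only [c, Equiv.symm_apply_apply]
      rw [hc]
      show a i * ((σ ^ (i : ℕ) * (h : G)) • x) = a i * σ ^ (i : ℕ) • (h • x)
      rw [mul_smul]; rfl
    have := Fintype.linearIndependent_iff.mp hli c hsum 1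
    exact ha_ne _ this
  obtain ⟨x, hx⟩ := hθ_ne
  refine ⟨θ x, hx, ?_, ?_⟩
  · intro h
    simp only [θ]
    rw [Finset.smul_sum]
    refine Finset.sum_congr rfl (fun i _ => ?_)
    rw [smul_mul', haN, hfix (cc x) (hccN x)]
  · have hσθ : v * σ • θ x = θ x := by
      simp only [θ]
      rw [Finset.smul_sum, Finset.mul_sum]
      have h1 : ∀ i ∈ Finset.range p,
          v * σ • (a i * σ ^ i • cc x) = a (i + 1) * σ ^ (i + 1) • cc x := by
        intro i _
        rw [smul_mul', ha_succ, pow_succ', mul_smul, mul_assoc]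
      rw [Finset.sum_congr rfl h1]
      have h2 := Finset.sum_range_succ' (fun i => a i * σ ^ i • cc x) p
      have h3 := Finset.sum_range_succ (fun i => a i * σ ^ i • cc x) p
      have h4 : a p * σ ^ p • cc x = a 0 * σ ^ 0 • cc x := by
        rw [hap, ha0, pow_zero, one_smul]
        congr 1
        exact hccN x ⟨σ ^ p, hσp⟩
      have := h2.symm.trans h3
      rw [h4] at this
      exact add_right_cancel this
    have hσθ0 : σ • θ x ≠ 0 := (smul_ne_zero_iff_ne σ).mpr hx
    rw [eq_div_iff hσθ0]; exact hσθ

end H90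

end Groth.Agent.H27.NormC1
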