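import Mathlib
import Groth.Agent.H27.NormC1

/-!
# The kernel of the norm: induction over `p`-groups and Sylow transfer
-/

set_option autoImplicit false

namespace Groth.Agent.H27.NormC1

universe u

variable {L : Type u} [Field L]

/-- Norm surjectivity for all `K`-linear faithful finite group actions on `L`. -/
def NS (K : Type u) (L : Type u) [Field K] [Field L] [Algebra K L] : Prop :=
  ∀ (G : Type u) [Group G] [Fintype G] [MulSemiringAction G L] [FaithfulSMul G L]
    [SMulCommClass G K L] (x : L), x ≠ 0 → (∀ g : G, g • x = x) → ∃ w : L, ∏ g : G, g • w = x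

theorem pgroup_case {K : Type u} [Field K] [Algebra K L] (hNS : NS K L) (p : ℕ) [hp : Fact p.Prime] :
    ∀ (m : ℕ) (G : Type u) [Group G] [Fintype G] [MulSemiringAction G L] [FaithfulSMul G L]
      [SMulCommClass G K L], Nat.card G = p ^ m →
      ∀ u : Lˣ, ∏ g : G, g • (u : L) = 1 → u ∈ D L G := by
  intro m
  induction m with
  | zero =>
    intro G _ _ _ _ _ hG u hu
    rw [pow_zero, Nat.card_eq_one_iff_unique] at hG
    obtain ⟨hsub, -⟩ := hG
    rw [Fintype.prod_subsingleton _ (1 : G), one_smul] at hu
    have : u = 1 := Units.ext hu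
    rw [this]
    exact one_mem _
  | succ m ih =>
    intro G _ _ _ _ _ hG u hu
    classical
    obtain ⟨N, hN⟩ := Sylow.exists_subgroup_card_pow_prime (G := G) p (n := m)
      (by rw [hG]; exact pow_dvd_pow p (Nat.le_succ m))
    have hidx : N.index = p := by
      have h1 := N.card_mul_index
      rw [hN, hG, pow_succ] at h1
      exact Nat.eq_of_mul_eq_mul_left (pow_pos hp.out.pos m) h1
    haveI : N.Normal := Subgroup.normal_of_index_eq_minFac_card (by
      rw [hidx, hG, Nat.pow_minFac (Nat.succ_ne_zero m), hp.out.minFac_eq])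
    obtain ⟨σ, hσ⟩ : ∃ σ : G, σ ∉ N := by
      by_contra hcon
      push Not at hcon
      have htop : N = ⊤ := (Subgroup.eq_top_iff' N).mpr hcon
      rw [htop, Subgroup.index_top] at hidx
      exact hp.out.one_lt.ne hidx
    have hcardQ : Nat.card (G ⧸ N) = p := by rw [← Subgroup.index_eq_card]; exact hidx
    have hσp : σ ^ p ∈ N := by
      rw [← QuotientGroup.eq_one_iff, QuotientGroup.mk_pow, ← hcardQ]
      exact pow_card_eq_one'
    have hord : orderOf (QuotientGroup.mk σ : G ⧸ N) = p := by
      apply orderOf_eq_prime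
      · rw [← QuotientGroup.mk_pow]; exact (QuotientGroup.eq_one_iff _).mpr hσp
      · intro h; exact hσ ((QuotientGroup.eq_one_iff _).mp h)
    have hbij : Function.Bijective (fun x : Fin p × N => σ ^ (x.1 : ℕ) * (x.2 : G)) := by
      rw [Fintype.bijective_iff_injective_and_card]
      refine ⟨?_, ?_⟩
      · rintro ⟨i, h⟩ ⟨j, h'⟩ hij
        simp only at hij
        have hq : (QuotientGroup.mk σ : G ⧸ N) ^ (i : ℕ) = (QuotientGroup.mk σ : G ⧸ N) ^ (j : ℕ) := by
          have := congrArg (QuotientGroup.mk : G → G ⧸ N) hij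
          simpa using this
        have hij' : (i : ℕ) = j := by
          apply pow_injOn_Iio_orderOf (x := (QuotientGroup.mk σ : G ⧸ N))
          · rw [hord]; exact i.2
          · rw [hord]; exact j.2
          · exact hq
        have hi : i = j := Fin.ext hij'
        subst hi
        have := mul_left_cancel hij
        rw [Prod.mk.injEq]
        exact ⟨rfl, Subtype.ext this⟩
      · rw [Fintype.card_prod, Fintype.card_fin, ← Nat.card_eq_fintype_card (α := N),
          ← Nat.card_eq_fintype_card (α := G), hN, hG, pow_succ, mul_comm]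
    obtain ⟨θ, hθ0, hθN, hθ⟩ := exists_theta N σ p hσp hbij (u : L) u.ne_zero hu
    obtain ⟨w, hw⟩ := hNS N θ hθ0 hθN
    have hw0 : w ≠ 0 := by
      rintro rfl
      apply hθ0
      rw [← hw]
      have : Nonempty N := ⟨1⟩
      exact Finset.prod_eq_zero (Finset.mem_univ (1 : N)) (smul_zero _)
    let wu : Lˣ := Units.mk0 w hw0
    have hσw : ∏ h : N, h • (σ • w) = σ • θ := by
      rw [← hw, Finset.smul_prod']
      refine (Fintype.prod_equiv (MulAut.conjNormal σ : N ≃* N).toEquiv _ _ (fun h => ?_)).symm
      show σ • (h • w) = ((MulAut.conjNormal σ h : N) : G) • (σ • w)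
      rw [MulAut.conjNormal_apply, ← mul_smul, inv_mul_cancel_right, mul_smul]
      rfl
    have hσθ0 : σ • θ ≠ 0 := (smul_ne_zero_iff_ne σ).mpr hθ0
    have hu' : ∏ h : N, h • ((u * actU σ wu / wu : Lˣ) : L) = 1 := by
      have : ∀ h : N, h • ((u * actU σ wu / wu : Lˣ) : L) =
          (h • (u : L)) * (h • (σ • w)) / (h • w) := by
        intro h
        rw [Units.val_div_eq_div_val, Units.val_mul, actU_val, smul_div₀', smul_mul']
        rfl
      simp_rw [this]
      rw [Finset.prod_div_distrib, Finset.prod_mul_distrib, hσw, hw, hθ]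
      field_simp
    have hmem := D_subgroup_le N (ih N hN _ hu')
    have : u = (u * actU σ wu / wu) * (wu / actU σ wu) := by
      rw [div_mul_div_comm, mul_comm wu, mul_assoc, mul_div_assoc, div_self', mul_one]
    rw [this]
    exact mul_mem hmem (div_actU_mem σ wu)

theorem general_case {K : Type u} [Field K] [Algebra K L] (hNS : NS K L)
    (G : Type u) [Group G] [Fintype G] [MulSemiringAction G L] [FaithfulSMul G L]
    [SMulCommClass G K L] (u : Lˣ) (hu : ∏ g : G, g • (u : L) = 1) : u ∈ D L G := by
  classical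
  have key : ∀ p : ℕ, p.Prime → ∃ n : ℕ, ¬ p ∣ n ∧ u ^ n ∈ D L G := by
    intro p hp
    haveI := Fact.mk hp
    let P : Sylow p G := default
    obtain ⟨T, hT, -⟩ := Subgroup.exists_isComplement_right (P : Subgroup G) 1
    haveI : Fintype T := Fintype.ofFinite _
    refine ⟨Fintype.card T, ?_, ?_⟩
    · have h1 := hT.card_right
      rw [Nat.card_eq_fintype_card] at h1
      rw [h1]
      exact P.not_dvd_index
    · let u' : Lˣ := ∏ t : T, actU (t : G) u
      have hu'val : (u' : L) = ∏ t : T, (t : G) • (u : L) := by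
        simp only [u', Units.coe_prod, actU_val]
      have hbij : Function.Bijective (fun x : ↥(P : Subgroup G) × ↥T => (x.1 : G) * (x.2 : G)) := hT
      have h1 : ∏ h : ↥(P : Subgroup G), h • (u' : L) = 1 := by
        rw [← hu, ← Fintype.prod_bijective _ hbij (fun x => ((x.1 : G) * (x.2 : G)) • (u : L))
          (fun g => g • (u : L)) (fun _ => rfl), Fintype.prod_prod_type]
        refine Finset.prod_congr rfl (fun h _ => ?_)
        rw [hu'val, Finset.smul_prod']
        refine Finset.prod_congr rfl (fun t _ => ?_)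
        rw [mul_smul]; rfl
      have h2 : u' ∈ D L G :=
        D_subgroup_le (P : Subgroup G) (pgroup_case hNS p _ (P : Subgroup G) P.card_eq_multiplicity u' h1)
      have h3 : u ^ Fintype.card T = u' * ∏ t : T, (u / actU (t : G) u) := by
        rw [Finset.prod_div_distrib, Finset.prod_const, Finset.card_univ]
        simp only [u']
        rw [mul_div_cancel]
      rw [h3]
      exact mul_mem h2 (Subgroup.prod_mem _ (fun t _ => div_actU_mem _ _))
  by_contra hcon
  have hne : (QuotientGroup.mk u : Lˣ ⧸ D L G) ≠ 1 := fun h => hcon ((QuotientGroup.eq_one_iff _).mp h)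
  have hord : orderOf (QuotientGroup.mk u : Lˣ ⧸ D L G) ≠ 1 := fun h => hne (orderOf_eq_one_iff.mp h)
  obtain ⟨p, hp, hpd⟩ := Nat.exists_prime_and_dvd hord
  obtain ⟨n, hn, hun⟩ := key p hp
  apply hn
  refine hpd.trans (orderOf_dvd_of_pow_eq_one ?_)
  rw [← QuotientGroup.mk_pow]
  exact (QuotientGroup.eq_one_iff _).mpr hun

end Groth.Agent.H27.NormC1
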