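import Mathlib
import Groth.Agent.H27.NormC1b

/-!
# Norm surjectivity for all intermediate Galois layers over a `C_1` field, and the final statement
-/

set_option autoImplicit false

namespace Groth.Agent.H27.NormC1

universe u

theorem NS_of_isCi {K L : Type u} [Field K] [Field L] [Algebra K L] [FiniteDimensional K L]
    [IsGalois K L] (hK : Curves.IsCi K 1) : NS K L := by
  intro G _ _ _ _ _ x hx0 hx
  classical
  let ρ : G →* (L ≃ₐ[K] L) := MulSemiringAction.toAlgAut G K L
  have hρ_apply : ∀ (g : G) (y : L), ρ g y = g • y := fun g y => rfl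
  have hρ : Function.Injective ρ := by
    intro g g' h
    apply eq_of_smul_eq_smul (α := L)
    intro y
    rw [← hρ_apply, ← hρ_apply, h]
  let H : Subgroup (L ≃ₐ[K] L) := ρ.range
  let E : IntermediateField K L := IntermediateField.fixedField H
  have hxE : x ∈ E := by
    rintro ⟨_, g, rfl⟩
    exact hx g
  have hEC : Curves.IsCr E 1 := isCr_of_isCi (Groth.Agent.S0210.result K E 1 hK)
  obtain ⟨w, hw⟩ := norm_surjective_of_isCr (K := E) (L := L) hEC ⟨x, hxE⟩
  refine ⟨w, ?_⟩
  have h1 := Algebra.norm_eq_prod_automorphisms E w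
  rw [hw] at h1
  have hfix : E.fixingSubgroup = H := IntermediateField.fixingSubgroup_fixedField H
  let e2 : E.fixingSubgroup ≃* (L ≃ₐ[E] L) := IntermediateField.fixingSubgroupEquiv E
  have hmem : ∀ g : G, ρ g ∈ E.fixingSubgroup := fun g => hfix ▸ ⟨g, rfl⟩
  let f : G → (L ≃ₐ[E] L) := fun g => e2 ⟨ρ g, hmem g⟩
  have hf_apply : ∀ (g : G) (y : L), f g y = g • y := fun g y => rfl
  have hf : Function.Bijective f := by
    constructor
    · intro g g' h
      apply hρ
      have := e2.injective h
      exact congrArg Subtype.val this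
    · intro τ
      have hτ : ((e2.symm τ : E.fixingSubgroup) : L ≃ₐ[K] L) ∈ H := hfix ▸ (e2.symm τ).2
      obtain ⟨g, hg⟩ := hτ
      refine ⟨g, ?_⟩
      apply e2.symm.injective
      apply Subtype.ext
      rw [← hg]
      simp [f]
  have h2 : ∏ g : G, g • w = ∏ τ : (L ≃ₐ[E] L), τ w :=
    Fintype.prod_bijective f hf _ _ (fun g => (hf_apply g w).symm)
  rw [h2]
  exact h1.symm

end Groth.Agent.H27.NormC1
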