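import Mathlib

/-!
# (G6) for helper17's S3362 squad
-/

set_option autoImplicit false

universe u

namespace Groth.Agent.H27.PS_G6

theorem dim_empty {U : Type u} [TopologicalSpace U] :
    topologicalKrullDim ↥(∅ : Set U) = ⊥ := by
  unfold topologicalKrullDim
  haveI : IsEmpty (TopologicalSpace.IrreducibleCloseds ↥(∅ : Set U)) := by
    constructor
    intro W
    obtain ⟨x, _⟩ := W.isIrreducible'.1
    exact x.2.elim
  exact Order.krullDim_eq_bot

theorem le_dim_of_connectedInDim {U T : Type u} [TopologicalSpace U] [TopologicalSpace T]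
    (ι : U → T) (hι : Topology.IsOpenEmbedding ι) (pt : T) (hpt : Set.range ι = {pt}ᶜ)
    (hloc : ∀ C : Set T, IsClosed C → C.Nonempty → pt ∈ C) (k : ℕ)
    (hb : ∀ Z : Set U, IsClosed Z → topologicalKrullDim ↥Z < (k : WithBot ℕ∞) → IsConnected Zᶜ)
    (hG2 : ∀ Z : Set U, IsClosed Z → Z.Nonempty →
      topologicalKrullDim ↥Z + 1 ≤ topologicalKrullDim ↥(ι '' Z ∪ {pt}))
    (Z' : Set T) (hZ' : IsClosed Z') (hnc : ¬ IsConnected Z'ᶜ) :
    ((k + 1 : ℕ) : WithBot ℕ∞) ≤ topologicalKrullDim ↥Z' := by
  by_contra hlt
  rw [not_le] at hlt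
  apply hnc
  have hbot : (⊥ : WithBot ℕ∞) < (k : WithBot ℕ∞) := WithBot.bot_lt_coe _
  rcases Set.eq_empty_or_nonempty Z' with he | hne
  · -- `Z' = ∅`
    subst he
    have hU : IsConnected ((∅ : Set U)ᶜ) := hb ∅ isClosed_empty (by rw [dim_empty]; exact hbot)
    rw [Set.compl_empty] at hU ⊢
    have himg : IsConnected (ι '' Set.univ) := hU.image ι hι.continuous.continuousOn
    rw [Set.image_univ] at himg
    have hcl : closure (Set.range ι) = Set.univ := by
      have hptmem : pt ∈ closure (Set.range ι) :=
        hloc _ isClosed_closure (himg.nonempty.mono subset_closure)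
      ext x
      simp only [Set.mem_univ, iff_true]
      by_cases hx : x = pt
      · rw [hx]; exact hptmem
      · apply subset_closure
        rw [hpt]
        exact hx
    rw [← hcl]
    exact himg.closure
  · -- `Z'` nonempty
    have hptZ : pt ∈ Z' := hloc Z' hZ' hne
    set Z : Set U := ι ⁻¹' Z' with hZdef
    have hZcl : IsClosed Z := hZ'.preimage hι.continuous
    have hptr : pt ∉ Set.range ι := by rw [hpt]; simp
    have heq : ι '' Z ∪ {pt} = Z' := by
      ext x
      constructor
      · rintro (⟨u, hu, rfl⟩ | hx)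
        · exact hu
        · rw [Set.mem_singleton_iff.mp hx]; exact hptZ
      · intro hx
        by_cases hxp : x = pt
        · right; exact hxp
        · left
          have : x ∈ Set.range ι := by rw [hpt]; exact hxp
          obtain ⟨u, rfl⟩ := this
          exact ⟨u, hx, rfl⟩
    have hcompl : Z'ᶜ = ι '' Zᶜ := by
      ext x
      constructor
      · intro hx
        have hxp : x ≠ pt := fun h => hx (h ▸ hptZ)
        have : x ∈ Set.range ι := by rw [hpt]; exact hxp
        obtain ⟨u, rfl⟩ := this
        exact ⟨u, hx, rfl⟩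
      · rintro ⟨u, hu, rfl⟩
        exact hu
    have hdim : topologicalKrullDim ↥Z < (k : WithBot ℕ∞) := by
      rcases Set.eq_empty_or_nonempty Z with hZe | hZne
      · rw [hZe, dim_empty]; exact hbot
      · have h1 := hG2 Z hZcl hZne
        have h2 : topologicalKrullDim ↥(ι '' Z ∪ {pt}) = topologicalKrullDim ↥Z' :=
          congrArg (fun S : Set T => topologicalKrullDim ↥S) heq
        rw [h2] at h1
        by_contra hge
        rw [not_lt] at hge
        have h3 : ((k + 1 : ℕ) : WithBot ℕ∞) ≤ topologicalKrullDim ↥Z + 1 := by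
          have : ((k + 1 : ℕ) : WithBot ℕ∞) = (k : WithBot ℕ∞) + 1 := by push_cast; rfl
          rw [this]
          exact add_le_add_left hge 1
        exact absurd (lt_of_le_of_lt (h3.trans h1) hlt) (lt_irrefl _)
    have hconn : IsConnected Zᶜ := hb Z hZcl hdim
    rw [hcompl]
    exact hconn.image ι hι.continuous.continuousOn

end Groth.Agent.H27.PS_G6
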