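import Mathlib

set_option autoImplicit false

/-! A valuation subring of a finite extension `L` of the fraction field `K` of a discrete valuation
ring `A` which dominates `A` is a discrete valuation ring (no separability hypothesis). -/

namespace Groth.Agent.H27.ValFin

open IsLocalRing Polynomial

variable {A K L : Type*} [CommRing A] [IsDomain A] [IsDiscreteValuationRing A] [Field K]
  [Algebra A K] [IsFractionRing A K] [Field L] [Algebra K L]

section
variable (V : ValuationSubring L)
  (h1 : ∀ a : A, algebraMap K L (algebraMap A K a) ∈ V)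
  (h2 : ∀ a : A, a ∈ maximalIdeal A → V.valuation (algebraMap K L (algebraMap A K a)) < 1)

include h1 in
theorem val_unit (a : A) (ha : IsUnit a) :
    V.valuation (algebraMap K L (algebraMap A K a)) = 1 := by
  obtain ⟨u, rfl⟩ := ha
  have e1 : V.valuation (algebraMap K L (algebraMap A K (u : A))) ≤ 1 :=
    (V.valuation_le_one_iff _).mpr (h1 _)
  have e2 : V.valuation (algebraMap K L (algebraMap A K ((u⁻¹ : Aˣ) : A))) ≤ 1 :=
    (V.valuation_le_one_iff _).mpr (h1 _)
  have e3 : V.valuation (algebraMap K L (algebraMap A K (u : A))) *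
      V.valuation (algebraMap K L (algebraMap A K ((u⁻¹ : Aˣ) : A))) = 1 := by
    rw [← map_mul, ← map_mul, ← map_mul, Units.mul_inv, map_one, map_one, map_one]
  by_contra hne
  have hlt : V.valuation (algebraMap K L (algebraMap A K (u : A))) < 1 := lt_of_le_of_ne e1 hne
  have : V.valuation (algebraMap K L (algebraMap A K (u : A))) *
      V.valuation (algebraMap K L (algebraMap A K ((u⁻¹ : Aˣ) : A))) < 1 :=
    mul_lt_one_of_lt_of_le hlt e2
  rw [e3] at this
  exact lt_irrefl _ this

include h1 in
theorem val_of_ne_zero (ϖ : A) (hϖ : Irreducible ϖ) (a : A) (ha : a ≠ 0) :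
    ∃ s : ℕ, V.valuation (algebraMap K L (algebraMap A K a)) =
      V.valuation (algebraMap K L (algebraMap A K ϖ)) ^ s := by
  obtain ⟨s, hs⟩ := IsDiscreteValuationRing.associated_pow_irreducible ha hϖ
  obtain ⟨u, hu⟩ := hs.symm
  refine ⟨s, ?_⟩
  rw [← hu, map_mul, map_mul, map_mul, map_pow, map_pow, map_pow, val_unit V h1 _ u.isUnit, mul_one]

include h1 h2 in
/-- Key relation: every nonzero `y` of valuation `< 1` has a power (with exponent bounded by the
degree) whose valuation is a positive power of the valuation of the uniformizer. -/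
theorem exists_pow_eq [FiniteDimensional K L] (ϖ : A) (hϖ : Irreducible ϖ) (y : L) (hy0 : y ≠ 0)
    (hy : V.valuation y < 1) :
    ∃ d m : ℕ, 1 ≤ d ∧ d ≤ Module.finrank K L ∧ 1 ≤ m ∧
      V.valuation y ^ d = V.valuation (algebraMap K L (algebraMap A K ϖ)) ^ m := by
  classical
  set v := V.valuation with hv
  set c := v (algebraMap K L (algebraMap A K ϖ)) with hc
  have hinjA : Function.Injective (algebraMap A K) := IsFractionRing.injective A K
  have hc0 : c ≠ 0 := by
    rw [hc, Valuation.ne_zero_iff]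
    intro h
    have := (algebraMap K L).injective (h.trans (map_zero _).symm)
    exact hϖ.ne_zero (hinjA (this.trans (map_zero _).symm))
  have hc1 : c < 1 := h2 ϖ (by
    rw [mem_maximalIdeal, mem_nonunits_iff]; exact hϖ.not_isUnit)
  have hyint : IsIntegral K y := Algebra.IsIntegral.isIntegral y
  set p := minpoly K y with hp
  have hp0 : p ≠ 0 := minpoly.ne_zero hyint
  have hpy : aeval y p = 0 := minpoly.aeval K y
  have hdeg : p.natDegree ≤ Module.finrank K L := minpoly.natDegree_le y
  set t : ℕ → L := fun i => algebraMap K L (p.coeff i) * y ^ i with ht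
  have hsum : ∑ i ∈ p.support, t i = 0 := by
    rw [← hpy, aeval_def, eval₂_eq_sum, Polynomial.sum_def]
  have htne : ∀ i ∈ p.support, t i ≠ 0 := by
    intro i hi
    have : p.coeff i ≠ 0 := Polynomial.mem_support_iff.mp hi
    exact mul_ne_zero (by simpa using this) (pow_ne_zero _ hy0)
  have hne : p.support.Nonempty := Polynomial.nonempty_support_iff.mpr hp0
  obtain ⟨i₀, hi₀, hmax⟩ := Finset.exists_max_image p.support (fun i => v (t i)) hne
  -- a second index with the same valuation
  have hex : ∃ i ∈ p.support, i ≠ i₀ ∧ v (t i) = v (t i₀) := by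
    by_contra hcon
    push Not at hcon
    have hlt : ∀ i ∈ p.support \ {i₀}, v (t i) < v (t i₀) := by
      intro i hi
      rw [Finset.mem_sdiff, Finset.mem_singleton] at hi
      exact lt_of_le_of_ne (hmax i hi.1) (hcon i hi.1 hi.2)
    have := Valuation.map_sum_eq_of_lt v hi₀ hlt
    rw [hsum, map_zero] at this
    exact (v.ne_zero_iff.mpr (htne i₀ hi₀)) this.symm
  obtain ⟨i₁, hi₁, hne1, heq⟩ := hex
  -- reduce to i < j
  have main : ∀ i j : ℕ, i ∈ p.support → j ∈ p.support → i < j → v (t i) = v (t j) →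
      ∃ d m : ℕ, 1 ≤ d ∧ d ≤ Module.finrank K L ∧ 1 ≤ m ∧ v y ^ d = c ^ m := by
    intro i j hi hj hij hval
    have hci : p.coeff i ≠ 0 := Polynomial.mem_support_iff.mp hi
    have hcj : p.coeff j ≠ 0 := Polynomial.mem_support_iff.mp hj
    have hjdeg : j ≤ p.natDegree := Polynomial.le_natDegree_of_mem_supp j hj
    obtain ⟨a, b, hb, hab⟩ := IsFractionRing.div_surjective (A := A) (p.coeff i / p.coeff j)
    have hb0 : b ≠ 0 := nonZeroDivisors.ne_zero hb
    have hbK : algebraMap A K b ≠ 0 := fun h => hb0 (hinjA (h.trans (map_zero _).symm))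
    have ha0 : a ≠ 0 := by
      rintro rfl
      rw [map_zero, zero_div] at hab
      exact (div_ne_zero hci hcj) hab.symm
    obtain ⟨s, hs⟩ := val_of_ne_zero V h1 ϖ hϖ a ha0
    obtain ⟨r, hr⟩ := val_of_ne_zero V h1 ϖ hϖ b hb0
    have hvy0 : v y ≠ 0 := v.ne_zero_iff.mpr hy0
    -- v(coeff i) * c^r = v(coeff j) * c^s
    have hrel : p.coeff i * algebraMap A K b = p.coeff j * algebraMap A K a := by
      have := hab
      field_simp at this
      linear_combination -this
    have hrelv : v (algebraMap K L (p.coeff i)) * c ^ r = v (algebraMap K L (p.coeff j)) * c ^ s := by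
      have := congrArg (fun z => v (algebraMap K L z)) hrel
      simp only [map_mul] at this
      rw [hs, hr] at this
      exact this
    have hval' : v (algebraMap K L (p.coeff i)) * v y ^ i = v (algebraMap K L (p.coeff j)) * v y ^ j := by
      simpa [ht, map_mul, map_pow] using hval
    have hvj0 : v (algebraMap K L (p.coeff j)) ≠ 0 := by
      rw [Valuation.ne_zero_iff]; simpa using hcj
    -- v y ^ (j - i) * c ^ r = c ^ s
    have hkey : v y ^ (j - i) * c ^ r = c ^ s := by
      have hji : j = (j - i) + i := by omega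
      have e1 : v y ^ (j - i) * v y ^ i = v y ^ j := by rw [← pow_add, ← hji]
      have h3 : v (algebraMap K L (p.coeff j)) * v y ^ i * (v y ^ (j - i) * c ^ r) =
          v (algebraMap K L (p.coeff j)) * v y ^ i * c ^ s := by
        calc v (algebraMap K L (p.coeff j)) * v y ^ i * (v y ^ (j - i) * c ^ r)
            = (v (algebraMap K L (p.coeff j)) * (v y ^ (j - i) * v y ^ i)) * c ^ r := by ac_rfl
          _ = (v (algebraMap K L (p.coeff i)) * v y ^ i) * c ^ r := by rw [e1, hval']
          _ = (v (algebraMap K L (p.coeff i)) * c ^ r) * v y ^ i := by ac_rfl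
          _ = (v (algebraMap K L (p.coeff j)) * c ^ s) * v y ^ i := by rw [hrelv]
          _ = v (algebraMap K L (p.coeff j)) * v y ^ i * c ^ s := by ac_rfl
      exact mul_left_cancel₀ (mul_ne_zero hvj0 (pow_ne_zero _ hvy0)) h3
    have hd1 : 1 ≤ j - i := by omega
    have hpowlt : v y ^ (j - i) < 1 := pow_lt_one₀ zero_le hy (by omega)
    have hcr0 : c ^ r ≠ 0 := pow_ne_zero _ hc0
    have hcs_lt : c ^ s < c ^ r := by
      rw [← hkey]
      calc v y ^ (j - i) * c ^ r < 1 * c ^ r :=
            mul_lt_mul_of_pos_right hpowlt (zero_lt_iff.mpr hcr0)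
        _ = c ^ r := one_mul _
    have hrs : r < s := by
      by_contra hcon
      push Not at hcon
      have : c ^ r ≤ c ^ s := pow_le_pow_of_le_one zero_le hc1.le hcon
      exact absurd hcs_lt (not_lt.mpr this)
    refine ⟨j - i, s - r, hd1, le_trans (by omega) hdeg, by omega, ?_⟩
    have hsr : s = (s - r) + r := by omega
    have : v y ^ (j - i) * c ^ r = c ^ (s - r) * c ^ r := by
      rw [hkey, ← pow_add, ← hsr]
    exact mul_right_cancel₀ hcr0 this
  rcases lt_or_gt_of_ne hne1 with h | h
  · exact main i₁ i₀ hi₁ hi₀ h heq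
  · exact main i₀ i₁ hi₀ hi₁ h heq.symm

end

/-- A valuation subring of a finite extension of the fraction field of a DVR which dominates
the DVR is a DVR. -/
theorem isDiscreteValuationRing_of_dominates [FiniteDimensional K L] (V : ValuationSubring L)
    (h1 : ∀ a : A, algebraMap K L (algebraMap A K a) ∈ V)
    (h2 : ∀ a : A, a ∈ maximalIdeal A → V.valuation (algebraMap K L (algebraMap A K a)) < 1) :
    IsDiscreteValuationRing V := by
  classical
  obtain ⟨ϖ, hϖ⟩ := IsDiscreteValuationRing.exists_irreducible A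
  set v := V.valuation with hv
  set c := v (algebraMap K L (algebraMap A K ϖ)) with hc
  set n := Module.finrank K L with hn
  have hinjA : Function.Injective (algebraMap A K) := IsFractionRing.injective A K
  have hπL : algebraMap K L (algebraMap A K ϖ) ≠ 0 := by
    intro h
    have := (algebraMap K L).injective (h.trans (map_zero _).symm)
    exact hϖ.ne_zero (hinjA (this.trans (map_zero _).symm))
  have hc0 : c ≠ 0 := v.ne_zero_iff.mpr hπL
  have hc1 : c < 1 := h2 ϖ (by
    rw [mem_maximalIdeal, mem_nonunits_iff]; exact hϖ.not_isUnit)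
  have hR := fun y hy0 hy => exists_pow_eq V h1 h2 ϖ hϖ y hy0 hy
  -- KF: v y ^ n ≤ c
  have hKF : ∀ y : L, y ≠ 0 → v y < 1 → v y ^ n ≤ c := by
    intro y hy0 hy
    obtain ⟨d, m, hd1, hdn, hm1, hdm⟩ := hR y hy0 hy
    calc v y ^ n ≤ v y ^ d := pow_le_pow_of_le_one zero_le hy.le hdn
      _ = c ^ m := hdm
      _ ≤ c ^ 1 := pow_le_pow_of_le_one zero_le hc1.le hm1
      _ = c := pow_one c
  -- the set of exponents
  let T : ℕ → Prop := fun k => ∃ x : L, x ≠ 0 ∧ v x < 1 ∧ c ≤ v x ^ k
  have hT1 : T 1 := ⟨_, hπL, hc1, by rw [pow_one]⟩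
  have hTb : ∀ k, T k → k ≤ n := by
    rintro k ⟨x, hx0, hx1, hxk⟩
    by_contra hcon
    push Not at hcon
    have hvx0 : 0 < v x := zero_lt_iff.mpr (v.ne_zero_iff.mpr hx0)
    have : v x ^ k < v x ^ n := pow_lt_pow_right_of_lt_one₀ hvx0 hx1 hcon
    exact absurd (lt_of_lt_of_le this (hKF x hx0 hx1)) (not_lt.mpr hxk)
  set e := Nat.findGreatest T n with he
  have hTe : T e := Nat.findGreatest_spec (P := T) (hTb 1 hT1) hT1
  have he1 : 1 ≤ e := Nat.le_findGreatest (hTb 1 hT1) hT1
  have hemax : ∀ k, T k → k ≤ e := fun k hk => Nat.le_findGreatest (hTb k hk) hk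
  obtain ⟨x₀, hx0, hx1, hxe⟩ := hTe
  set g := v x₀ with hg
  have hg0 : g ≠ 0 := v.ne_zero_iff.mpr hx0
  have hgpos : 0 < g := zero_lt_iff.mpr hg0
  -- g is the largest valuation < 1
  have hgmax : ∀ y : L, v y < 1 → v y ≤ g := by
    intro y hy
    by_contra hcon
    push Not at hcon
    have hy0 : y ≠ 0 := by
      rintro rfl
      rw [map_zero] at hcon
      exact absurd hcon (not_lt.mpr zero_le)
    have hvy0 : v y ≠ 0 := v.ne_zero_iff.mpr hy0
    set z := x₀ / y with hz
    have hz0 : z ≠ 0 := div_ne_zero hx0 hy0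
    have hvz : v z * v y = g := by
      rw [hz, map_div₀, div_mul_cancel₀ _ hvy0]
    have hvz1 : v z < 1 := by
      rw [hz, map_div₀, div_lt_one₀ (zero_lt_iff.mpr hvy0)]
      exact hcon
    -- pick the one with larger valuation
    rcases le_total (v y) (v z) with hle | hle
    · -- w = z
      have hw2 : g ≤ v z ^ 2 := by
        rw [← hvz, pow_two]
        exact mul_le_mul' le_rfl hle
      have : T (2 * e) := by
        refine ⟨z, hz0, hvz1, ?_⟩
        calc c ≤ g ^ e := hxe
          _ ≤ (v z ^ 2) ^ e := pow_le_pow_left₀ zero_le hw2 e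
          _ = v z ^ (2 * e) := (pow_mul _ _ _).symm
      have := hemax _ this
      omega
    · have hw2 : g ≤ v y ^ 2 := by
        rw [← hvz, pow_two]
        exact mul_le_mul' hle le_rfl
      have : T (2 * e) := by
        refine ⟨y, hy0, hy, ?_⟩
        calc c ≤ g ^ e := hxe
          _ ≤ (v y ^ 2) ^ e := pow_le_pow_left₀ zero_le hw2 e
          _ = v y ^ (2 * e) := (pow_mul _ _ _).symm
      have := hemax _ this
      omega
  -- every nonzero element of valuation ≤ 1 has valuation a power of g
  have hpow : ∀ y : L, y ≠ 0 → v y ≤ 1 → ∃ k : ℕ, v y = g ^ k := by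
    intro y hy0 hy
    have hvy0 : v y ≠ 0 := v.ne_zero_iff.mpr hy0
    -- bound
    have hbound : ∃ N : ℕ, g ^ N < v y := by
      rcases lt_or_eq_of_le hy with hlt | heq
      · obtain ⟨d, m, hd1, hdn, hm1, hdm⟩ := hR y hy0 hlt
        refine ⟨n * m + 1, ?_⟩
        have h1 : g ^ (n * m) ≤ v y := by
          calc g ^ (n * m) = (g ^ n) ^ m := pow_mul _ _ _
            _ ≤ c ^ m := pow_le_pow_left₀ zero_le (hKF x₀ hx0 hx1) m
            _ = v y ^ d := hdm.symm
            _ ≤ v y ^ 1 := pow_le_pow_of_le_one zero_le hy hd1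
            _ = v y := pow_one _
        calc g ^ (n * m + 1) = g ^ (n * m) * g := pow_succ _ _
          _ < g ^ (n * m) * 1 := by
            exact mul_lt_mul_of_pos_left hx1 (zero_lt_iff.mpr (pow_ne_zero _ hg0))
          _ = g ^ (n * m) := mul_one _
          _ ≤ v y := h1
      · exact ⟨1, by rw [pow_one, heq]; exact hx1⟩
    obtain ⟨N, hN⟩ := hbound
    -- largest k with v y ≤ g^k
    let Q : ℕ → Prop := fun k => v y ≤ g ^ k
    have hQ0 : Q 0 := by simpa [Q] using hy
    have hQb : ∀ k, Q k → k ≤ N := by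
      intro k hk
      by_contra hcon
      push Not at hcon
      have : g ^ k ≤ g ^ N := pow_le_pow_of_le_one zero_le hx1.le hcon.le
      exact absurd (lt_of_lt_of_le hN (le_trans hk this)) (lt_irrefl _)
    set k := Nat.findGreatest Q N with hk
    have hQk : Q k := Nat.findGreatest_spec (P := Q) (Nat.zero_le N) hQ0
    have hkmax : ∀ k', Q k' → k' ≤ k := fun k' hk' => Nat.le_findGreatest (hQb k' hk') hk'
    refine ⟨k, le_antisymm hQk ?_⟩
    by_contra hcon
    push Not at hcon
    -- v (y / x₀^k) < 1 so ≤ g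
    have hgk0 : g ^ k ≠ 0 := pow_ne_zero _ hg0
    have hlt : v (y / x₀ ^ k) < 1 := by
      rw [map_div₀, map_pow, div_lt_one₀ (zero_lt_iff.mpr hgk0)]
      exact hcon
    have := hgmax _ hlt
    rw [map_div₀, map_pow, div_le_iff₀ (zero_lt_iff.mpr hgk0)] at this
    have hQ' : Q (k + 1) := by
      show v y ≤ g ^ (k + 1)
      rw [pow_succ, mul_comm]; exact this
    have := hkmax _ hQ'
    omega
  -- conclude
  have hx₀V : x₀ ∈ V := (V.valuation_le_one_iff x₀).mp hx1.le
  let p : V := ⟨x₀, hx₀V⟩
  have hp0 : p ≠ 0 := fun h => hx0 (congrArg Subtype.val h)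
  have hpnu : ¬ IsUnit p := by
    rw [V.valuation_eq_one_iff]
    exact ne_of_lt hx1
  apply IsDiscreteValuationRing.ofHasUnitMulPowIrreducibleFactorization
  refine ⟨p, ⟨hpnu, ?_⟩, ?_⟩
  · intro a b hab
    by_contra hcon
    push Not at hcon
    obtain ⟨ha, hb⟩ := hcon
    have hva : v a < 1 := by
      rcases V.valuation_lt_one_or_eq_one a with h | h
      · exact h
      · exact absurd ((V.valuation_eq_one_iff a).mpr h) ha
    have hvb : v b < 1 := by
      rcases V.valuation_lt_one_or_eq_one b with h | h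
      · exact h
      · exact absurd ((V.valuation_eq_one_iff b).mpr h) hb
    have h1' : v a ≤ g := hgmax _ hva
    have h2' : v b ≤ g := hgmax _ hvb
    have hgab : g = v a * v b := by
      have := congrArg (fun z : V => v (z : L)) hab
      simpa [p, map_mul] using this
    have : g < g := by
      calc g = v a * v b := hgab
        _ ≤ g * v b := mul_le_mul' h1' le_rfl
        _ < g * 1 := mul_lt_mul_of_pos_left hvb hgpos
        _ = g := mul_one g
    exact lt_irrefl _ this
  · intro y hy0
    have hyL : (y : L) ≠ 0 := fun h => hy0 (Subtype.ext h)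
    obtain ⟨k, hk⟩ := hpow (y : L) hyL (V.valuation_le_one y)
    refine ⟨k, ?_⟩
    -- unit u = y / x₀^k
    have hgk0 : g ^ k ≠ 0 := pow_ne_zero _ hg0
    have hu1 : v ((y : L) / x₀ ^ k) = 1 := by
      rw [map_div₀, map_pow, hk, div_self hgk0]
    have huV : (y : L) / x₀ ^ k ∈ V := (V.valuation_le_one_iff _).mp hu1.le
    let u : V := ⟨(y : L) / x₀ ^ k, huV⟩
    have huu : IsUnit u := (V.valuation_eq_one_iff u).mpr hu1
    obtain ⟨u', hu'⟩ := huu
    refine ⟨u', ?_⟩
    rw [hu']
    apply Subtype.ext
    show x₀ ^ k * ((y : L) / x₀ ^ k) = y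
    field_simp

end Groth.Agent.H27.ValFin
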