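import Mathlib
import Groth.Agent.H27.ValFin

set_option autoImplicit false
set_option maxHeartbeats 400000

/-! Potential good reduction of elliptic curves with integral `j`-invariant over a discrete
valuation ring (Legendre form when `2` is a unit, Deuring form when `3` is a unit). -/

namespace Groth.Agent.H27.PotGood

universe u

open IsLocalRing

section Aux

variable {L : Type*} [Field L]

theorem lt_one_iff (V : ValuationSubring L) (x : L) :
    V.valuation x < 1 ↔ x = 0 ∨ x⁻¹ ∉ V := by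
  by_cases hx : x = 0
  · subst hx; simp
  · have hpos : 0 < V.valuation x := zero_lt_iff.mpr ((V.valuation).ne_zero_iff.mpr hx)
    rw [← V.valuation_le_one_iff x⁻¹, map_inv₀, not_le, one_lt_inv₀ hpos]
    simp [hx]

variable {M : Type*} [Field M] [Algebra L M]

theorem comap_valuation_lt_one_iff (W : ValuationSubring M) (x : L) :
    (W.comap (algebraMap L M)).valuation x < 1 ↔ W.valuation (algebraMap L M x) < 1 := by
  rw [lt_one_iff, lt_one_iff, ValuationSubring.mem_comap, map_inv₀,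
    map_eq_zero_iff _ (algebraMap L M).injective]

end Aux

/-- The right hand side of the statement: potential good reduction. -/
def PotGoodRed (R : Type u) [CommRing R] [IsDomain R] [IsDiscreteValuationRing R]
    {K : Type u} [Field K] [Algebra R K] [IsFractionRing R K] (W : WeierstrassCurve K) : Prop :=
  ∃ (L : Type u) (_ : Field L) (_ : Algebra K L) (_ : FiniteDimensional K L) (RL : Type u)
    (_ : CommRing RL) (_ : IsDomain RL) (_ : IsDiscreteValuationRing RL) (_ : Algebra RL L)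
    (_ : IsFractionRing RL L) (φ : R →+* RL), IsLocalHom φ ∧
    (∀ r : R, algebraMap K L (algebraMap R K r) = algebraMap RL L (φ r)) ∧
    ((W.baseChange L).minimal RL).HasGoodReduction RL

variable {R : Type u} [CommRing R] [IsDomain R] [IsDiscreteValuationRing R]
  {K : Type u} [Field K] [Algebra R K] [IsFractionRing R K]

theorem exists_valuationSubring_dominating (Ω : Type u) [Field Ω] [Algebra K Ω] :
    ∃ VΩ : ValuationSubring Ω, (∀ a : R, algebraMap K Ω (algebraMap R K a) ∈ VΩ) ∧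
      (∀ a : R, a ∈ maximalIdeal R → VΩ.valuation (algebraMap K Ω (algebraMap R K a)) < 1) := by
  obtain ⟨VΩ, h, hloc⟩ := IsLocalRing.exists_factor_valuationRing
    ((algebraMap K Ω).comp (algebraMap R K))
  refine ⟨VΩ, fun a => h a, fun a ha => ?_⟩
  have hnu : ¬ IsUnit a := by
    rwa [mem_maximalIdeal, mem_nonunits_iff] at ha
  have hnu' : ¬ IsUnit ((((algebraMap K Ω).comp (algebraMap R K)).codRestrict VΩ.toSubring h) a) :=
    fun hu => hnu (hloc.map_nonunit a hu)
  let b : VΩ := ⟨algebraMap K Ω (algebraMap R K a), h a⟩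
  have hb : ¬ IsUnit b := hnu'
  rcases VΩ.valuation_lt_one_or_eq_one b with h1 | h1
  · exact h1
  · exact absurd ((VΩ.valuation_eq_one_iff b).mpr h1) hb

open WeierstrassCurve in
theorem potGood_of_model (W : WeierstrassCurve K) [W.IsElliptic]
    {Ω : Type u} [Field Ω] [Algebra K Ω] [IsSepClosed Ω] [Algebra.IsAlgebraic K Ω]
    (VΩ : ValuationSubring Ω)
    (hd1 : ∀ a : R, algebraMap K Ω (algebraMap R K a) ∈ VΩ)
    (hd2 : ∀ a : R, a ∈ maximalIdeal R → VΩ.valuation (algebraMap K Ω (algebraMap R K a)) < 1)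
    (E₀ : WeierstrassCurve Ω) [E₀.IsElliptic] (hj : E₀.j = algebraMap K Ω W.j)
    (ha1 : E₀.a₁ ∈ VΩ) (ha2 : E₀.a₂ ∈ VΩ) (ha3 : E₀.a₃ ∈ VΩ) (ha4 : E₀.a₄ ∈ VΩ)
    (ha6 : E₀.a₆ ∈ VΩ) (hΔ : VΩ.valuation E₀.Δ = 1) : PotGoodRed R W := by
  classical
  obtain ⟨C, hC⟩ := WeierstrassCurve.exists_variableChange_of_j_eq (W.map (algebraMap K Ω)) E₀
    (by rw [WeierstrassCurve.map_j, hj])
  let S : Set Ω := {E₀.a₁, E₀.a₂, E₀.a₃, E₀.a₄, E₀.a₆, (C.u : Ω), C.r, C.s, C.t}
  have : Finite S := by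
    apply Set.Finite.to_subtype
    simp only [S]
    exact Set.toFinite _
  let L := IntermediateField.adjoin K S
  have hfd : FiniteDimensional K L := IntermediateField.finiteDimensional_adjoin
    (fun x _ => (Algebra.IsAlgebraic.isAlgebraic x).isIntegral)
  have hmem : ∀ x ∈ S, x ∈ L := fun x hx => IntermediateField.subset_adjoin K S hx
  let a1L : L := ⟨E₀.a₁, hmem _ (by simp [S])⟩
  let a2L : L := ⟨E₀.a₂, hmem _ (by simp [S])⟩
  let a3L : L := ⟨E₀.a₃, hmem _ (by simp [S])⟩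
  let a4L : L := ⟨E₀.a₄, hmem _ (by simp [S])⟩
  let a6L : L := ⟨E₀.a₆, hmem _ (by simp [S])⟩
  let u0 : L := ⟨(C.u : Ω), hmem _ (by simp [S])⟩
  have hu0 : u0 ≠ 0 := fun h => C.u.ne_zero (congrArg Subtype.val h)
  let uL : Lˣ := Units.mk0 u0 hu0
  let rL : L := ⟨C.r, hmem _ (by simp [S])⟩
  let sL : L := ⟨C.s, hmem _ (by simp [S])⟩
  let tL : L := ⟨C.t, hmem _ (by simp [S])⟩
  let E₀L : WeierstrassCurve L := ⟨a1L, a2L, a3L, a4L, a6L⟩
  let CL : WeierstrassCurve.VariableChange L := ⟨uL, rL, sL, tL⟩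
  have hE₀L : E₀L.map (algebraMap L Ω) = E₀ := by
    ext <;> rfl
  have hCL : CL.map (algebraMap L Ω) = C := by
    ext <;> rfl
  have hWL : CL • (W.baseChange L) = E₀L := by
    apply WeierstrassCurve.map_injective (algebraMap L Ω).injective
    change (CL • W.baseChange L).map (algebraMap L Ω) = E₀L.map (algebraMap L Ω)
    rw [← WeierstrassCurve.map_variableChange, hCL, hE₀L, ← hC]
    congr 1
  -- the valuation subring of L
  let V : ValuationSubring L := VΩ.comap (algebraMap L Ω)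
  have h1 : ∀ a : R, algebraMap K L (algebraMap R K a) ∈ V := fun a => by
    rw [ValuationSubring.mem_comap]; exact hd1 a
  have h2 : ∀ a : R, a ∈ maximalIdeal R → V.valuation (algebraMap K L (algebraMap R K a)) < 1 := by
    intro a ha
    rw [comap_valuation_lt_one_iff]
    exact hd2 a ha
  haveI hDVR : IsDiscreteValuationRing V := ValFin.isDiscreteValuationRing_of_dominates V h1 h2
  let φ : R →+* V := RingHom.codRestrict ((algebraMap K L).comp (algebraMap R K)) V h1
  have hloc : IsLocalHom φ := by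
    refine ⟨fun a ha => ?_⟩
    by_contra hna
    have hm : a ∈ maximalIdeal R := by rwa [mem_maximalIdeal, mem_nonunits_iff]
    have hlt := h2 a hm
    have heq : V.valuation ((φ a : V) : L) = 1 := (V.valuation_eq_one_iff (φ a)).mp ha
    exact absurd hlt (not_lt.mpr heq.ge)
  refine ⟨L, inferInstance, inferInstance, hfd, V, inferInstance, inferInstance, hDVR,
    inferInstance, inferInstance, φ, hloc, fun r => rfl, ?_⟩
  -- good reduction
  haveI hint : WeierstrassCurve.IsIntegral V E₀L :=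
    WeierstrassCurve.isIntegral_of_exists_lift V
      ⟨⟨a1L, ValuationSubring.mem_comap.mpr ha1⟩, rfl⟩
      ⟨⟨a2L, ValuationSubring.mem_comap.mpr ha2⟩, rfl⟩
      ⟨⟨a3L, ValuationSubring.mem_comap.mpr ha3⟩, rfl⟩
      ⟨⟨a4L, ValuationSubring.mem_comap.mpr ha4⟩, rfl⟩
      ⟨⟨a6L, ValuationSubring.mem_comap.mpr ha6⟩, rfl⟩
  have hΔmap : algebraMap L Ω E₀L.Δ = E₀.Δ := by
    rw [← WeierstrassCurve.map_Δ, hE₀L]
  have hΔ0 : E₀L.Δ ≠ 0 := by
    intro h
    rw [h, map_zero] at hΔmap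
    rw [← hΔmap, map_zero] at hΔ
    exact zero_ne_one hΔ
  have hΔmem : E₀L.Δ ∈ V := by
    rw [ValuationSubring.mem_comap, hΔmap]
    exact (VΩ.valuation_le_one_iff _).mp hΔ.le
  have hΔinv : (E₀L.Δ)⁻¹ ∈ V := by
    rw [ValuationSubring.mem_comap, map_inv₀, hΔmap]
    exact (VΩ.valuation_le_one_iff _).mp (by rw [map_inv₀, hΔ, inv_one])
  let d : V := ⟨E₀L.Δ, hΔmem⟩
  have hdu : IsUnit d := IsUnit.of_mul_eq_one (⟨_, hΔinv⟩ : V) (Subtype.ext (mul_inv_cancel₀ hΔ0))
  have hvalE : IsDedekindDomain.HeightOneSpectrum.valuation L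
      (IsDiscreteValuationRing.maximalIdeal V) E₀L.Δ = 1 := by
    have : E₀L.Δ = algebraMap V L d := rfl
    rw [this, IsDedekindDomain.HeightOneSpectrum.valuation_eq_one_iff_notMem]
    intro hmem'
    exact ((mem_maximalIdeal d).mp hmem') hdu
  -- minimality
  set WL := W.baseChange L with hWLdef
  obtain ⟨C', hC'⟩ : ∃ C' : WeierstrassCurve.VariableChange L, WL.minimal V = C' • WL := ⟨_, rfl⟩
  have hM : WeierstrassCurve.IsMinimal V (WL.minimal V) := inferInstance
  have hrel : (CL * C'⁻¹) • (WL.minimal V) = E₀L := by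
    rw [hC', ← mul_smul, inv_mul_cancel_right, hWL]
  have hmax := hM.val_Δ_maximal
  have hP : WeierstrassCurve.IsIntegral V ((CL * C'⁻¹) • WL.minimal V) := by rw [hrel]; exact hint
  have hfy : (WeierstrassCurve.valuation_Δ_aux V ((CL * C'⁻¹) • WL.minimal V) : WithZero (Multiplicative ℤ)) = 1 := by
    rw [hrel, WeierstrassCurve.valuation_Δ_aux_eq_of_isIntegral]
    exact hvalE
  have hle : WeierstrassCurve.valuation_Δ_aux V ((1 : WeierstrassCurve.VariableChange L) • WL.minimal V) ≤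
      WeierstrassCurve.valuation_Δ_aux V ((CL * C'⁻¹) • WL.minimal V) := by
    rw [← Subtype.coe_le_coe, hfy]
    exact (WeierstrassCurve.valuation_Δ_aux V _).2
  have hge := hmax.2 hP hle
  beta_reduce at hge
  rw [← Subtype.coe_le_coe, hfy, one_smul, WeierstrassCurve.valuation_Δ_aux_eq_of_isIntegral] at hge
  refine { toIsMinimal := hM, goodReduction := le_antisymm ?_ hge }
  obtain ⟨r, hr⟩ := WeierstrassCurve.Δ_integral_of_isIntegral V (WL.minimal V)
  rw [← hr]
  exact IsDedekindDomain.HeightOneSpectrum.valuation_le_one _ r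


section ValLemmas

variable {F : Type*} [Field F] {Γ₀ : Type*} [LinearOrderedCommGroupWithZero Γ₀]
  (v : Valuation F Γ₀)

theorem val_eq_one_of_sub_lt (x : F) (h : v (x - 1) < 1) : v x = 1 := by
  have := v.map_one_add_of_lt h
  rwa [add_sub_cancel] at this

theorem mul_lt_one_left {a b : F} (ha : v a < 1) (hb : v b ≤ 1) : v (a * b) < 1 := by
  rw [map_mul]; exact mul_lt_one_of_lt_of_le ha hb

theorem mul_lt_one_right {a b : F} (ha : v a ≤ 1) (hb : v b < 1) : v (a * b) < 1 := by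
  rw [mul_comm]; exact mul_lt_one_left v hb ha

theorem pow_lt_one' {a : F} (ha : v a < 1) {n : ℕ} (hn : n ≠ 0) : v (a ^ n) < 1 := by
  rw [map_pow]; exact pow_lt_one₀ zero_le ha hn

theorem pow_le_one' {a : F} (ha : v a ≤ 1) (n : ℕ) : v (a ^ n) ≤ 1 := by
  rw [map_pow]; exact pow_le_one₀ zero_le ha

/-- The basic contradiction: `c (1+x)^3 = j y` with `v c = 1`, `v j ≤ 1`, `v x, v y < 1`. -/
theorem contra {c j x y : F} (hc : v c = 1) (hj : v j ≤ 1) (hx : v x < 1) (hy : v y < 1)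
    (h : c * (1 + x) ^ 3 = j * y) : False := by
  have h1 : v (c * (1 + x) ^ 3) = 1 := by
    rw [map_mul, map_pow, v.map_one_add_of_lt hx, hc, one_pow, one_mul]
  have h2 : v (j * y) < 1 := mul_lt_one_right v hj hy
  rw [h, ] at h1
  rw [h1] at h2
  exact lt_irrefl _ h2

end ValLemmas

open Polynomial in
theorem potGood_of_two_unit (W : WeierstrassCurve K) [W.IsElliptic] (j₀ : R)
    (hj₀ : algebraMap R K j₀ = W.j) (h2 : IsUnit (2 : R)) : PotGoodRed R W := by
  obtain ⟨VΩ, hd1, hd2⟩ := exists_valuationSubring_dominating (R := R) (K := K) (AlgebraicClosure K)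
  set v := VΩ.valuation with hv
  set j : AlgebraicClosure K := algebraMap K (AlgebraicClosure K) W.j with hjdef
  have hjV : v j ≤ 1 := by
    rw [hjdef, ← hj₀]; exact (VΩ.valuation_le_one_iff _).mpr (hd1 j₀)
  have hv2 : v 2 = 1 := by
    have e : algebraMap K (AlgebraicClosure K) (algebraMap R K 2) = 2 := by
      rw [map_ofNat, map_ofNat]
    have := ValFin.val_unit VΩ hd1 2 h2
    rwa [e] at this
  have hv256 : v 256 = 1 := by
    have : (256 : AlgebraicClosure K) = 2 ^ 8 := by norm_num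
    rw [this, map_pow, hv2, one_pow]
  have hv16 : v 16 = 1 := by
    have : (16 : AlgebraicClosure K) = 2 ^ 4 := by norm_num
    rw [this, map_pow, hv2, one_pow]
  have h256 : (256 : AlgebraicClosure K) ≠ 0 := by
    intro h; rw [h, map_zero] at hv256; exact zero_ne_one hv256
  -- a root of the Legendre equation
  obtain ⟨lam, hlam⟩ : ∃ lam : AlgebraicClosure K,
      256 * (lam ^ 2 - lam + 1) ^ 3 - j * (lam ^ 2 * (lam - 1) ^ 2) = 0 := by
    let q : Polynomial (AlgebraicClosure K) :=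
      (X ^ 2 - X + 1) ^ 3 - C (j / 256) * (X ^ 2 * (X - 1) ^ 2)
    have hdeg : q.natDegree = 6 := by
      simp only [q]; compute_degree!
    have hdeg' : q.degree ≠ 0 := by
      intro h
      have := Polynomial.natDegree_eq_zero_iff_degree_le_zero.mpr h.le
      omega
    obtain ⟨lam, hl⟩ := IsAlgClosed.exists_root q hdeg'
    refine ⟨lam, ?_⟩
    have h0 : (lam ^ 2 - lam + 1) ^ 3 - (j / 256) * (lam ^ 2 * (lam - 1) ^ 2) = 0 := by
      simpa [q, Polynomial.IsRoot] using hl
    have h' : 256 * ((lam ^ 2 - lam + 1) ^ 3 - (j / 256) * (lam ^ 2 * (lam - 1) ^ 2)) = 0 := by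
      rw [h0, mul_zero]
    rw [← h']; field_simp
  -- valuations
  have hlam1 : v lam ≤ 1 := by
    by_contra hcon
    push Not at hcon
    have hl0 : lam ≠ 0 := by
      rintro rfl
      rw [map_zero] at hcon
      exact absurd hcon (not_lt.mpr zero_le)
    set μ := lam⁻¹ with hμ
    have hvμ : v μ < 1 := by rw [hμ, map_inv₀]; exact inv_lt_one_of_one_lt₀ hcon
    have hid : 256 * (1 + μ * (μ - 1)) ^ 3 = j * (μ ^ 2 * (1 - μ) ^ 2) := by
      have : 256 * (1 + μ * (μ - 1)) ^ 3 - j * (μ ^ 2 * (1 - μ) ^ 2) =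
          μ ^ 6 * (256 * (lam ^ 2 - lam + 1) ^ 3 - j * (lam ^ 2 * (lam - 1) ^ 2)) := by
        rw [hμ]; field_simp; ring
      rw [hlam, mul_zero] at this
      exact sub_eq_zero.mp this
    have hμ1 : v (μ - 1) ≤ 1 := v.map_sub_le hvμ.le (by rw [map_one])
    have h1μ : v (1 - μ) ≤ 1 := v.map_sub_le (by rw [map_one]) hvμ.le
    exact contra v hv256 hjV (mul_lt_one_left v hvμ hμ1)
      (mul_lt_one_left v (pow_lt_one' v hvμ two_ne_zero) (pow_le_one' v h1μ 2)) hid
  have hlamm1 : v (lam - 1) ≤ 1 := v.map_sub_le hlam1 (by rw [map_one])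
  have hid2 : 256 * (1 + lam * (lam - 1)) ^ 3 = j * (lam ^ 2 * (lam - 1) ^ 2) := by
    have : 256 * (1 + lam * (lam - 1)) ^ 3 - j * (lam ^ 2 * (lam - 1) ^ 2) =
        256 * (lam ^ 2 - lam + 1) ^ 3 - j * (lam ^ 2 * (lam - 1) ^ 2) := by ring
    rw [hlam] at this
    exact sub_eq_zero.mp this
  have hlamU : v lam = 1 := by
    refine le_antisymm hlam1 (not_lt.mp fun hlt => ?_)
    exact contra v hv256 hjV (mul_lt_one_left v hlt hlamm1)
      (mul_lt_one_left v (pow_lt_one' v hlt two_ne_zero) (pow_le_one' v hlamm1 2)) hid2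
  have hlamm1U : v (lam - 1) = 1 := by
    refine le_antisymm hlamm1 (not_lt.mp fun hlt => ?_)
    exact contra v hv256 hjV (mul_lt_one_right v hlam1 hlt)
      (mul_lt_one_right v (pow_le_one' v hlam1 2) (pow_lt_one' v hlt two_ne_zero)) hid2
  -- the Legendre curve
  let E₀ : WeierstrassCurve (AlgebraicClosure K) := ⟨0, -(1 + lam), 0, lam, 0⟩
  have hΔeq : E₀.Δ = 16 * lam ^ 2 * (lam - 1) ^ 2 := by
    simp only [E₀, WeierstrassCurve.Δ, WeierstrassCurve.b₂, WeierstrassCurve.b₄,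
      WeierstrassCurve.b₆, WeierstrassCurve.b₈]
    ring
  have hc4 : E₀.c₄ = 16 * (lam ^ 2 - lam + 1) := by
    simp only [E₀, WeierstrassCurve.c₄, WeierstrassCurve.b₂, WeierstrassCurve.b₄]
    ring
  have hvΔ : v E₀.Δ = 1 := by
    rw [hΔeq, map_mul, map_mul, map_pow, map_pow, hv16, hlamU, hlamm1U, one_pow, one_mul, one_mul]
  have hΔne : E₀.Δ ≠ 0 := by
    intro h; rw [h, map_zero] at hvΔ; exact zero_ne_one hvΔ
  haveI : E₀.IsElliptic := (WeierstrassCurve.isElliptic_iff E₀).mpr (isUnit_iff_ne_zero.mpr hΔne)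
  have hjE : E₀.j = j := by
    have h3 : E₀.c₄ ^ 3 = j * (E₀.Δ' : AlgebraicClosure K) := by
      rw [E₀.coe_Δ', hc4, hΔeq]; linear_combination 16 * hlam
    rw [WeierstrassCurve.j, h3, mul_comm j, ← mul_assoc, Units.inv_mul, one_mul]
  have hlamV : lam ∈ VΩ := (VΩ.valuation_le_one_iff _).mp hlam1
  exact potGood_of_model W VΩ hd1 hd2 E₀ hjE (VΩ.zero_mem)
    (VΩ.neg_mem _ (VΩ.add_mem _ _ VΩ.one_mem hlamV)) VΩ.zero_mem hlamV VΩ.zero_mem hvΔ

open Polynomial in
theorem potGood_of_three_unit (W : WeierstrassCurve K) [W.IsElliptic] (j₀ : R)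
    (hj₀ : algebraMap R K j₀ = W.j) (h3 : IsUnit (3 : R)) : PotGoodRed R W := by
  obtain ⟨VΩ, hd1, hd2⟩ := exists_valuationSubring_dominating (R := R) (K := K) (AlgebraicClosure K)
  set v := VΩ.valuation with hv
  set j : AlgebraicClosure K := algebraMap K (AlgebraicClosure K) W.j with hjdef
  have hjV : v j ≤ 1 := by
    rw [hjdef, ← hj₀]; exact (VΩ.valuation_le_one_iff _).mpr (hd1 j₀)
  have hjmem : j ∈ VΩ := (VΩ.valuation_le_one_iff _).mp hjV
  have hv3 : v 3 = 1 := by
    have e : algebraMap K (AlgebraicClosure K) (algebraMap R K 3) = 3 := by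
      rw [map_ofNat, map_ofNat]
    have := ValFin.val_unit VΩ hd1 3 h3
    rwa [e] at this
  have hnat : ∀ n : ℕ, v (n : AlgebraicClosure K) ≤ 1 := fun n =>
    (VΩ.valuation_le_one_iff _).mpr (natCast_mem VΩ n)
  -- a root of the Deuring equation
  obtain ⟨α, hα⟩ : ∃ α : AlgebraicClosure K,
      α ^ 3 * (α ^ 3 - 24) ^ 3 - j * (α ^ 3 - 27) = 0 := by
    let q : Polynomial (AlgebraicClosure K) :=
      X ^ 3 * (X ^ 3 - C 24) ^ 3 - C j * (X ^ 3 - C 27)
    have hdeg : q.natDegree = 12 := by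
      simp only [q]; compute_degree!
    have hdeg' : q.degree ≠ 0 := by
      intro h
      have := Polynomial.natDegree_eq_zero_iff_degree_le_zero.mpr h.le
      omega
    obtain ⟨α, hl⟩ := IsAlgClosed.exists_root q hdeg'
    refine ⟨α, ?_⟩
    simpa [q, Polynomial.IsRoot] using hl
  have hα1 : v α ≤ 1 := by
    by_contra hcon
    push Not at hcon
    have hl0 : α ≠ 0 := by
      rintro rfl
      rw [map_zero] at hcon
      exact absurd hcon (not_lt.mpr zero_le)
    set μ := α⁻¹ with hμ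
    have hvμ : v μ < 1 := by rw [hμ, map_inv₀]; exact inv_lt_one_of_one_lt₀ hcon
    have hid : 1 * (1 + (-((24 : ℕ) : AlgebraicClosure K) * μ ^ 3)) ^ 3 =
        j * (μ ^ 9 * (1 - ((27 : ℕ) : AlgebraicClosure K) * μ ^ 3)) := by
      have : 1 * (1 + (-((24 : ℕ) : AlgebraicClosure K) * μ ^ 3)) ^ 3 -
          j * (μ ^ 9 * (1 - ((27 : ℕ) : AlgebraicClosure K) * μ ^ 3)) =
          μ ^ 12 * (α ^ 3 * (α ^ 3 - 24) ^ 3 - j * (α ^ 3 - 27)) := by
        rw [hμ]; push_cast; field_simp; ring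
      rw [hα, mul_zero] at this
      exact sub_eq_zero.mp this
    have hx : v (-((24 : ℕ) : AlgebraicClosure K) * μ ^ 3) < 1 :=
      mul_lt_one_right v (by rw [Valuation.map_neg]; exact hnat 24) (pow_lt_one' v hvμ three_ne_zero)
    have hy : v (μ ^ 9 * (1 - ((27 : ℕ) : AlgebraicClosure K) * μ ^ 3)) < 1 := by
      refine mul_lt_one_left v (pow_lt_one' v hvμ (by norm_num)) ?_
      refine v.map_sub_le (by rw [map_one]) ?_
      rw [map_mul]
      exact mul_le_one' (hnat 27) (pow_le_one' v hvμ.le 3)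
    exact contra v (map_one v) hjV hx hy hid
  have hαV : α ∈ VΩ := (VΩ.valuation_le_one_iff _).mp hα1
  obtain ⟨β, hβ⟩ : ∃ β : AlgebraicClosure K, β = α ^ 3 - 27 := ⟨_, rfl⟩
  have h27 : (27 : AlgebraicClosure K) ∈ VΩ := by
    have := natCast_mem VΩ 27; simpa using this
  have hβV : β ∈ VΩ := by rw [hβ]; exact sub_mem (pow_mem hαV 3) h27
  have hβ1 : v β ≤ 1 := (VΩ.valuation_le_one_iff _).mpr hβV
  have hβU : v β = 1 := by
    refine le_antisymm hβ1 (not_lt.mp fun hlt => ?_)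
    -- 729 = β * (j - β^3 - 36 β^2 - 270 β - 756)
    have hid : (3 : AlgebraicClosure K) ^ 6 =
        β * (j - (β ^ 3 + ((36 : ℕ) : AlgebraicClosure K) * β ^ 2 +
          ((270 : ℕ) : AlgebraicClosure K) * β + ((756 : ℕ) : AlgebraicClosure K))) := by
      rw [hβ]; push_cast; linear_combination hα
    have hmem : (j - (β ^ 3 + ((36 : ℕ) : AlgebraicClosure K) * β ^ 2 +
          ((270 : ℕ) : AlgebraicClosure K) * β + ((756 : ℕ) : AlgebraicClosure K))) ∈ VΩ := by
      refine sub_mem hjmem ?_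
      refine add_mem (add_mem (add_mem (pow_mem hβV 3) ?_) ?_) ?_
      · exact mul_mem (natCast_mem VΩ 36) (pow_mem hβV 2)
      · exact mul_mem (natCast_mem VΩ 270) hβV
      · exact natCast_mem VΩ 756
    have h1 : v ((3 : AlgebraicClosure K) ^ 6) = 1 := by rw [map_pow, hv3, one_pow]
    rw [hid] at h1
    have h2 := mul_lt_one_left v hlt ((VΩ.valuation_le_one_iff _).mpr hmem)
    rw [h1] at h2
    exact lt_irrefl _ h2
  -- the Deuring curve
  let E₀ : WeierstrassCurve (AlgebraicClosure K) := ⟨α, 0, 1, 0, 0⟩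
  have hΔeq : E₀.Δ = α ^ 3 - 27 := by
    simp only [E₀, WeierstrassCurve.Δ, WeierstrassCurve.b₂, WeierstrassCurve.b₄,
      WeierstrassCurve.b₆, WeierstrassCurve.b₈]
    ring
  have hc4 : E₀.c₄ = α * (α ^ 3 - 24) := by
    simp only [E₀, WeierstrassCurve.c₄, WeierstrassCurve.b₂, WeierstrassCurve.b₄]
    ring
  have hvΔ : v E₀.Δ = 1 := by rw [hΔeq, ← hβ]; exact hβU
  have hΔne : E₀.Δ ≠ 0 := by
    intro h; rw [h, map_zero] at hvΔ; exact zero_ne_one hvΔ
  haveI : E₀.IsElliptic := (WeierstrassCurve.isElliptic_iff E₀).mpr (isUnit_iff_ne_zero.mpr hΔne)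
  have hjE : E₀.j = j := by
    have h3' : E₀.c₄ ^ 3 = j * (E₀.Δ' : AlgebraicClosure K) := by
      rw [E₀.coe_Δ', hc4, hΔeq]; linear_combination hα
    rw [WeierstrassCurve.j, h3', mul_comm j, ← mul_assoc, Units.inv_mul, one_mul]
  exact potGood_of_model W VΩ hd1 hd2 E₀ hjE hαV VΩ.zero_mem VΩ.one_mem VΩ.zero_mem
    VΩ.zero_mem hvΔ

/-- Potential good reduction implies that the `j`-invariant is integral. -/
theorem j_integral_of_potGood (W : WeierstrassCurve K) [W.IsElliptic] (h : PotGoodRed R W) :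
    ∃ r : R, algebraMap R K r = W.j := by
  obtain ⟨L, _, _, _, RL, _, _, _, _, _, φ, hloc, hcomp, hgood⟩ := h
  set WL := W.baseChange L with hWLdef
  haveI : WL.IsElliptic := by
    show (W.map (algebraMap K L)).IsElliptic
    infer_instance
  obtain ⟨C', hC'⟩ : ∃ C' : WeierstrassCurve.VariableChange L, WL.minimal RL = C' • WL := ⟨_, rfl⟩
  have hint : WeierstrassCurve.IsIntegral RL (C' • WL) := by
    rw [← hC']; exact inferInstance
  have hval : IsDedekindDomain.HeightOneSpectrum.valuation L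
      (IsDiscreteValuationRing.maximalIdeal RL) (C' • WL).Δ = 1 := by
    rw [← hC']; exact hgood.goodReduction
  obtain ⟨N, hN⟩ := hint.integral
  have hΔN : (C' • WL).Δ = algebraMap RL L N.Δ := by
    rw [hN, WeierstrassCurve.baseChange, WeierstrassCurve.map_Δ]
  have hc4N : (C' • WL).c₄ = algebraMap RL L N.c₄ := by
    rw [hN, WeierstrassCurve.baseChange, WeierstrassCurve.map_c₄]
  have hdu : IsUnit N.Δ := by
    rw [hΔN, IsDedekindDomain.HeightOneSpectrum.valuation_eq_one_iff_notMem] at hval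
    by_contra hnu
    exact hval ((mem_maximalIdeal _).mpr hnu)
  obtain ⟨d, hd⟩ := hdu
  have hjWL : WL.j = algebraMap K L W.j := WeierstrassCurve.map_j W (algebraMap K L)
  have hjN : (C' • WL).j = WL.j := WeierstrassCurve.variableChange_j WL C'
  -- j * Δ = c₄^3
  have hjΔ : (C' • WL).j * (C' • WL).Δ = (C' • WL).c₄ ^ 3 := by
    rw [WeierstrassCurve.j, ← WeierstrassCurve.coe_Δ', mul_comm, ← mul_assoc, Units.mul_inv, one_mul]
  have hinjRL : Function.Injective (algebraMap RL L) := IsFractionRing.injective RL L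
  -- x with algebraMap x = j
  have hx : algebraMap RL L (N.c₄ ^ 3 * ((d⁻¹ : RLˣ) : RL)) = algebraMap K L W.j := by
    rw [← hjWL, ← hjN]
    have hΔne : (C' • WL).Δ ≠ 0 := by
      rw [hΔN, ← hd]
      intro h
      have := hinjRL (h.trans (map_zero _).symm)
      exact d.ne_zero this
    apply mul_right_cancel₀ hΔne
    rw [hjΔ, hc4N, hΔN, ← hd, ← map_mul, mul_assoc, Units.inv_mul, mul_one, map_pow]
  -- now descend to R
  by_cases hj0 : W.j = 0
  · exact ⟨0, by rw [map_zero, hj0]⟩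
  rcases ValuationRing.isInteger_or_isInteger R (W.j) with ⟨r, hr⟩ | ⟨r, hr⟩
  · exact ⟨r, hr⟩
  · by_cases hru : IsUnit r
    · obtain ⟨u, rfl⟩ := hru
      refine ⟨((u⁻¹ : Rˣ) : R), ?_⟩
      have h1 : algebraMap R K ((u⁻¹ : Rˣ) : R) * algebraMap R K (u : R) = 1 := by
        rw [← map_mul, Units.inv_mul, map_one]
      rw [hr] at h1
      field_simp at h1
      exact h1
    · exfalso
      have h1 : algebraMap RL L (φ r) * algebraMap RL L (N.c₄ ^ 3 * ((d⁻¹ : RLˣ) : RL)) = 1 := by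
        rw [← hcomp, hx, hr, ← map_mul, inv_mul_cancel₀ hj0, map_one]
      have h2 : φ r * (N.c₄ ^ 3 * ((d⁻¹ : RLˣ) : RL)) = 1 := by
        apply hinjRL; rw [map_mul, h1, map_one]
      exact hru (hloc.map_nonunit r (IsUnit.of_mul_eq_one _ h2))

end Groth.Agent.H27.PotGood
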