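import Groth.Prelude.Def_W4sga3xxiRoot
import Mathlib.LinearAlgebra.RootSystem.Finite.Nondegenerate
import Mathlib.LinearAlgebra.RootSystem.Finite.Lemmas
import Mathlib.LinearAlgebra.RootSystem.WeylGroup

set_option autoImplicit false

namespace Groth.Agent.H27

open RootPairing

variable {ι M N : Type*} [AddCommGroup M] [AddCommGroup N] (P : RootPairing ι ℤ M N)

theorem pairing_weightMap (u : P.Aut) (m : M) (x : N) :
    P.toLinearMap (u.weightMap m) x = P.toLinearMap m (u.coweightMap x) := by
  have := LinearMap.congr_fun (RootPairing.Hom.weight_coweight_transpose_apply P P x u.toHom) m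
  simpa using this

/-- An element of the root span orthogonal to all coroots is zero. -/
theorem eq_zero_of_mem_rootSpan_of_coroot_eq_zero [Finite ι] {y : M}
    (hy : y ∈ Submodule.span ℤ (Set.range P.root))
    (h : ∀ i, P.toLinearMap y (P.coroot i) = 0) : y = 0 := by
  have : Fintype ι := Fintype.ofFinite ι
  apply P.eq_zero_of_mem_rootSpan_of_rootForm_self_eq_zero hy
  rw [P.rootForm_apply_apply]
  apply Finset.sum_eq_zero
  intro i _
  have : P.coroot' i y = 0 := h i
  rw [this, mul_zero]

include P in
theorem eq_zero_of_nsmul_eq_zero {x : M} {n : ℕ} (hn : 0 < n) (h : n • x = 0) : x = 0 := by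
  have : Module.IsReflexive ℤ M := .of_isPerfPair P.toLinearMap
  have : IsAddTorsionFree M := .of_isTorsionFree ℤ M
  exact (nsmul_eq_zero_iff_right (Nat.pos_iff_ne_zero.mp hn)).mp h

/-- An automorphism fixing every index and acting trivially modulo the rational span of the roots
is the identity. -/
theorem aut_eq_one [Finite ι] (u : P.Aut)
    (hs : ∀ m : M, ∃ n : ℕ, 0 < n ∧ n • (u • m - m) ∈ Submodule.span ℤ (Set.range P.root))
    (hfix : ∀ i : ι, u • i = i) : u = 1 := by
  have hidx : ∀ i, u.indexEquiv i = i := hfix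
  have hidx' : ∀ i, u.indexEquiv.symm i = i := fun i => by
    conv_lhs => rw [← hidx i]
    simp
  have hw : ∀ m : M, u.weightMap m = m := by
    intro m
    obtain ⟨n, hn, hmem⟩ := hs m
    have h0 : n • (u • m - m) = 0 := by
      apply eq_zero_of_mem_rootSpan_of_coroot_eq_zero P hmem
      intro i
      rw [map_nsmul, LinearMap.smul_apply, map_sub, LinearMap.sub_apply]
      have h1 : P.toLinearMap (u • m) (P.coroot i) = P.toLinearMap m (P.coroot i) := by
        show P.toLinearMap (u.weightMap m) (P.coroot i) = _
        rw [pairing_weightMap, RootPairing.Hom.coroot_coweightMap_apply, hidx']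
      rw [h1, sub_self, smul_zero]
    have h2 := eq_zero_of_nsmul_eq_zero P hn h0
    exact sub_eq_zero.mp h2
  apply RootPairing.Equiv.weightHom_injective P
  ext m
  exact hw m

/-- Elements of the Weyl group move every weight by an element of the root span. -/
theorem weylGroup_smul_sub_mem (w : P.Aut) (hw : w ∈ P.weylGroup) (m : M) :
    w • m - m ∈ Submodule.span ℤ (Set.range P.root) := by
  induction hw using RootPairing.weylGroup.induction generalizing m with
  | mem i =>
    rw [RootPairing.Equiv.reflection_smul, RootPairing.reflection_apply]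
    simp only [sub_sub_cancel_left]
    exact Submodule.neg_mem _ (Submodule.smul_mem _ _ (Submodule.subset_span ⟨i, rfl⟩))
  | one => simp
  | mul g₁ g₂ hg₁ hg₂ h₁ h₂ =>
    have : (g₁ * g₂) • m - m = (g₁ • (g₂ • m) - g₂ • m) + (g₂ • m - m) := by
      rw [mul_smul]; abel
    rw [this]
    exact Submodule.add_mem _ (h₁ _) (h₂ _)

/-- The rational saturation condition used for automorphisms of semisimple type. -/
def SatMem (x : M) : Prop := ∃ n : ℕ, 0 < n ∧ n • x ∈ Submodule.span ℤ (Set.range P.root)

theorem satMem_add {x y : M} (hx : SatMem P x) (hy : SatMem P y) : SatMem P (x + y) := by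
  obtain ⟨n, hn, hx⟩ := hx
  obtain ⟨k, hk, hy⟩ := hy
  refine ⟨n * k, Nat.mul_pos hn hk, ?_⟩
  rw [smul_add]
  apply Submodule.add_mem
  · rw [mul_comm, mul_smul]
    exact Submodule.smul_of_tower_mem _ k hx
  · rw [mul_smul]
    exact Submodule.smul_of_tower_mem _ n hy

theorem satMem_neg {x : M} (hx : SatMem P x) : SatMem P (-x) := by
  obtain ⟨n, hn, hx⟩ := hx
  refine ⟨n, hn, ?_⟩
  rw [smul_neg]
  exact Submodule.neg_mem _ hx

/-- Two automorphisms of semisimple type with the same action on indices are equal. -/
theorem aut_eq_of_indexEquiv_eq [Finite ι] (u v : P.Aut)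
    (hu : ∀ m : M, SatMem P (u • m - m)) (hv : ∀ m : M, SatMem P (v • m - m))
    (h : ∀ i : ι, u • i = v • i) : u = v := by
  have key : v⁻¹ * u = 1 := by
    apply aut_eq_one P
    · intro m
      have h1 : (v⁻¹ * u) • m - m = (u • m - m) + -(v • (v⁻¹ • (u • m)) - v⁻¹ • (u • m)) := by
        rw [mul_smul, smul_inv_smul]; abel
      have := satMem_add P (hu m) (satMem_neg P (hv (v⁻¹ • (u • m))))
      rw [← h1] at this
      exact this
    · intro i
      rw [mul_smul, h i, inv_smul_smul]
  have := mul_eq_one_iff_eq_inv.mp key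
  calc u = v⁻¹⁻¹ := by rw [inv_inv]; exact (inv_mul_eq_one.mp key).symm
    _ = v := inv_inv v

end Groth.Agent.H27
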