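import Groth.Prelude.Def_W4sga3xxiRoot
import Mathlib.LinearAlgebra.RootSystem.Defs
import Mathlib.LinearAlgebra.LinearIndependent.Defs

set_option autoImplicit false

namespace Groth.Agent.H27

open RootD

variable {ι M N : Type*} [AddCommGroup M] [AddCommGroup N] (P : RootPairing ι ℤ M N)

theorem root_neg (i : ι) : P.root (P.reflectionPerm i i) = - P.root i := by
  rw [P.root_reflectionPerm, P.reflection_apply_self]

/-- Elements of `natSpan` are non-negative integer combinations supported on the set. -/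
theorem exists_coeff_of_mem_natSpan {S : Set ι} {x : M} (hx : x ∈ natSpan P S) :
    ∃ c : ι →₀ ℤ, (∀ l, 0 ≤ c l) ∧ c ∈ Finsupp.supported ℤ ℤ S ∧
      Finsupp.linearCombination ℤ P.root c = x := by
  unfold natSpan at hx
  induction hx using AddSubmonoid.closure_induction with
  | mem x hx =>
    obtain ⟨i, hi, rfl⟩ := hx
    refine ⟨Finsupp.single i 1, ?_, ?_, by simp⟩
    · intro l
      by_cases h : l = i
      · subst h; simp
      · simp [Ne.symm h]
    · exact Finsupp.single_mem_supported ℤ 1 hi
  | zero => exact ⟨0, by simp, zero_mem _, by simp⟩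
  | add x y _ _ hx hy =>
    obtain ⟨c, hc0, hcS, hc⟩ := hx
    obtain ⟨d, hd0, hdS, hd⟩ := hy
    refine ⟨c + d, ?_, add_mem hcS hdS, by rw [map_add, hc, hd]⟩
    intro l
    simpa using add_nonneg (hc0 l) (hd0 l)

/-- Non-negative integer combinations supported on the set lie in `natSpan`. -/
theorem mem_natSpan_of_coeff {S : Set ι} (c : ι →₀ ℤ) (hc0 : ∀ l, 0 ≤ c l)
    (hcS : c ∈ Finsupp.supported ℤ ℤ S) :
    Finsupp.linearCombination ℤ P.root c ∈ natSpan P S := by
  rw [Finsupp.linearCombination_apply, Finsupp.sum]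
  refine AddSubmonoid.sum_mem _ ?_
  intro l hl
  have hlS : l ∈ S := hcS hl
  obtain ⟨n, hn⟩ := Int.eq_ofNat_of_zero_le (hc0 l)
  rw [hn, natCast_zsmul]
  exact AddSubmonoid.nsmul_mem _ (AddSubmonoid.subset_closure (Set.mem_image_of_mem P.root hlS)) n

theorem natSpan_mono {S T : Set ι} (h : S ⊆ T) : natSpan P S ≤ natSpan P T :=
  AddSubmonoid.closure_mono (Set.image_mono h)

theorem root_mem_natSpan {S : Set ι} {i : ι} (hi : i ∈ S) : P.root i ∈ natSpan P S :=
  AddSubmonoid.subset_closure ⟨i, hi, rfl⟩

/-- Uniqueness of coefficients for a linearly independent family. -/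
theorem coeff_unique {Δ : Set ι} (hli : LinearIndepOn ℤ P.root Δ) {c d : ι →₀ ℤ}
    (hc : c ∈ Finsupp.supported ℤ ℤ Δ) (hd : d ∈ Finsupp.supported ℤ ℤ Δ)
    (h : Finsupp.linearCombination ℤ P.root c = Finsupp.linearCombination ℤ P.root d) : c = d :=
  linearIndepOn_iffₛ.mp hli c hc d hd h

/-- For a linearly independent family, `natSpan` is a pointed cone. -/
theorem eq_zero_of_mem_natSpan_of_neg_mem {Δ : Set ι} (hli : LinearIndepOn ℤ P.root Δ) {x : M}
    (hx : x ∈ natSpan P Δ) (hx' : -x ∈ natSpan P Δ) : x = 0 := by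
  obtain ⟨c, hc0, hcS, hc⟩ := exists_coeff_of_mem_natSpan P hx
  obtain ⟨d, hd0, hdS, hd⟩ := exists_coeff_of_mem_natSpan P hx'
  have h0 : Finsupp.linearCombination ℤ P.root (c + d) = Finsupp.linearCombination ℤ P.root 0 := by
    rw [map_add, hc, hd]; simp
  have h1 := coeff_unique P hli (add_mem hcS hdS) (zero_mem _) h0
  have h2 : c = 0 := by
    ext l
    have := DFunLike.congr_fun h1 l
    simp at this
    have := hc0 l
    have := hd0 l
    simp
    omega
  rw [← hc, h2]; simp

theorem natSpan_posOf (Δ : Set ι) : natSpan P (posOf P Δ) = natSpan P Δ := by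
  apply le_antisymm
  · unfold natSpan
    rw [AddSubmonoid.closure_le]
    rintro _ ⟨k, hk, rfl⟩
    exact hk
  · apply natSpan_mono
    intro i hi
    exact root_mem_natSpan P hi

theorem nsmul_root_ne_zero (k : ι) {n : ℕ} (hn : 0 < n) : n • P.root k ≠ 0 := by
  intro h
  have h1 : P.toLinearMap (n • P.root k) (P.coroot k) = 0 := by rw [h]; simp
  rw [map_nsmul, LinearMap.smul_apply, P.root_coroot_two k] at h1
  simp at h1
  omega

theorem subset_posOf (Δ : Set ι) : Δ ⊆ posOf P Δ := fun _ hi => root_mem_natSpan P hi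

theorem isPosSys_posOf {Δ : Set ι} (hΔ : IsSimpleSys P Δ) : IsPosSys P (posOf P Δ) := by
  refine ⟨?_, ?_, ?_⟩
  · intro i hi hi'
    have h1 : P.root i ∈ natSpan P Δ := hi
    have h2 : -P.root i ∈ natSpan P Δ := by
      have : P.root (P.reflectionPerm i i) ∈ natSpan P Δ := hi'
      rwa [root_neg] at this
    have := eq_zero_of_mem_natSpan_of_neg_mem P hΔ.linInd h1 h2
    exact P.ne_zero i this
  · intro i
    rcases hΔ.mem_or_neg_mem i with h | h
    · exact Or.inl h
    · right
      show P.root (P.reflectionPerm i i) ∈ natSpan P Δ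
      rwa [root_neg]
  · intro k n hn hk
    rw [natSpan_posOf] at hk
    rcases hΔ.mem_or_neg_mem k with h | h
    · exact h
    · exfalso
      have h2 : -(n • P.root k) ∈ natSpan P Δ := by
        rw [← smul_neg]
        exact AddSubmonoid.nsmul_mem _ h n
      exact nsmul_root_ne_zero P k hn (eq_zero_of_mem_natSpan_of_neg_mem P hΔ.linInd hk h2)

theorem posSys_eq_posOf {Δ S : Set ι} (hΔ : IsSimpleSys P Δ) (hS : IsPosSys P S) (h : Δ ⊆ S) :
    S = posOf P Δ := by
  ext k
  constructor
  · intro hk
    rcases hΔ.mem_or_neg_mem k with h1 | h1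
    · exact h1
    · exfalso
      have h2 : P.reflectionPerm k k ∈ S := by
        apply hS.sat 1 one_pos
        rw [one_smul, root_neg]
        exact natSpan_mono P h h1
      exact hS.disjoint hk h2
  · intro hk
    apply hS.sat 1 one_pos
    rw [one_smul]
    exact natSpan_mono P h hk

/-- If a positive root has a positive coefficient at a simple root `l ≠ i`, then its reflection
in the simple root `i` is again positive. -/
theorem reflectionPerm_mem_posOf_of_coeff_pos {Δ : Set ι} (hΔ : IsSimpleSys P Δ) {i l k : ι}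
    (hi : i ∈ Δ) (hli : l ≠ i) (c : ι →₀ ℤ)
    (hcS : c ∈ Finsupp.supported ℤ ℤ Δ) (hc : Finsupp.linearCombination ℤ P.root c = P.root k)
    (hcl : 0 < c l) : P.reflectionPerm i k ∈ posOf P Δ := by
  classical
  have hroot : P.root (P.reflectionPerm i k) =
      Finsupp.linearCombination ℤ P.root (c - Finsupp.single i (P.pairing k i)) := by
    rw [P.root_reflectionPerm, P.reflection_apply_root, map_sub, hc]
    simp
  rcases hΔ.mem_or_neg_mem (P.reflectionPerm i k) with h | h
  · exact h
  · exfalso
    obtain ⟨d, hd0, hdS, hd⟩ := exists_coeff_of_mem_natSpan P h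
    have h1 : Finsupp.linearCombination ℤ P.root (c - Finsupp.single i (P.pairing k i)) =
        Finsupp.linearCombination ℤ P.root (-d) := by
      rw [← hroot, map_neg, hd, neg_neg]
    have h2 := coeff_unique P hΔ.linInd
      (sub_mem hcS (Finsupp.single_mem_supported ℤ _ hi)) (neg_mem hdS) h1
    have h3 := DFunLike.congr_fun h2 l
    simp only [Finsupp.coe_sub, Pi.sub_apply, Finsupp.coe_neg, Pi.neg_apply] at h3
    rw [Finsupp.single_apply, if_neg (Ne.symm hli)] at h3
    have := hd0 l
    omega

end Groth.Agent.H27
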