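import Groth.Agent.H27.RootSimple
import Groth.Agent.S5450
import Mathlib.LinearAlgebra.RootSystem.Finite.Nondegenerate

set_option autoImplicit false

namespace Groth.Agent.H27

open RootD

variable {ι M N : Type*} [AddCommGroup M] [AddCommGroup N] (P : RootPairing ι ℤ M N)

/-- The roots indexed by `S` generate a pointed cone: no non-trivial non-negative integer
combination vanishes. -/
def Pointed (S : Set ι) : Prop :=
  ∀ c : ι →₀ ℤ, c ∈ Finsupp.supported ℤ ℤ S → (∀ l, 0 ≤ c l) →
    Finsupp.linearCombination ℤ P.root c = 0 → c = 0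

theorem Pointed.mono {S T : Set ι} (h : S ⊆ T) (hT : Pointed P T) : Pointed P S :=
  fun c hcS hc0 hc => hT c (Finsupp.supported_mono h hcS) hc0 hc

theorem pointed_of_isPosSys {S : Set ι} (hS : IsPosSys P S) : Pointed P S := by
  classical
  intro c hcS hc0 hc
  by_contra hne
  obtain ⟨j, hj⟩ : ∃ j, c j ≠ 0 := by
    by_contra h
    push Not at h
    exact hne (Finsupp.ext h)
  have hjpos : 0 < c j := lt_of_le_of_ne (hc0 j) (Ne.symm hj)
  have hjS : j ∈ S := hcS (Finsupp.mem_support_iff.mpr hj)
  have h1 : -P.root j = Finsupp.linearCombination ℤ P.root (c - Finsupp.single j 1) := by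
    rw [map_sub, hc]; simp
  have h2 : -P.root j ∈ natSpan P S := by
    rw [h1]
    apply mem_natSpan_of_coeff
    · intro l
      by_cases hl : l = j
      · subst hl; simp; omega
      · simp [Ne.symm hl, hc0 l]
    · exact sub_mem hcS (Finsupp.single_mem_supported ℤ 1 hjS)
  have h3 : P.reflectionPerm j j ∈ S :=
    hS.sat 1 one_pos (by rw [one_smul, root_neg]; exact h2)
  exact hS.disjoint hjS h3

theorem eq_zero_of_pointed {S : Set ι} (hS : Pointed P S) {x : M}
    (hx : x ∈ natSpan P S) (hx' : -x ∈ natSpan P S) : x = 0 := by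
  obtain ⟨c, hc0, hcS, hc⟩ := exists_coeff_of_mem_natSpan P hx
  obtain ⟨d, hd0, hdS, hd⟩ := exists_coeff_of_mem_natSpan P hx'
  have h0 : Finsupp.linearCombination ℤ P.root (c + d) = 0 := by
    rw [map_add, hc, hd]; simp
  have h1 := hS (c + d) (add_mem hcS hdS) (fun l => by simpa using add_nonneg (hc0 l) (hd0 l)) h0
  have h2 : c = 0 := by
    ext l
    have := DFunLike.congr_fun h1 l
    simp at this
    have := hc0 l
    have := hd0 l
    simp
    omega
  rw [← hc, h2]; simp

/-- The indecomposable elements of `S`. -/
def indec (S : Set ι) : Set ι :=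
  {i | i ∈ S ∧ ∀ j ∈ S, ∀ k ∈ S, P.root i ≠ P.root j + P.root k}

theorem indec_subset (S : Set ι) : indec P S ⊆ S := fun _ h => h.1

theorem natSpan_indec [Finite ι] {S : Set ι} (hS : Pointed P S) :
    natSpan P (indec P S) = natSpan P S := by
  classical
  apply le_antisymm (natSpan_mono P (indec_subset P S))
  let r : ι → ι → Prop := fun j i => j ∈ S ∧ i ∈ S ∧ j ≠ i ∧ P.root i - P.root j ∈ natSpan P S
  have htrans : IsTrans ι r := by
    refine ⟨fun k j i hkj hji => ?_⟩
    obtain ⟨hk, hj, hkj', hkjm⟩ := hkj
    obtain ⟨_, hi, hji', hjim⟩ := hji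
    refine ⟨hk, hi, ?_, ?_⟩
    · rintro rfl
      have h1 : P.root j - P.root k = 0 := by
        apply eq_zero_of_pointed P hS hkjm
        rw [neg_sub]; exact hjim
      exact hkj' (P.root.injective (sub_eq_zero.mp h1)).symm
    · have : P.root i - P.root k = (P.root i - P.root j) + (P.root j - P.root k) := by abel
      rw [this]
      exact add_mem hjim hkjm
  have hirr : Std.Irrefl r := ⟨fun i h => h.2.2.1 rfl⟩
  have hwf : WellFounded r := Finite.wellFounded_of_trans_of_irrefl r
  have key : ∀ i, i ∈ S → P.root i ∈ natSpan P (indec P S) := by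
    intro i
    induction i using hwf.induction with
    | _ i ih =>
      intro hi
      by_cases hind : i ∈ indec P S
      · exact root_mem_natSpan P hind
      · have : ∃ j ∈ S, ∃ k ∈ S, P.root i = P.root j + P.root k := by
          by_contra hcon
          push Not at hcon
          exact hind ⟨hi, hcon⟩
        obtain ⟨j, hj, k, hk, hijk⟩ := this
        have hrj : r j i := by
          refine ⟨hj, hi, ?_, ?_⟩
          · rintro rfl
            have : P.root k = 0 := by
              have := hijk
              rw [left_eq_add] at this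
              exact this
            exact P.ne_zero k this
          · rw [hijk, add_sub_cancel_left]
            exact root_mem_natSpan P hk
        have hrk : r k i := by
          refine ⟨hk, hi, ?_, ?_⟩
          · rintro rfl
            have : P.root j = 0 := by
              have := hijk
              rw [right_eq_add] at this
              exact this
            exact P.ne_zero j this
          · rw [hijk, add_sub_cancel_right]
            exact root_mem_natSpan P hj
        rw [hijk]
        exact add_mem (ih j hrj hj) (ih k hrk hk)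
  unfold natSpan
  rw [AddSubmonoid.closure_le]
  rintro _ ⟨i, hi, rfl⟩
  exact key i hi

theorem pairing_le_zero_of_indec [Finite ι] {S : Set ι}
    (hcov : ∀ i, i ∈ S ∨ P.reflectionPerm i i ∈ S) {i j : ι}
    (hi : i ∈ indec P S) (hj : j ∈ indec P S) (hij : i ≠ j) : P.pairing i j ≤ 0 := by
  by_contra h
  push Not at h
  have hpos : 0 < P.pairingIn ℤ i j := by rwa [pairingIn_int_eq]
  obtain ⟨k, hk⟩ := P.root_sub_root_mem_of_pairingIn_pos hpos hij
  rcases hcov k with hkS | hkS
  · exact hi.2 j hj.1 k hkS (by rw [hk]; abel)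
  · exact hj.2 i hi.1 _ hkS (by rw [root_neg, hk]; abel)

theorem rootForm_root_le_zero [Fintype ι] {i j : ι} (h : P.pairing i j ≤ 0) :
    P.RootForm (P.root i) (P.root j) ≤ 0 := by
  have h1 := (P.posRootForm ℤ).toInvariantForm.two_mul_apply_root_root i j
  have h2 : (0:ℤ) ≤ P.RootForm (P.root j) (P.root j) := P.zero_le_rootForm _
  have h3 : (P.posRootForm ℤ).toInvariantForm.form = P.RootForm := rfl
  rw [h3] at h1
  nlinarith

theorem linearCombination_mem_rootSpan (c : ι →₀ ℤ) :
    Finsupp.linearCombination ℤ P.root c ∈ Submodule.span ℤ (Set.range P.root) := by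
  rw [Finsupp.linearCombination_apply, Finsupp.sum]
  exact Submodule.sum_mem _ fun l _ => Submodule.smul_mem _ _ (Submodule.subset_span ⟨l, rfl⟩)

/-- A pointed family of roots with pairwise non-positive pairings is linearly independent. -/
theorem linearIndepOn_of_pairing_le_zero [Finite ι] {Δ : Set ι} (hpt : Pointed P Δ)
    (hneg : ∀ i ∈ Δ, ∀ j ∈ Δ, i ≠ j → P.pairing i j ≤ 0) : LinearIndepOn ℤ P.root Δ := by
  classical
  have : Fintype ι := Fintype.ofFinite ι
  rw [linearIndepOn_iff]
  intro c hcS hc
  set a : ι →₀ ℤ := c.filter (fun i => 0 < c i) with ha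
  set b : ι →₀ ℤ := -(c.filter (fun i => ¬ 0 < c i)) with hb
  have hab : c = a - b := by
    rw [ha, hb, sub_neg_eq_add, Finsupp.filter_add_filter_not]
  have ha0 : ∀ l, 0 ≤ a l := by
    intro l
    rw [ha, Finsupp.filter_apply]
    split_ifs with h
    · exact le_of_lt h
    · exact le_refl _
  have hb0 : ∀ l, 0 ≤ b l := by
    intro l
    rw [hb, Finsupp.neg_apply, Finsupp.filter_apply]
    by_cases h : 0 < c l
    · rw [if_neg (not_not.mpr h)]; simp
    · rw [if_pos h]; omega
  have haS : a ∈ Finsupp.supported ℤ ℤ Δ := by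
    intro l hl
    apply hcS
    rw [Finset.mem_coe, Finsupp.mem_support_iff] at hl ⊢
    intro h0
    apply hl
    rw [ha, Finsupp.filter_apply, h0]; simp
  have hbS : b ∈ Finsupp.supported ℤ ℤ Δ := by
    intro l hl
    apply hcS
    rw [Finset.mem_coe, Finsupp.mem_support_iff] at hl ⊢
    intro h0
    apply hl
    rw [hb, Finsupp.neg_apply, Finsupp.filter_apply, h0]; simp
  have hapos : ∀ l ∈ a.support, 0 < c l := by
    intro l hl
    rw [Finsupp.mem_support_iff, ha, Finsupp.filter_apply] at hl
    by_contra h
    exact hl (if_neg h)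
  have hbneg : ∀ l ∈ b.support, ¬ 0 < c l := by
    intro l hl
    rw [Finsupp.mem_support_iff, hb, Finsupp.neg_apply, Finsupp.filter_apply] at hl
    intro h
    apply hl
    rw [if_neg (not_not.mpr h)]; simp
  set v := Finsupp.linearCombination ℤ P.root a with hv
  have hvb : Finsupp.linearCombination ℤ P.root b = v := by
    have : Finsupp.linearCombination ℤ P.root (a - b) = 0 := by rw [← hab]; exact hc
    rw [map_sub, sub_eq_zero] at this
    exact this.symm
  have hform : P.RootForm v v ≤ 0 := by
    have e : P.RootForm v v = P.RootForm (Finsupp.linearCombination ℤ P.root a)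
        (Finsupp.linearCombination ℤ P.root b) := by rw [hvb]
    rw [e, Finsupp.linearCombination_apply, Finsupp.linearCombination_apply, Finsupp.sum,
      Finsupp.sum, map_sum]
    apply Finset.sum_nonpos
    intro j hj
    rw [map_sum, LinearMap.sum_apply]
    apply Finset.sum_nonpos
    intro i hi
    rw [map_smul, map_smul, LinearMap.smul_apply, smul_eq_mul, smul_eq_mul]
    have hij : i ≠ j := by
      rintro rfl
      exact hbneg i hj (hapos i hi)
    have h1 : P.RootForm (P.root i) (P.root j) ≤ 0 :=
      rootForm_root_le_zero P (hneg i (haS hi) j (hbS hj) hij)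
    have h2 := ha0 i
    have h3 := hb0 j
    nlinarith [mul_nonneg h2 h3]
  have hv0 : v = 0 := by
    apply P.eq_zero_of_mem_rootSpan_of_rootForm_self_eq_zero (linearCombination_mem_rootSpan P a)
    exact le_antisymm hform (P.zero_le_rootForm v)
  have ha' : a = 0 := hpt a haS ha0 hv0
  have hb' : b = 0 := hpt b hbS hb0 (by rw [hvb, hv0])
  rw [hab, ha', hb', sub_zero]

/-- The indecomposable elements of a system of positive roots form a system of simple roots. -/
theorem isSimpleSys_indec [Finite ι] {S : Set ι} (hS : IsPosSys P S) :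
    IsSimpleSys P (indec P S) := by
  have hpt := pointed_of_isPosSys P hS
  refine ⟨?_, ?_⟩
  · apply linearIndepOn_of_pairing_le_zero P (hpt.mono P (indec_subset P S))
    intro i hi j hj hij
    exact pairing_le_zero_of_indec P hS.cover hi hj hij
  · intro i
    rw [natSpan_indec P hpt]
    rcases hS.cover i with h | h
    · exact Or.inl (root_mem_natSpan P h)
    · right
      rw [← root_neg]
      exact root_mem_natSpan P h

/-- A system of simple roots contained in a system of positive roots consists of its
indecomposable elements. -/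
theorem simpleSys_eq_indec [Finite ι] {Δ S : Set ι} (hΔ : IsSimpleSys P Δ) (hS : IsPosSys P S)
    (h : Δ ⊆ S) : Δ = indec P S := by
  have hSeq : S = posOf P Δ := posSys_eq_posOf P hΔ hS h
  ext k
  constructor
  · intro hk
    have hkpos : k ∈ posOf P Δ := subset_posOf P Δ hk
    have := (Groth.Agent.S5450.result P Δ hΔ k hkpos).mp hk
    refine ⟨h hk, ?_⟩
    intro j hj l hl hjl
    exact this ⟨j, l, hSeq ▸ hj, hSeq ▸ hl, hjl⟩
  · intro hk
    have hkpos : k ∈ posOf P Δ := hSeq ▸ hk.1
    apply (Groth.Agent.S5450.result P Δ hΔ k hkpos).mpr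
    rintro ⟨j, l, hj, hl, hjl⟩
    exact hk.2 j (hSeq ▸ hj) l (hSeq ▸ hl) hjl

theorem existsUnique_simpleSys_subset [Finite ι] {S : Set ι} (hS : IsPosSys P S) :
    ∃! Δ : Set ι, IsSimpleSys P Δ ∧ Δ ⊆ S :=
  ⟨indec P S, ⟨isSimpleSys_indec P hS, indec_subset P S⟩,
    fun _ hΔ => simpleSys_eq_indec P hΔ.1 hS hΔ.2⟩

/-- A closed set of roots containing no pair of opposite roots generates a pointed cone. -/
theorem pointed_of_closed_disjoint [Finite ι] {S : Set ι} (hcl : IsClosedSub P S)
    (hdis : ∀ i ∈ S, P.reflectionPerm i i ∉ S) : Pointed P S := by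
  classical
  let tot : (ι →₀ ℤ) →ₗ[ℤ] ℤ := Finsupp.linearCombination ℤ (fun _ : ι => (1:ℤ))
  have htot_nonneg : ∀ c : ι →₀ ℤ, (∀ l, 0 ≤ c l) → 0 ≤ tot c := by
    intro c hc0
    show 0 ≤ Finsupp.linearCombination ℤ (fun _ : ι => (1:ℤ)) c
    rw [Finsupp.linearCombination_apply, Finsupp.sum]
    apply Finset.sum_nonneg
    intro l _
    simpa using hc0 l
  have htot_single : ∀ l : ι, tot (Finsupp.single l 1) = 1 := by
    intro l
    show Finsupp.linearCombination ℤ (fun _ : ι => (1:ℤ)) (Finsupp.single l 1) = 1
    simp
  have key : ∀ n : ℕ, ∀ c : ι →₀ ℤ, c ∈ Finsupp.supported ℤ ℤ S → (∀ l, 0 ≤ c l) →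
      tot c < n → Finsupp.linearCombination ℤ P.root c = 0 → c = 0 := by
    intro n
    induction n with
    | zero =>
      intro c _ hc0 hn _
      have := htot_nonneg c hc0
      simp at hn
      omega
    | succ n ih =>
      intro c hcS hc0 hn hc
      by_contra hne
      obtain ⟨i₀, hi₀⟩ : ∃ j, c j ≠ 0 := by
        by_contra h
        push Not at h
        exact hne (Finsupp.ext h)
      have hi₀pos : 0 < c i₀ := lt_of_le_of_ne (hc0 i₀) (Ne.symm hi₀)
      have hi₀S : i₀ ∈ S := hcS (Finsupp.mem_support_iff.mpr hi₀)
      have hsum : c.sum (fun l a => a * P.pairing l i₀) = 0 := by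
        rw [← pairing_linearCombination, hc]; simp
      obtain ⟨l, hl, hlneg⟩ : ∃ l ∈ c.support, c l * P.pairing l i₀ < 0 := by
        by_contra hcon
        push Not at hcon
        have h1 : c i₀ * P.pairing i₀ i₀ ≤ c.sum (fun l a => a * P.pairing l i₀) :=
          Finset.single_le_sum (f := fun l => c l * P.pairing l i₀) (fun l hl => hcon l hl)
            (Finsupp.mem_support_iff.mpr hi₀)
        rw [P.pairing_same] at h1
        omega
      have hlpos : 0 < c l :=
        lt_of_le_of_ne (hc0 l) (Ne.symm (Finsupp.mem_support_iff.mp hl))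
      have hpneg : P.pairing l i₀ < 0 := by
        by_contra h
        push Not at h
        have := mul_nonneg (le_of_lt hlpos) h
        omega
      have hlS : l ∈ S := hcS hl
      have hne' : P.root l ≠ -P.root i₀ := by
        intro h
        have : l = P.reflectionPerm i₀ i₀ := P.root_eq_neg_iff.mp h
        exact hdis i₀ hi₀S (this ▸ hlS)
      obtain ⟨m, hm⟩ := P.root_add_root_mem_of_pairingIn_neg
        (by rwa [pairingIn_int_eq]) hne'
      have hmS : m ∈ S := hcl hlS hi₀S hm
      have hli₀ : l ≠ i₀ := by
        rintro rfl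
        rw [P.pairing_same] at hpneg
        omega
      have hml : m ≠ l := by
        rintro rfl
        have h0 : P.root i₀ = 0 := by
          have := hm
          rw [left_eq_add] at this
          exact this
        exact P.ne_zero i₀ h0
      have hmi : m ≠ i₀ := by
        rintro rfl
        have h0 : P.root l = 0 := by
          have := hm
          rw [right_eq_add] at this
          exact this
        exact P.ne_zero l h0
      set c' : ι →₀ ℤ := c - Finsupp.single l 1 - Finsupp.single i₀ 1 + Finsupp.single m 1
        with hc'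
      have hc'0 : ∀ x, 0 ≤ c' x := by
        intro x
        have hx := hc0 x
        simp only [hc', Finsupp.coe_add, Finsupp.coe_sub, Pi.add_apply, Pi.sub_apply,
          Finsupp.single_apply]
        by_cases h1 : l = x
        · subst h1
          rw [if_pos rfl, if_neg (Ne.symm hli₀), if_neg hml]
          omega
        · by_cases h2 : i₀ = x
          · subst h2
            rw [if_neg h1, if_pos rfl, if_neg hmi]
            omega
          · rw [if_neg h1, if_neg h2]
            split_ifs <;> omega
      have hc'S : c' ∈ Finsupp.supported ℤ ℤ S :=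
        add_mem (sub_mem (sub_mem hcS (Finsupp.single_mem_supported ℤ 1 hlS))
          (Finsupp.single_mem_supported ℤ 1 hi₀S)) (Finsupp.single_mem_supported ℤ 1 hmS)
      have htot : tot c' < n := by
        have : tot c' = tot c - 1 - 1 + 1 := by
          rw [hc', map_add, map_sub, map_sub, htot_single, htot_single, htot_single]
        rw [this]
        push_cast at hn
        omega
      have hlc : Finsupp.linearCombination ℤ P.root c' = 0 := by
        rw [hc', map_add, map_sub, map_sub, hc]
        simp only [Finsupp.linearCombination_single, one_smul]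
        rw [hm]; abel
      have h0 := ih c' hc'S hc'0 htot hlc
      have h1 : c' m = 0 := by rw [h0]; rfl
      have h2 : c' m = c m + 1 := by
        simp [hc', Ne.symm hml, Ne.symm hmi]
      have := hc0 m
      omega
  intro c hcS hc0 hc
  exact key ((tot c).toNat + 1) c hcS hc0 (by
    have := htot_nonneg c hc0
    push_cast
    omega) hc

theorem isPosSys_iff_closed [Finite ι] (S : Set ι) :
    IsPosSys P S ↔ ((∀ i ∈ S, P.reflectionPerm i i ∉ S) ∧
      (∀ i : ι, i ∈ S ∨ P.reflectionPerm i i ∈ S) ∧ IsClosedSub P S) := by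
  constructor
  · intro hS
    refine ⟨fun i hi => hS.disjoint hi, hS.cover, ?_⟩
    intro i j k hi hj hk
    apply hS.sat 1 one_pos
    rw [one_smul, hk]
    exact add_mem (root_mem_natSpan P hi) (root_mem_natSpan P hj)
  · rintro ⟨hdis, hcov, hcl⟩
    have hpt := pointed_of_closed_disjoint P hcl hdis
    refine ⟨fun i hi => hdis i hi, hcov, ?_⟩
    intro k n hn hk
    rcases hcov k with h | h
    · exact h
    · exfalso
      have h2 : -(n • P.root k) ∈ natSpan P S := by
        rw [← smul_neg, ← root_neg]
        exact AddSubmonoid.nsmul_mem _ (root_mem_natSpan P h) n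
      exact nsmul_root_ne_zero P k hn (eq_zero_of_pointed P hpt hk h2)

end Groth.Agent.H27
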