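import Groth.Agent.H27.RootSimpleTrans

set_option autoImplicit false

namespace Groth.Agent.H27

open RootD RootPairing

variable {ι M N : Type*} [AddCommGroup M] [AddCommGroup N] (P : RootPairing ι ℤ M N)

/-- An element of the Weyl group mapping every simple root of a positive system into it is
trivial. -/
theorem eq_one_of_simple_mem [Finite ι] {S : Set ι} (hS : IsPosSys P S) {g : P.Aut}
    (hg : g ∈ P.weylGroup) (h : ∀ r ∈ indec P S, g • r ∈ S) : g = 1 := by
  have hΔ : IsSimpleSys P (indec P S) := isSimpleSys_indec P hS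
  have h1 : IsSimpleSys P (img P g (indec P S)) := isSimpleSys_img P g hΔ
  have h2 : img P g (indec P S) ⊆ S := by
    rintro _ ⟨r, hr, rfl⟩
    exact h r hr
  exact eq_one_of_img_eq P hΔ hg (simpleSys_eq_indec P h1 hS h2)

/-- Multiplying on the right by a simple reflection whose root is made negative decreases the
number of positive roots made negative. -/
theorem ncard_inv_lt [Finite ι] {S : Set ι} (hS : IsPosSys P S) {g : P.Aut} {r : ι}
    (hrΔ : r ∈ indec P S) (hgr : g • r ∉ S) :
    {i | i ∈ S ∧ (g * Equiv.reflection P r) • i ∉ S}.ncard < {i | i ∈ S ∧ g • i ∉ S}.ncard := by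
  classical
  have hΔ : IsSimpleSys P (indec P S) := isSimpleSys_indec P hS
  have hSeq : S = posOf P (indec P S) := posSys_eq_posOf P hΔ hS (indec_subset P S)
  have hrS : r ∈ S := indec_subset P S hrΔ
  have hngr : P.reflectionPerm (g • r) (g • r) ∈ S := (hS.cover _).resolve_left hgr
  have hrN : r ∈ {i | i ∈ S ∧ g • i ∉ S} := ⟨hrS, hgr⟩
  refine lt_of_le_of_lt ?_
    (Set.ncard_sdiff_singleton_lt_of_mem hrN (Set.toFinite _))
  apply Set.ncard_le_ncard_of_injOn (fun i => P.reflectionPerm r i)
  · rintro i ⟨hiS, hi⟩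
    rw [mul_smul, refl_smul] at hi
    have hipos : i ∈ posOf P (indec P S) := by rw [← hSeq]; exact hiS
    rcases reflectionPerm_mem_posOf_or P hΔ hrΔ hipos with h | h | h
    · refine ⟨⟨by rw [hSeq]; exact h, hi⟩, ?_⟩
      intro hir
      have hir : P.reflectionPerm r i = r := hir
      have : i = P.reflectionPerm r r := by
        have h3 := congrArg (P.reflectionPerm r) hir
        rwa [P.reflectionPerm_self] at h3
      rw [this] at hiS
      exact hS.disjoint hrS hiS
    · exfalso
      subst h
      apply hi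
      rw [smul_reflectionPerm_self]
      exact hngr
    · exfalso
      apply hi
      apply hS.sat 1 one_pos
      rw [one_smul, root_smul, P.root_reflectionPerm, ← h, map_smul, P.reflection_apply_self,
        smul_neg, smul_neg, ← smul_comm, ← root_smul, ← smul_neg, ← root_neg]
      have h1 := root_mem_natSpan P hngr
      have h2 := add_mem h1 h1
      rw [← two_smul ℤ] at h2
      exact h2
  · intro a _ b _ hab
    exact (P.reflectionPerm r).injective hab

/-- Existence of a Weyl conjugate which is dominant. -/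
theorem exists_weyl_dominant [Finite ι] {S : Set ι} (hS : IsPosSys P S)
    {Γ : Type*} [AddCommGroup Γ] [LinearOrder Γ] [IsOrderedAddMonoid Γ] (f : M →+ Γ) :
    ∃ g : P.Aut, g ∈ P.weylGroup ∧ ∀ i ∈ S, 0 ≤ f (g • P.root i) := by
  have hP2 : ∀ i : ι, i ∈ {i | 0 ≤ f (P.root i)} ∨
      P.reflectionPerm i i ∈ {i | 0 ≤ f (P.root i)} := by
    intro i
    rcases le_total 0 (f (P.root i)) with h | h
    · exact Or.inl h
    · right
      show 0 ≤ f (P.root (P.reflectionPerm i i))
      rw [root_neg, map_neg]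
      exact neg_nonneg.mpr h
  have hcl : IsClosedSub P {i | 0 ≤ f (P.root i)} := by
    intro i j k hi hj hk
    show 0 ≤ f (P.root k)
    rw [hk, map_add]
    exact add_nonneg hi hj
  obtain ⟨g, hg, hgS⟩ := exists_weyl_img_subset P hS hP2 hcl
  refine ⟨g, hg, fun i hi => ?_⟩
  have : g • i ∈ {i | 0 ≤ f (P.root i)} := hgS ⟨i, hi, rfl⟩
  rw [← root_smul]
  exact this

/-- Uniqueness of the dominant Weyl conjugate. -/
theorem dominant_unique [Finite ι] {S : Set ι} (hS : IsPosSys P S)
    {Γ : Type*} [AddCommGroup Γ] [LinearOrder Γ] [IsOrderedAddMonoid Γ] (f : M →+ Γ)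
    (hf : ∀ i ∈ S, 0 ≤ f (P.root i)) :
    ∀ g : P.Aut, g ∈ P.weylGroup → (∀ i ∈ S, 0 ≤ f (g • P.root i)) → ∀ m : M, f (g • m) = f m := by
  classical
  have hΔ : IsSimpleSys P (indec P S) := isSimpleSys_indec P hS
  have hSeq : S = posOf P (indec P S) := posSys_eq_posOf P hΔ hS (indec_subset P S)
  suffices key : ∀ n : ℕ, ∀ g : P.Aut, g ∈ P.weylGroup → {i | i ∈ S ∧ g • i ∉ S}.ncard = n →
      (∀ i ∈ S, 0 ≤ f (g • P.root i)) → ∀ m : M, f (g • m) = f m from
    fun g hg hgf => key _ g hg rfl hgf
  intro n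
  induction n using Nat.strong_induction_on with
  | _ n ih =>
  intro g hg hn hgf m
  by_cases hall : ∀ r ∈ indec P S, g • r ∈ S
  · rw [eq_one_of_simple_mem P hS hg hall, one_smul]
  · push Not at hall
    obtain ⟨r, hrΔ, hgr⟩ := hall
    have hrS : r ∈ S := indec_subset P S hrΔ
    have hngr : P.reflectionPerm (g • r) (g • r) ∈ S := (hS.cover _).resolve_left hgr
    have hzero : f (g • P.root r) = 0 := by
      apply le_antisymm
      · have := hf _ hngr
        rw [root_neg, root_smul, map_neg] at this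
        exact neg_nonneg.mp this
      · exact hgf r hrS
    have hg'm : ∀ m : M, f ((g * Equiv.reflection P r) • m) = f (g • m) := by
      intro m
      rw [mul_smul, Equiv.reflection_smul, P.reflection_apply, smul_sub, map_sub, smul_comm,
        map_zsmul, hzero, smul_zero, sub_zero]
    have hg' : g * Equiv.reflection P r ∈ P.weylGroup :=
      mul_mem hg (P.reflection_mem_weylGroup r)
    rw [← hg'm m]
    have hlt : {i | i ∈ S ∧ (g * Equiv.reflection P r) • i ∉ S}.ncard < n := by
      rw [← hn]
      exact ncard_inv_lt P hS hrΔ hgr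
    apply ih _ hlt _ hg' rfl
    intro i hi
    rw [hg'm]
    exact hgf i hi


/-- `g` moves every root by an element of the rational span of `Δ'`. -/
def Mov (Δ' : Set ι) (g : P.Aut) : Prop :=
  ∀ k : ι, ∃ n : ℕ, 0 < n ∧ n • (P.root (g • k) - P.root k) ∈ Submodule.span ℤ (P.root '' Δ')

theorem mov_one (Δ' : Set ι) : Mov P Δ' 1 := fun k => ⟨1, one_pos, by simp⟩

theorem mov_refl {Δ' : Set ι} {r : ι} (hr : r ∈ Δ') : Mov P Δ' (Equiv.reflection P r) := by
  intro k
  refine ⟨1, one_pos, ?_⟩
  rw [one_smul, refl_smul, P.root_reflectionPerm, P.reflection_apply_root, sub_sub_cancel_left]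
  exact Submodule.neg_mem _ (Submodule.smul_mem _ _ (Submodule.subset_span ⟨r, hr, rfl⟩))

theorem mov_mul {Δ' : Set ι} {x y : P.Aut} (hx : Mov P Δ' x) (hy : Mov P Δ' y) :
    Mov P Δ' (x * y) := by
  intro k
  obtain ⟨n, hn, h1⟩ := hx (y • k)
  obtain ⟨m, hm, h2⟩ := hy k
  refine ⟨n * m, Nat.mul_pos hn hm, ?_⟩
  have : P.root ((x * y) • k) - P.root k =
      (P.root (x • (y • k)) - P.root (y • k)) + (P.root (y • k) - P.root k) := by
    rw [mul_smul]; abel
  rw [this, smul_add]
  apply add_mem
  · rw [mul_comm, mul_smul]; exact nsmul_mem h1 m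
  · rw [mul_smul]; exact nsmul_mem h2 n

theorem mov_inv {Δ' : Set ι} {x : P.Aut} (hx : Mov P Δ' x) : Mov P Δ' x⁻¹ := by
  intro k
  obtain ⟨n, hn, h1⟩ := hx (x⁻¹ • k)
  refine ⟨n, hn, ?_⟩
  rw [smul_inv_smul] at h1
  have : P.root (x⁻¹ • k) - P.root k = -(P.root k - P.root (x⁻¹ • k)) := by abel
  rw [this, smul_neg]
  exact Submodule.neg_mem _ h1

theorem mov_of_mem_reflGroup {Δ' : Set ι} {g : P.Aut} (h : g ∈ reflGroup P Δ') : Mov P Δ' g := by
  induction h using Subgroup.closure_induction with
  | mem x hx =>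
    obtain ⟨r, hr, rfl⟩ := hx
    exact mov_refl P hr
  | one => exact mov_one P Δ'
  | mul x y _ _ hx hy => exact mov_mul P hx hy
  | inv x _ hx => exact mov_inv P hx

/-- Characterisation of the subgroup generated by a part of the simple reflections. -/
theorem mem_reflGroup_iff_mov [Finite ι] {Δ Δ' : Set ι} (hΔ : IsSimpleSys P Δ) (hsub : Δ' ⊆ Δ)
    {g : P.Aut} (hg : g ∈ P.weylGroup) : g ∈ reflGroup P Δ' ↔ Mov P Δ' g := by
  classical
  constructor
  · exact mov_of_mem_reflGroup P
  · have hS : IsPosSys P (posOf P Δ) := isPosSys_posOf P hΔ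
    have hind : indec P (posOf P Δ) = Δ := (simpleSys_eq_indec P hΔ hS (subset_posOf P Δ)).symm
    suffices key : ∀ n : ℕ, ∀ g : P.Aut, g ∈ P.weylGroup →
        {i | i ∈ posOf P Δ ∧ g • i ∉ posOf P Δ}.ncard = n → Mov P Δ' g → g ∈ reflGroup P Δ' from
      fun h => key _ g hg rfl h
    intro n
    induction n using Nat.strong_induction_on with
    | _ n ih =>
    intro g hg hn hmov
    by_cases hall : ∀ r ∈ indec P (posOf P Δ), g • r ∈ posOf P Δ
    · rw [eq_one_of_simple_mem P hS hg hall]
      exact one_mem _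
    · push Not at hall
      obtain ⟨r, hrΔ, hgr⟩ := hall
      have hrΔ' : r ∈ Δ := hind ▸ hrΔ
      have hngr : P.reflectionPerm (g • r) (g • r) ∈ posOf P Δ := (hS.cover _).resolve_left hgr
      have hr' : r ∈ Δ' := by
        by_contra hrn
        obtain ⟨m, hm, hmr⟩ := hmov r
        obtain ⟨d, hdS, hd⟩ := (Finsupp.mem_span_image_iff_linearCombination ℤ).mp hmr
        have hngr' : P.root (P.reflectionPerm (g • r) (g • r)) ∈ natSpan P Δ := hngr
        rw [root_neg] at hngr'
        obtain ⟨c, hc0, hcS, hc⟩ := exists_coeff_of_mem_natSpan P hngr'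
        have heq : -((m : ℤ) • c) - (m : ℤ) • Finsupp.single r 1 = d := by
          apply coeff_unique P hΔ.linInd
            (sub_mem (neg_mem (Submodule.smul_mem _ _ hcS))
              (Submodule.smul_mem _ _ (Finsupp.single_mem_supported ℤ 1 hrΔ')))
            (Finsupp.supported_mono hsub hdS)
          rw [hd, map_sub, map_neg, map_smul, map_smul, hc, Finsupp.linearCombination_single,
            one_smul, natCast_zsmul, natCast_zsmul, smul_neg, neg_neg, smul_sub]
        have h1 := DFunLike.congr_fun heq r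
        have hdr : d r = 0 := by
          by_contra h
          exact hrn (hdS (Finsupp.mem_support_iff.mpr h))
        simp only [Finsupp.sub_apply, Finsupp.neg_apply, Finsupp.smul_apply,
          Finsupp.single_eq_same, smul_eq_mul, mul_one, hdr] at h1
        have h2 := hc0 r
        have hm' : (0:ℤ) < m := by exact_mod_cast hm
        have h3 : 0 ≤ (m : ℤ) * c r := mul_nonneg hm'.le h2
        omega
      have hg' : g * Equiv.reflection P r ∈ P.weylGroup :=
        mul_mem hg (P.reflection_mem_weylGroup r)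
      have hlt : {i | i ∈ posOf P Δ ∧ (g * Equiv.reflection P r) • i ∉ posOf P Δ}.ncard < n := by
        rw [← hn]
        exact ncard_inv_lt P hS hrΔ hgr
      have h1 := ih _ hlt _ hg' rfl (mov_mul P hmov (mov_refl P hr'))
      have h2 : g = (g * Equiv.reflection P r) * Equiv.reflection P r := by
        rw [mul_assoc, refl_mul_self, mul_one]
      rw [h2]
      exact mul_mem h1 (refl_mem_reflGroup P hr')

end Groth.Agent.H27
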