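import Groth.Agent.H27.RootWeyl
import Mathlib.LinearAlgebra.RootSystem.Finite.Lemmas

set_option autoImplicit false

namespace Groth.Agent.H27

open RootD RootPairing

variable {ι M N : Type*} [AddCommGroup M] [AddCommGroup N] (P : RootPairing ι ℤ M N)

theorem pairing_eq_zero_symm [Finite ι] {i j : ι} (h : P.pairing i j = 0) : P.pairing j i = 0 :=
  (P.pairing_eq_zero_iff' (i := i) (j := j)).mp h

theorem not_isOrthogonal_iff [Finite ι] (i j : ι) : ¬ P.IsOrthogonal i j ↔ P.pairing j i ≠ 0 := by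
  constructor
  · intro h h0
    exact h ⟨pairing_eq_zero_symm P h0, h0⟩
  · intro h h0
    exact h h0.2

theorem pairing_add_left {k k₁ k₂ : ι} (h : P.root k = P.root k₁ + P.root k₂) (o : ι) :
    P.pairing k o = P.pairing k₁ o + P.pairing k₂ o := by
  have := congrArg (fun x => P.toLinearMap x (P.coroot o)) h
  simpa [map_add] using this

/-- In an irreducible root datum, any root has a Weyl conjugate not orthogonal to any given
root. -/
theorem exists_weyl_not_orthogonal [Finite ι]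
    (hirr : ∀ R' : Set ι, IsClosedSub P R' → IsSymmSub P R' → IsClosedSub P R'ᶜ →
      IsSymmSub P R'ᶜ → R' = ∅ ∨ R' = Set.univ) (i j : ι) :
    ∃ w : P.Aut, w ∈ P.weylGroup ∧ ¬ P.IsOrthogonal (w • i) j := by
  let A : Set ι := {k | ∃ w : P.Aut, w ∈ P.weylGroup ∧ P.pairing k (w • i) ≠ 0}
  have hAc : ∀ k, k ∈ Aᶜ ↔ ∀ w : P.Aut, w ∈ P.weylGroup → P.pairing k (w • i) = 0 := by
    intro k
    simp only [A, Set.mem_compl_iff, Set.mem_ofPred_eq, not_exists, not_and, not_not]
  have hiA : i ∈ A := ⟨1, one_mem _, by rw [one_smul, P.pairing_same]; norm_num⟩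
  have hpn : ∀ k o : ι, P.pairing (P.reflectionPerm k k) o = - P.pairing k o :=
    fun k o => P.pairing_reflectionPerm_self_left k o
  have h1 : IsSymmSub P A := by
    rintro k ⟨w, hw, hk⟩
    exact ⟨w, hw, by rw [hpn]; exact neg_ne_zero.mpr hk⟩
  have h2 : IsSymmSub P Aᶜ := by
    intro k hk
    rw [hAc] at hk ⊢
    intro w hw
    rw [hpn, hk w hw, neg_zero]
  have h3 : IsClosedSub P Aᶜ := by
    intro k₁ k₂ k hk₁ hk₂ hk
    rw [hAc] at hk₁ hk₂ ⊢
    intro w hw
    rw [pairing_add_left P hk, hk₁ w hw, hk₂ w hw, add_zero]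
  have key : ∀ k₁ k : ι, k₁ ∈ A → k ∈ Aᶜ → P.pairing k₁ k = 0 := by
    rintro k₁ k ⟨w, hw, hk₁⟩ hk
    rw [hAc] at hk
    have hp : P.pairing (w • i) k₁ ≠ 0 := fun h => hk₁ (pairing_eq_zero_symm P h)
    have ho1 : P.pairing (w • i) k = 0 := pairing_eq_zero_symm P (hk w hw)
    have ho2 : P.pairing ((Equiv.reflection P k₁ * w) • i) k = 0 :=
      pairing_eq_zero_symm P (hk _ (mul_mem (P.reflection_mem_weylGroup k₁) hw))
    have hroot : P.root ((Equiv.reflection P k₁ * w) • i) =
        P.root (w • i) - P.pairing (w • i) k₁ • P.root k₁ := by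
      rw [mul_smul]
      show P.root (P.reflectionPerm k₁ (w • i)) = _
      rw [P.root_reflectionPerm, P.reflection_apply_root]
    have := congrArg (fun x => P.toLinearMap x (P.coroot k)) hroot
    simp only [map_sub, map_smul, LinearMap.sub_apply, LinearMap.smul_apply,
      P.root_coroot_eq_pairing, smul_eq_mul] at this
    rw [ho1, ho2] at this
    have h0 : P.pairing (w • i) k₁ * P.pairing k₁ k = 0 := by omega
    exact (mul_eq_zero.mp h0).resolve_left hp
  have h4 : IsClosedSub P A := by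
    intro k₁ k₂ k hk₁ hk₂ hk
    by_contra hkA
    have hkA : k ∈ Aᶜ := hkA
    have e1 := key k₁ k hk₁ hkA
    have e2 := key k₂ k hk₂ hkA
    have := pairing_add_left P hk k
    rw [P.pairing_same, e1, e2] at this
    norm_num at this
  rcases hirr A h4 h1 h3 h2 with h | h
  · rw [h] at hiA; exact absurd hiA (Set.notMem_empty i)
  · have hj : j ∈ A := by rw [h]; trivial
    obtain ⟨w, hw, hjw⟩ := hj
    exact ⟨w, hw, (not_isOrthogonal_iff P (w • i) j).mpr hjw⟩


theorem rootForm_smul [Fintype ι] (w : P.Aut) (hw : w ∈ P.weylGroup) (x y : M) :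
    P.RootForm (w • x) (w • y) = P.RootForm x y :=
  RootPairing.InvariantForm.apply_weylGroup_smul P (B := (P.posRootForm ℤ).toInvariantForm)
    (⟨w, hw⟩ : P.weylGroup) x y

theorem rootForm_root_pos [Fintype ι] (i : ι) : 0 < P.RootForm (P.root i) (P.root i) :=
  P.rootForm_pos_of_ne_zero (Submodule.subset_span ⟨i, rfl⟩) (P.ne_zero i)

/-- The possible ratios of squared lengths of two roots in an irreducible reduced root datum. -/
theorem len_ratio [Fintype ι] [P.IsReduced]
    (hirr : ∀ R' : Set ι, IsClosedSub P R' → IsSymmSub P R' → IsClosedSub P R'ᶜ →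
      IsSymmSub P R'ᶜ → R' = ∅ ∨ R' = Set.univ) (a b : ι) :
    P.RootForm (P.root a) (P.root a) = P.RootForm (P.root b) (P.root b) ∨
    P.RootForm (P.root a) (P.root a) = 2 * P.RootForm (P.root b) (P.root b) ∨
    2 * P.RootForm (P.root a) (P.root a) = P.RootForm (P.root b) (P.root b) ∨
    P.RootForm (P.root a) (P.root a) = 3 * P.RootForm (P.root b) (P.root b) ∨
    3 * P.RootForm (P.root a) (P.root a) = P.RootForm (P.root b) (P.root b) := by
  have : Module.IsReflexive ℤ M := .of_isPerfPair P.toLinearMap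
  have : Module.IsReflexive ℤ N := .of_isPerfPair P.flip.toLinearMap
  obtain ⟨w, hw, hno⟩ := exists_weyl_not_orthogonal P hirr a b
  have hl : P.RootForm (P.root (w • a)) (P.root (w • a)) = P.RootForm (P.root a) (P.root a) := by
    rw [root_smul, rootForm_smul P w hw]
  rw [← hl]
  set a' := w • a
  let B : P.InvariantForm := (P.posRootForm ℤ).toInvariantForm
  have hswap : P.pairing b a' * P.RootForm (P.root a') (P.root a') =
      P.pairing a' b * P.RootForm (P.root b) (P.root b) :=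
    B.pairing_mul_eq_pairing_mul_swap a' b
  have hset := P.pairingIn_pairingIn_mem_set_of_isCrystal_of_isRed a' b
  rw [pairingIn_int_eq, pairingIn_int_eq] at hset
  have hno' : P.pairing b a' ≠ 0 := (not_isOrthogonal_iff P a' b).mp hno
  have hpa := rootForm_root_pos P a'
  have hpb := rootForm_root_pos P b
  simp only [Set.mem_insert_iff, Set.mem_singleton_iff, Prod.mk.injEq] at hset
  rcases hset with ⟨h1, h2⟩ | ⟨h1, h2⟩ | ⟨h1, h2⟩ | ⟨h1, h2⟩ | ⟨h1, h2⟩ | ⟨h1, h2⟩ | ⟨h1, h2⟩ |
    ⟨h1, h2⟩ | ⟨h1, h2⟩ | ⟨h1, h2⟩ | ⟨h1, h2⟩ | ⟨h1, h2⟩ | ⟨h1, h2⟩ <;>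
  rw [h1, h2] at hswap <;> omega

end Groth.Agent.H27
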