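import Groth.Agent.H27.RootWeyl
import Groth.Agent.S5457
import Mathlib.Algebra.Order.Group.PiLex

set_option autoImplicit false

namespace Groth.Agent.H27

open RootD

variable {ι M N : Type*} [AddCommGroup M] [AddCommGroup N] (P : RootPairing ι ℤ M N)

/-- The sum of the coefficients. -/
noncomputable def tot : (ι →₀ ℤ) →ₗ[ℤ] ℤ := Finsupp.linearCombination ℤ (fun _ : ι => (1:ℤ))

theorem tot_nonneg (c : ι →₀ ℤ) (hc0 : ∀ l, 0 ≤ c l) : 0 ≤ tot c := by
  show 0 ≤ Finsupp.linearCombination ℤ (fun _ : ι => (1:ℤ)) c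
  rw [Finsupp.linearCombination_apply, Finsupp.sum]
  apply Finset.sum_nonneg
  intro l _
  simpa using hc0 l

theorem tot_single (l : ι) (a : ℤ) : tot (Finsupp.single l a) = a := by
  show Finsupp.linearCombination ℤ (fun _ : ι => (1:ℤ)) (Finsupp.single l a) = a
  simp

/-- A positive root that is not simple is the sum of a positive root and a simple root occurring in
it. -/
theorem exists_sub_simple [Finite ι] {Δ : Set ι} {k : ι} (c : ι →₀ ℤ)
    (hc0 : ∀ l, 0 ≤ c l) (hcS : c ∈ Finsupp.supported ℤ ℤ Δ)
    (hc : Finsupp.linearCombination ℤ P.root c = P.root k) (hk : k ∉ Δ) :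
    ∃ l ∈ Δ, 0 < c l ∧ ∃ k', P.root k' = P.root k - P.root l := by
  obtain ⟨l, hcl, hlk⟩ := exists_pos_coeff_pairing_pos P hc0 hc
  have hlΔ : l ∈ Δ := hcS (Finsupp.mem_support_iff.mpr hcl.ne')
  have hkl : k ≠ l := fun h => hk (h ▸ hlΔ)
  have hpos : 0 < P.pairingIn ℤ k l := by
    rw [pairingIn_int_eq]; exact pairing_pos_symm P hlk
  obtain ⟨k', hk'⟩ := P.root_sub_root_mem_of_pairingIn_pos hpos hkl
  exact ⟨l, hlΔ, hcl, k', hk'⟩

/-- Induction on positive roots along their coefficient vectors. -/
theorem coeff_induction [Finite ι] {Δ : Set ι} (hΔ : IsSimpleSys P Δ) (p : ι → (ι →₀ ℤ) → Prop)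
    (hsimple : ∀ i ∈ Δ, p i (Finsupp.single i 1))
    (hadd : ∀ (k k' l : ι) (c : ι →₀ ℤ), (∀ j, 0 ≤ c j) → c ∈ Finsupp.supported ℤ ℤ Δ →
      Finsupp.linearCombination ℤ P.root c = P.root k' → l ∈ Δ →
      P.root k = P.root k' + P.root l → p k' c → p k (c + Finsupp.single l 1)) :
    ∀ (k : ι) (c : ι →₀ ℤ), (∀ j, 0 ≤ c j) → c ∈ Finsupp.supported ℤ ℤ Δ →
      Finsupp.linearCombination ℤ P.root c = P.root k → p k c := by
  classical
  suffices key : ∀ n : ℕ, ∀ (k : ι) (c : ι →₀ ℤ), (∀ j, 0 ≤ c j) → c ∈ Finsupp.supported ℤ ℤ Δ →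
      Finsupp.linearCombination ℤ P.root c = P.root k → tot c < n → p k c by
    intro k c hc0 hcS hc
    exact key ((tot c).toNat + 1) k c hc0 hcS hc (by
      have := tot_nonneg c hc0
      push_cast
      omega)
  intro n
  induction n with
  | zero =>
    intro k c hc0 _ _ hn
    have := tot_nonneg c hc0
    simp at hn
    omega
  | succ n ih =>
    intro k c hc0 hcS hc hn
    by_cases hk : k ∈ Δ
    · have : c = Finsupp.single k 1 := by
        apply coeff_unique P hΔ.linInd hcS (Finsupp.single_mem_supported ℤ 1 hk)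
        rw [hc]; simp
      rw [this]
      exact hsimple k hk
    · obtain ⟨l, hlΔ, hcl, k', hk'⟩ := exists_sub_simple P c hc0 hcS hc hk
      have hc' : c = (c - Finsupp.single l 1) + Finsupp.single l 1 := by simp
      rw [hc']
      apply hadd k k' l _ _ _ _ hlΔ (by rw [hk']; abel)
      · apply ih
        · intro j
          by_cases hj : j = l
          · subst hj; simp; omega
          · simp [Ne.symm hj, hc0 j]
        · exact sub_mem hcS (Finsupp.single_mem_supported ℤ 1 hlΔ)
        · rw [map_sub, hc, hk']; simp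
        · rw [map_sub, tot_single]
          push_cast at hn
          omega
      · intro j
        by_cases hj : j = l
        · subst hj; simp; omega
        · simp [Ne.symm hj, hc0 j]
      · exact sub_mem hcS (Finsupp.single_mem_supported ℤ 1 hlΔ)
      · rw [map_sub, hc, hk']; simp


theorem posOf_subset_of_closed [Finite ι] {Δ P' : Set ι} (hΔ : IsSimpleSys P Δ)
    (hcl : IsClosedSub P P') (h : Δ ⊆ P') : posOf P Δ ⊆ P' := by
  intro k hk
  obtain ⟨c, hc0, hcS, hc⟩ := exists_coeff_of_mem_natSpan P hk
  exact coeff_induction P hΔ (fun k _ => k ∈ P') (fun i hi => h hi)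
    (fun k k' l c _ _ _ hl hkk hk' => hcl hk' (h hl) hkk) k c hc0 hcS hc

/-- A system of positive roots can be moved by the Weyl group into any closed set of roots
containing each root or its opposite. -/
theorem exists_weyl_img_subset [Finite ι] {S P' : Set ι} (hS : IsPosSys P S)
    (hP2 : ∀ i : ι, i ∈ P' ∨ P.reflectionPerm i i ∈ P') (hcl : IsClosedSub P P') :
    ∃ g : P.Aut, g ∈ P.weylGroup ∧ img P g S ⊆ P' := by
  classical
  suffices key : ∀ n : ℕ, ∀ S : Set ι, IsPosSys P S → (S \ P').ncard = n →
      ∃ g : P.Aut, g ∈ P.weylGroup ∧ img P g S ⊆ P' from key _ S hS rfl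
  intro n
  induction n using Nat.strong_induction_on with
  | _ n ih =>
  intro S hS hn
  by_cases hsub : S ⊆ P'
  · exact ⟨1, one_mem _, by rw [img_one]; exact hsub⟩
  · have hΔ : IsSimpleSys P (indec P S) := isSimpleSys_indec P hS
    have hSeq : S = posOf P (indec P S) := posSys_eq_posOf P hΔ hS (indec_subset P S)
    obtain ⟨i, hiΔ, hiP'⟩ : ∃ i ∈ indec P S, i ∉ P' := by
      by_contra hcon
      push Not at hcon
      exact hsub (by rw [hSeq]; exact posOf_subset_of_closed P hΔ hcl hcon)
    have hiS : i ∈ S := indec_subset P S hiΔ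
    have hnegi : P.reflectionPerm i i ∈ P' := (hP2 i).resolve_left hiP'
    let s : P.Aut := RootPairing.Equiv.reflection P i
    have hs : s ∈ P.weylGroup := P.reflection_mem_weylGroup i
    have hS1 : IsPosSys P (img P s S) := isPosSys_img P s hS
    have hsub1 : img P s S \ P' ⊆ (S \ P') \ {i} := by
      rintro k ⟨⟨k', hk', rfl⟩, hkS'⟩
      have hkS' : P.reflectionPerm i k' ∉ P' := hkS'
      show P.reflectionPerm i k' ∈ (S \ P') \ {i}
      rw [hSeq] at hk'
      rcases reflectionPerm_mem_posOf_or P hΔ hiΔ hk' with h | h | h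
      · refine ⟨⟨?_, hkS'⟩, ?_⟩
        · rw [hSeq]; exact h
        · intro hki
          have hki : P.reflectionPerm i k' = i := hki
          have : k' = P.reflectionPerm i i := by
            have h3 := congrArg (P.reflectionPerm i) hki
            rwa [P.reflectionPerm_self] at h3
          rw [this, ← hSeq] at hk'
          exact hS.disjoint hiS hk'
      · exfalso
        subst h
        exact hkS' hnegi
      · exfalso
        apply hkS'
        apply hcl hnegi hnegi
        rw [P.root_reflectionPerm, ← h, map_smul, P.reflection_apply_self, ← root_neg, two_smul]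
    have hlt : (img P s S \ P').ncard < n := by
      rw [← hn]
      apply Set.ncard_lt_ncard _ (Set.toFinite _)
      refine ⟨fun k hk => (hsub1 hk).1, fun hcon => ?_⟩
      have := hsub1 (hcon ⟨hiS, hiP'⟩)
      exact this.2 rfl
    obtain ⟨g, hg, hgS⟩ := ih _ hlt _ hS1 rfl
    exact ⟨g * s, mul_mem hg hs, by rw [← img_img]; exact hgS⟩

/-- The structure of a closed set of roots containing a system of positive roots. -/
theorem closed_eq_union [Finite ι] {S Δ P' : Set ι} (hS : IsPosSys P S) (hΔ : IsSimpleSys P Δ)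
    (hΔS : Δ ⊆ S) (hcl : IsClosedSub P P') (hSP : S ⊆ P') :
    P' = S ∪ {k : ι | -P.root k ∈ natSpan P {i : ι | i ∈ Δ ∧ P.reflectionPerm i i ∈ P'}} := by
  classical
  have hSeq : S = posOf P Δ := posSys_eq_posOf P hΔ hS hΔS
  set Δ' : Set ι := {i : ι | i ∈ Δ ∧ P.reflectionPerm i i ∈ P'} with hΔ'
  have hΔ'Δ : Δ' ⊆ Δ := fun i hi => hi.1
  have hnn : ∀ k : ι, P.reflectionPerm (P.reflectionPerm k k) (P.reflectionPerm k k) = k := by
    intro k
    apply P.root.injective
    rw [root_neg, root_neg, neg_neg]
  have hsupp : ∀ (c : ι →₀ ℤ) (l : ι), (∀ j, 0 ≤ c j) →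
      (c + Finsupp.single l 1 ∈ Finsupp.supported ℤ ℤ Δ' ↔
        c ∈ Finsupp.supported ℤ ℤ Δ' ∧ l ∈ Δ') := by
    intro c l hc0
    constructor
    · intro h
      constructor
      · intro j hj
        apply h
        rw [Finset.mem_coe, Finsupp.mem_support_iff] at hj ⊢
        have h1 := hc0 j
        have h2 : 0 ≤ (Finsupp.single l (1:ℤ)) j := by
          rw [Finsupp.single_apply]; split_ifs <;> simp
        rw [Finsupp.add_apply]
        omega
      · apply h
        rw [Finset.mem_coe, Finsupp.mem_support_iff]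
        have h1 := hc0 l
        simp
        omega
    · rintro ⟨h1, h2⟩
      exact add_mem h1 (Finsupp.single_mem_supported ℤ 1 h2)
  apply Set.Subset.antisymm
  · intro k hk
    by_cases hkS : k ∈ S
    · exact Or.inl hkS
    · right
      have hnk : P.reflectionPerm k k ∈ posOf P Δ := by
        rw [← hSeq]; exact (hS.cover k).resolve_left hkS
      obtain ⟨c, hc0, hcS, hc⟩ := exists_coeff_of_mem_natSpan P hnk
      have key := coeff_induction P hΔ
        (fun k c => P.reflectionPerm k k ∈ P' → c ∈ Finsupp.supported ℤ ℤ Δ')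
        (fun i hi hi' => Finsupp.single_mem_supported ℤ 1 ⟨hi, hi'⟩)
        (fun k k' l c hc0 hcS hc hl hkk ih hk => by
          rw [hsupp c l hc0]
          have hk'pos : k' ∈ P' := by
            apply hSP
            rw [hSeq]
            show P.root k' ∈ natSpan P Δ
            rw [← hc]
            exact mem_natSpan_of_coeff P c hc0 hcS
          have hlP : l ∈ P' := hSP (hΔS hl)
          have h1 : P.reflectionPerm l l ∈ P' := by
            apply hcl hk hk'pos
            rw [root_neg, root_neg, hkk]; abel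
          have h2 : P.reflectionPerm k' k' ∈ P' := by
            apply hcl hk hlP
            rw [root_neg, root_neg, hkk]; abel
          exact ⟨ih h2, hl, h1⟩)
        (P.reflectionPerm k k) c hc0 hcS hc
      rw [hnn] at key
      have := key hk
      show -P.root k ∈ natSpan P Δ'
      rw [← root_neg, ← hc]
      exact mem_natSpan_of_coeff P c hc0 this
  · intro k hk
    rcases hk with hk | hk
    · exact hSP hk
    · have hk : -P.root k ∈ natSpan P Δ' := hk
      obtain ⟨c, hc0, hcS, hc⟩ := exists_coeff_of_mem_natSpan P hk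
      rw [← root_neg] at hc
      have key := coeff_induction P hΔ
        (fun k c => c ∈ Finsupp.supported ℤ ℤ Δ' → P.reflectionPerm k k ∈ P')
        (fun i hi hi' => by
          have : i ∈ Δ' := hi' (by simp)
          exact this.2)
        (fun k k' l c hc0 hcS hc hl hkk ih hk => by
          rw [hsupp c l hc0] at hk
          have h1 := ih hk.1
          have h2 := hk.2.2
          apply hcl h1 h2
          rw [root_neg, root_neg, root_neg, hkk]; abel)
        (P.reflectionPerm k k) c hc0 (Finsupp.supported_mono hΔ'Δ hcS) hc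
      rw [hnn] at key
      exact key hcS


/-- Systems of positive roots exist (lexicographic order along the coroots). -/
theorem exists_isPosSys [Finite ι] : ∃ S : Set ι, IsPosSys P S := by
  classical
  obtain ⟨n, ⟨e⟩⟩ := Finite.exists_equiv_fin ι
  let φ : M →+ Lex (Fin n → ℤ) :=
    { toFun := fun m => toLex (fun j => P.toLinearMap m (P.coroot (e.symm j)))
      map_zero' := by
        apply ofLex.injective
        funext j
        simp
        rfl
      map_add' := by
        intro x y
        apply ofLex.injective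
        funext j
        simp
        rfl }
  have hφ : ∀ i, φ (P.root i) ≠ 0 := by
    intro i h
    have h1 : ofLex (φ (P.root i)) (e i) = 2 := by
      show P.toLinearMap (P.root i) (P.coroot (e.symm (e i))) = 2
      simp
    rw [h] at h1
    have h2 : ofLex (0 : Lex (Fin n → ℤ)) (e i) = 0 := rfl
    rw [h2] at h1
    norm_num at h1
  refine ⟨_, Groth.Agent.S5457.result P φ (fun i => ?_)⟩
  rcases lt_trichotomy (φ (P.root i)) 0 with h | h | h
  · exact Or.inr h
  · exact absurd h (hφ i)
  · exact Or.inl h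


theorem exists_isSimpleSys [Finite ι] : ∃ Δ : Set ι, IsSimpleSys P Δ := by
  obtain ⟨S, hS⟩ := exists_isPosSys P
  exact ⟨_, isSimpleSys_indec P hS⟩

/-- A closed set of roots containing each root or its opposite is of the form `ℕΔ ∪ (-ℕΔ')`. -/
theorem exists_simple_closed_eq [Finite ι] {P' : Set ι}
    (hP2 : ∀ i : ι, i ∈ P' ∨ P.reflectionPerm i i ∈ P') (hcl : IsClosedSub P P') :
    ∃ Δ Δ' : Set ι, IsSimpleSys P Δ ∧ Δ' ⊆ Δ ∧
      P' = posOf P Δ ∪ {k : ι | -P.root k ∈ natSpan P Δ'} := by
  obtain ⟨S₀, hS₀⟩ := exists_isPosSys P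
  obtain ⟨g, hg, hgS⟩ := exists_weyl_img_subset P hS₀ hP2 hcl
  have hS : IsPosSys P (img P g S₀) := isPosSys_img P g hS₀
  have hΔ := isSimpleSys_indec P hS
  have hSeq : img P g S₀ = posOf P (indec P (img P g S₀)) :=
    posSys_eq_posOf P hΔ hS (indec_subset P _)
  refine ⟨indec P (img P g S₀),
    {i | i ∈ indec P (img P g S₀) ∧ P.reflectionPerm i i ∈ P'}, hΔ, fun i hi => hi.1, ?_⟩
  rw [← hSeq]
  exact closed_eq_union P hS hΔ (indec_subset P _) hcl hgS

end Groth.Agent.H27
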