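import Groth.Agent.H27.RootDom
import Groth.Agent.H27.RootIrr
import Groth.Agent.H27.RootPara

set_option autoImplicit false

namespace Groth.Agent.H27

open RootD RootPairing

variable {ι M N : Type*} [AddCommGroup M] [AddCommGroup N] (P : RootPairing ι ℤ M N)

/-- `2 B(x, α) = ⟨x, α^∨⟩ B(α, α)` for the canonical bilinear form. -/
theorem two_mul_rootForm_root [Fintype ι] (x : M) (j : ι) :
    2 * P.RootForm x (P.root j) = P.coroot' j x * P.RootForm (P.root j) (P.root j) := by
  have h := P.rootForm_reflection_reflection_apply j x (P.root j)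
  rw [P.reflection_apply_self, P.reflection_apply] at h
  simp only [map_neg, map_sub, map_smul, LinearMap.sub_apply, LinearMap.smul_apply,
    smul_eq_mul] at h
  linarith

/-- The sum of the positive roots is a regular dominant weight. -/
theorem exists_regular_dominant [Fintype ι] {S : Set ι} (hS : IsPosSys P S) :
    ∃ ρ : M, ∀ i ∈ S, 0 < P.coroot' i ρ := by
  classical
  refine ⟨∑ j ∈ Finset.univ.filter (· ∈ S), P.root j, fun i hi => ?_⟩
  have hnn : ∀ j, j ∈ S → P.reflectionPerm i j ∉ S → 0 ≤ P.pairing j i := by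
    intro j hj hsj
    by_contra hneg
    push Not at hneg
    apply hsj
    apply hS.sat 1 one_pos
    rw [one_smul, P.root_reflectionPerm, P.reflection_apply_root]
    obtain ⟨n, hn⟩ := Int.eq_ofNat_of_zero_le (show 0 ≤ - P.pairing j i by omega)
    have : P.root j - P.pairing j i • P.root i = P.root j + n • P.root i := by
      rw [sub_eq_add_neg, ← neg_smul, hn, natCast_zsmul]
    rw [this]
    exact add_mem (root_mem_natSpan P hj) (AddSubmonoid.nsmul_mem _ (root_mem_natSpan P hi) n)
  have hsymm : ∀ j, P.pairing (P.reflectionPerm i j) i = - P.pairing j i := by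
    intro j
    rw [← P.pairing_reflectionPerm i j i, P.pairing_reflectionPerm_self_right]
  have hsum : P.coroot' i (∑ j ∈ Finset.univ.filter (· ∈ S), P.root j) =
      ∑ j ∈ Finset.univ.filter (· ∈ S), P.pairing j i := by
    simp only [map_sum, root_coroot'_eq_pairing]
  rw [hsum, ← Finset.sum_filter_add_sum_filter_not (Finset.univ.filter (· ∈ S))
      (fun j => P.reflectionPerm i j ∈ S)]
  have h1 : ∑ j ∈ (Finset.univ.filter (· ∈ S)).filter (fun j => P.reflectionPerm i j ∈ S),
      P.pairing j i = 0 := by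
    refine Finset.sum_involution (fun j _ => P.reflectionPerm i j) ?_ ?_ ?_ ?_
    · intro j _
      show P.pairing j i + P.pairing (P.reflectionPerm i j) i = 0
      rw [hsymm, add_neg_cancel]
    · intro j _ hne heq
      have heq' : P.reflectionPerm i j = j := heq
      apply hne
      have := hsymm j
      rw [heq'] at this
      omega
    · intro j hj
      simp only [Finset.mem_filter, Finset.mem_univ, true_and] at hj ⊢
      exact ⟨hj.2, by rw [P.reflectionPerm_self]; exact hj.1⟩
    · intro j _
      exact P.reflectionPerm_self i j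
  have h2 : P.pairing i i ≤
      ∑ j ∈ (Finset.univ.filter (· ∈ S)).filter (fun j => ¬ P.reflectionPerm i j ∈ S),
        P.pairing j i := by
    apply Finset.single_le_sum (f := fun j => P.pairing j i)
    · intro j hj
      simp only [Finset.mem_filter, Finset.mem_univ, true_and] at hj
      exact hnn j hj.1 hj.2
    · simp only [Finset.mem_filter, Finset.mem_univ, true_and]
      exact ⟨hi, hS.disjoint hi⟩
  rw [h1, zero_add]
  rw [P.pairing_same] at h2
  linarith

/-- For a dominant additive map `f` and `w` in the Weyl group, `f - f ∘ w` is a combination of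
the positive coroots with non-negative coefficients. -/
theorem dominant_sub_weyl [Fintype ι] {S : Set ι} (hS : IsPosSys P S)
    {Γ : Type*} [AddCommGroup Γ] [LinearOrder Γ] [IsOrderedAddMonoid Γ] (f : M →+ Γ)
    (hf : ∀ i ∈ S, 0 ≤ f (P.root i)) (g : P.Aut) (hg : g ∈ P.weylGroup) :
    ∃ c : ι → Γ, (∀ i, 0 ≤ c i) ∧ (∀ i, i ∉ S → c i = 0) ∧
      ∀ m : M, f m - f (g • m) = ∑ i, (P.coroot' i m) • c i := by
  classical
  suffices key : ∀ n : ℕ, ∀ g : P.Aut, g ∈ P.weylGroup → {i | i ∈ S ∧ g • i ∉ S}.ncard = n →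
      ∃ c : ι → Γ, (∀ i, 0 ≤ c i) ∧ (∀ i, i ∉ S → c i = 0) ∧
      ∀ m : M, f m - f (g • m) = ∑ i, (P.coroot' i m) • c i from key _ g hg rfl
  intro n
  induction n using Nat.strong_induction_on with
  | _ n ih =>
  intro g hg hn
  by_cases hall : ∀ r ∈ indec P S, g • r ∈ S
  · rw [eq_one_of_simple_mem P hS hg hall]
    refine ⟨fun _ => 0, fun _ => le_rfl, fun _ _ => rfl, fun m => ?_⟩
    simp
  · push Not at hall
    obtain ⟨r, hrΔ, hgr⟩ := hall
    have hrS : r ∈ S := indec_subset P S hrΔ
    have hngr : P.reflectionPerm (g • r) (g • r) ∈ S := (hS.cover _).resolve_left hgr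
    have hd : 0 ≤ - f (g • P.root r) := by
      have := hf _ hngr
      rwa [root_neg, root_smul, map_neg] at this
    have hg' : g * Equiv.reflection P r ∈ P.weylGroup :=
      mul_mem hg (P.reflection_mem_weylGroup r)
    have hlt : {i | i ∈ S ∧ (g * Equiv.reflection P r) • i ∉ S}.ncard < n := by
      rw [← hn]
      exact ncard_inv_lt P hS hrΔ hgr
    obtain ⟨c', hc'0, hc'S, hc'⟩ := ih _ hlt _ hg' rfl
    have hg'm : ∀ m : M, f ((g * Equiv.reflection P r) • m) =
        f (g • m) - (P.coroot' r m) • f (g • P.root r) := by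
      intro m
      rw [mul_smul, Equiv.reflection_smul, P.reflection_apply, smul_sub, map_sub, smul_comm,
        map_zsmul]
    refine ⟨c' + Pi.single r (- f (g • P.root r)), ?_, ?_, ?_⟩
    · intro i
      rw [Pi.add_apply]
      refine add_nonneg (hc'0 i) ?_
      by_cases h : i = r
      · subst h; rw [Pi.single_eq_same]; exact hd
      · rw [Pi.single_eq_of_ne h]
    · intro i hi
      have h : i ≠ r := fun h => hi (h ▸ hrS)
      rw [Pi.add_apply, hc'S i hi, Pi.single_eq_of_ne h, add_zero]
    · intro m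
      have h1 := hc' m
      rw [hg'm] at h1
      simp only [Pi.add_apply, smul_add, Finset.sum_add_distrib]
      rw [← h1, Finset.sum_eq_single r (fun b _ hb => by rw [Pi.single_eq_of_ne hb, smul_zero])
        (fun h => absurd (Finset.mem_univ r) h), Pi.single_eq_same, smul_neg]
      abel

/-- A dominant additive map weakly dominates its Weyl conjugates. -/
theorem dominant_weak [Finite ι] {S : Set ι} (hS : IsPosSys P S)
    {Γ : Type*} [AddCommGroup Γ] [LinearOrder Γ] [IsOrderedAddMonoid Γ] (f : M →+ Γ)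
    (hf : ∀ i ∈ S, 0 ≤ f (P.root i)) (g : P.Aut) (hg : g ∈ P.weylGroup) (m : M)
    (hm : ∀ i ∈ S, 0 ≤ P.coroot' i m) : f (g • m) ≤ f m := by
  cases nonempty_fintype ι
  obtain ⟨c, hc0, hcS, hc⟩ := dominant_sub_weyl P hS f hf g hg
  rw [← sub_nonneg, hc m]
  apply Finset.sum_nonneg
  intro i _
  by_cases hi : i ∈ S
  · exact zsmul_nonneg (hc0 i) (hm i hi)
  · rw [hcS i hi, smul_zero]

/-- Every weight is conjugate under the Weyl group to a dominant one. -/
theorem exists_weyl_dominant_weight [Finite ι] {S : Set ι} (hS : IsPosSys P S) (m : M) :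
    ∃ g : P.Aut, g ∈ P.weylGroup ∧ ∀ i ∈ S, 0 ≤ P.coroot' i (g • m) := by
  cases nonempty_fintype ι
  obtain ⟨g, hg, hgS⟩ := exists_weyl_dominant P hS ((P.RootForm m : M →ₗ[ℤ] ℤ).toAddMonoidHom)
  refine ⟨g⁻¹, inv_mem hg, fun i hi => ?_⟩
  have h1 : 0 ≤ P.RootForm m (g • P.root i) := hgS i hi
  have h2 : P.RootForm m (g • P.root i) = P.RootForm (g⁻¹ • m) (P.root i) := by
    rw [← rootForm_smul P g hg (g⁻¹ • m) (P.root i), smul_inv_smul]
  rw [h2] at h1
  have h3 := two_mul_rootForm_root P (g⁻¹ • m) i
  have h4 := rootForm_root_pos P i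
  by_contra hneg
  push Not at hneg
  have : P.coroot' i (g⁻¹ • m) * P.RootForm (P.root i) (P.root i) < 0 :=
    mul_neg_of_neg_of_pos hneg h4
  linarith

/-- An element of the Weyl group is determined by its action on the roots. -/
theorem weyl_eq_of_smul_eq [Finite ι] {g h : P.Aut} (hg : g ∈ P.weylGroup)
    (hh : h ∈ P.weylGroup) (heq : ∀ i : ι, g • i = h • i) : g = h := by
  obtain ⟨Δ, hΔ⟩ := exists_isSimpleSys P
  have hk : h⁻¹ * g ∈ P.weylGroup := mul_mem (inv_mem hh) hg
  have himg : img P (h⁻¹ * g) Δ = Δ := by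
    ext k
    constructor
    · rintro ⟨j, hj, rfl⟩
      show (h⁻¹ * g) • j ∈ Δ
      rw [mul_smul, heq j, inv_smul_smul]
      exact hj
    · intro hk'
      refine ⟨k, hk', ?_⟩
      show (h⁻¹ * g) • k = k
      rw [mul_smul, heq k, inv_smul_smul]
  have h1 := eq_one_of_img_eq P hΔ hk himg
  exact (inv_mul_eq_one.mp h1).symm

/-- The Weyl group is finite. -/
theorem weylGroup_finite [Finite ι] : (P.weylGroup : Set P.Aut).Finite := by
  apply Set.Finite.of_finite_image
    (f := fun g : P.Aut => (MulAction.toPerm g : Equiv.Perm ι)) (Set.toFinite _)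
  intro g hg h hh heq
  apply weyl_eq_of_smul_eq P hg hh
  intro i
  exact congrArg (fun σ : Equiv.Perm ι => σ i) heq

/-- The orbit of a weight under the Weyl group, as a finset. -/
theorem exists_orbit_finset [Finite ι] (m : M) :
    ∃ X : Finset M, ∀ x, x ∈ X ↔ ∃ k : P.Aut, k ∈ P.weylGroup ∧ k • m = x := by
  have hfin := weylGroup_finite P
  refine ⟨(hfin.image (fun g : P.Aut => g • m)).toFinset, fun x => ?_⟩
  rw [Set.Finite.mem_toFinset]
  exact Iff.rfl

end Groth.Agent.H27
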