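import Groth.Agent.H27.RootBase
import Groth.Agent.H27.RootAut
import Groth.Agent.S5446
import Groth.Agent.S5452
import Mathlib.LinearAlgebra.RootSystem.WeylGroup

set_option autoImplicit false

namespace Groth.Agent.H27

open RootD RootPairing

theorem linearIndependent_smul_iff {κ X : Type*} [AddCommGroup X] (v : κ → X) (c : κ → ℤ)
    (hc : ∀ i, c i ≠ 0) :
    LinearIndependent ℤ (fun i => c i • v i) ↔ LinearIndependent ℤ v := by
  classical
  rw [linearIndependent_iff', linearIndependent_iff']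
  constructor
  · intro h s g hg i hi
    have h1 : ∑ j ∈ s, (g j * ∏ l ∈ s.erase j, c l) • (c j • v j) = 0 := by
      have : ∀ j ∈ s, (g j * ∏ l ∈ s.erase j, c l) • (c j • v j) =
          (∏ l ∈ s, c l) • (g j • v j) := by
        intro j hj
        rw [smul_smul, smul_smul, mul_assoc, Finset.prod_erase_mul s c hj, mul_comm]
      rw [Finset.sum_congr rfl this, ← Finset.smul_sum, hg, smul_zero]
    have h2 := h s _ h1 i hi
    have h3 : ∏ l ∈ s.erase i, c l ≠ 0 := Finset.prod_ne_zero_iff.mpr (fun l _ => hc l)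
    exact (mul_eq_zero.mp h2).resolve_right h3
  · intro h s g hg i hi
    have h1 : ∑ j ∈ s, (g j * c j) • v j = 0 := by
      rw [← hg]
      apply Finset.sum_congr rfl
      intro j _
      rw [mul_smul]
    exact (mul_eq_zero.mp (h s _ h1 i hi)).resolve_right (hc i)

section One

variable {ι M N : Type*} [AddCommGroup M] [AddCommGroup N] (P : RootPairing ι ℤ M N)

theorem natSpan_le_rootSpan (S : Set ι) {x : M} (hx : x ∈ natSpan P S) :
    x ∈ Submodule.span ℤ (Set.range P.root) := by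
  have : natSpan P S ≤ (Submodule.span ℤ (Set.range P.root)).toAddSubmonoid :=
    AddSubmonoid.closure_le.mpr fun _ ⟨i, _, hi⟩ => Submodule.subset_span ⟨i, hi⟩
  exact this hx

theorem nsmul_root_injective [Finite ι] (k : ι) {a b : ℕ} (h : a • P.root k = b • P.root k) :
    a = b := by
  by_contra hne
  rcases Nat.lt_or_gt_of_ne hne with hlt | hlt
  · obtain ⟨d, hd, hd0⟩ : ∃ d, b = a + d ∧ 0 < d := ⟨b - a, by omega, by omega⟩
    rw [hd, add_nsmul] at h
    have : d • P.root k = 0 := by simpa using h.symm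
    exact nsmul_root_ne_zero P k hd0 this
  · obtain ⟨d, hd, hd0⟩ : ∃ d, a = b + d ∧ 0 < d := ⟨a - b, by omega, by omega⟩
    rw [hd, add_nsmul] at h
    have : d • P.root k = 0 := by simpa using h
    exact nsmul_root_ne_zero P k hd0 this

/-- In a reduced root datum, positively proportional roots are equal. -/
theorem eq_of_nsmul_root_eq [Finite ι] [P.IsReduced] {k l : ι} {a b : ℕ} (ha : 0 < a) (hb : 0 < b)
    (hab : a • P.root k = b • P.root l) : k = l ∧ a = b := by
  have hnli : ¬ LinearIndependent ℤ ![P.root k, P.root l] := by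
    intro hli
    have := LinearIndependent.pair_iff.mp hli (a : ℤ) (-(b : ℤ)) (by
      rw [neg_smul, natCast_zsmul, natCast_zsmul, hab]; simp)
    have h0 : (a : ℤ) = 0 := this.1
    omega
  rcases IsReduced.eq_or_eq_neg k l hnli with h | h
  · have hkl : k = l := P.root.injective h
    subst hkl
    exact ⟨rfl, nsmul_root_injective P k hab⟩
  · exfalso
    rw [h, smul_neg] at hab
    have : (a + b) • P.root l = 0 := by
      rw [add_nsmul, ← hab]; simp
    exact nsmul_root_ne_zero P l (by omega) this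

theorem isIndiv_of_isReduced [Finite ι] [P.IsReduced] (i : ι) : IsIndiv P i := by
  intro j hj
  have h1 : 2 • P.root j = 1 • P.root i := by rw [two_nsmul, one_smul, ← hj, two_smul]
  have := eq_of_nsmul_root_eq P two_pos one_pos h1
  omega

/-- Every root is, up to sign, a non-negative rational combination of `Δ`. -/
def RatCone (Δ : Set ι) : Prop :=
  ∀ k : ι, ∃ n : ℕ, 0 < n ∧ (n • P.root k ∈ natSpan P Δ ∨ n • (-P.root k) ∈ natSpan P Δ)

theorem isSimpleSys_iff_rat [Finite ι] [P.IsReduced] (Δ : Set ι) :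
    IsSimpleSys P Δ ↔ LinearIndepOn ℤ P.root Δ ∧ RatCone P Δ := by
  constructor
  · intro h
    refine ⟨h.linInd, fun k => ⟨1, one_pos, ?_⟩⟩
    simpa using h.mem_or_neg_mem k
  · rintro ⟨h1, h2⟩
    exact Groth.Agent.S5446.result P Δ (fun i _ => isIndiv_of_isReduced P i) h1 h2

end One

section PMor

variable {ι M N ι' M' N' : Type*} [AddCommGroup M] [AddCommGroup N] [AddCommGroup M']
  [AddCommGroup N'] (P : RootPairing ι ℤ M N) (P' : RootPairing ι' ℤ M' N')

/-- The data of a `p`-morphism of root data (the exponents are only required to be positive). -/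
structure PMor (f : M' →ₗ[ℤ] M) (g : N →ₗ[ℤ] N') (u : ι ≃ ι') (q : ι → ℕ) : Prop where
  hfg : ∀ (m' : M') (n : N), P.toLinearMap (f m') n = P'.toLinearMap m' (g n)
  hq : ∀ i, 0 < q i
  hroot : ∀ i : ι, f (P'.root (u i)) = (q i : ℤ) • P.root i
  hcoroot : ∀ i : ι, g (P.coroot i) = (q i : ℤ) • P'.coroot (u i)

variable {P P'} {f : M' →ₗ[ℤ] M} {g : N →ₗ[ℤ] N'} {u : ι ≃ ι'} {q : ι → ℕ}

namespace PMor

theorem hroot' (h : PMor P P' f g u q) (i : ι) : f (P'.root (u i)) = q i • P.root i := by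
  rw [h.hroot, natCast_zsmul]

theorem eq_zero [Finite ι'] (h : PMor P P' f g u q) {y : M'}
    (hy : y ∈ Submodule.span ℤ (Set.range P'.root)) (hfy : f y = 0) : y = 0 := by
  apply eq_zero_of_mem_rootSpan_of_coroot_eq_zero P' hy
  intro i'
  have h1 := h.hfg y (P.coroot (u.symm i'))
  rw [hfy, map_zero, LinearMap.zero_apply, h.hcoroot, Equiv.apply_symm_apply, map_smul,
    smul_eq_mul] at h1
  have hq : (q (u.symm i') : ℤ) ≠ 0 := by exact_mod_cast (h.hq _).ne'
  exact (mul_eq_zero.mp h1.symm).resolve_left hq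

theorem inj [Finite ι'] (h : PMor P P' f g u q) {x y : M'}
    (hx : x ∈ Submodule.span ℤ (Set.range P'.root))
    (hy : y ∈ Submodule.span ℤ (Set.range P'.root)) (hxy : f x = f y) : x = y := by
  have := h.eq_zero (Submodule.sub_mem _ hx hy) (by rw [map_sub, hxy, sub_self])
  exact sub_eq_zero.mp this

theorem pairing_rel (h : PMor P P' f g u q) (i j : ι) :
    (q i : ℤ) * P'.pairing (u j) (u i) = (q j : ℤ) * P.pairing j i := by
  have h1 := h.hfg (P'.root (u j)) (P.coroot i)
  rw [h.hroot, h.hcoroot, map_smul, map_smul, LinearMap.smul_apply, smul_eq_mul, smul_eq_mul,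
    P.root_coroot_eq_pairing, P'.root_coroot_eq_pairing] at h1
  exact h1.symm

theorem u_refl [Finite ι] [P.IsReduced] (h : PMor P P' f g u q) (i j : ι) :
    u (P.reflectionPerm i j) = P'.reflectionPerm (u i) (u j) ∧ q (P.reflectionPerm i j) = q j := by
  have huk : u (u.symm (P'.reflectionPerm (u i) (u j))) = P'.reflectionPerm (u i) (u j) :=
    Equiv.apply_symm_apply _ _
  have h1 : q (u.symm (P'.reflectionPerm (u i) (u j))) •
      P.root (u.symm (P'.reflectionPerm (u i) (u j))) = q j • P.root (P.reflectionPerm i j) := by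
    rw [← h.hroot', huk, P'.root_reflectionPerm, P'.reflection_apply_root, map_sub, map_smul,
      h.hroot' j, h.hroot i, P.root_reflectionPerm, P.reflection_apply_root, smul_sub]
    congr 1
    rw [smul_smul, mul_comm, h.pairing_rel i j, mul_smul, natCast_zsmul]
  obtain ⟨e1, e2⟩ := eq_of_nsmul_root_eq P (h.hq _) (h.hq j) h1
  rw [← e1]
  exact ⟨huk, e2⟩

theorem push (h : PMor P P' f g u q) {S : Set ι} {x : M'} (hx : x ∈ natSpan P' (u '' S)) :
    f x ∈ natSpan P S := by
  unfold natSpan at hx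
  induction hx using AddSubmonoid.closure_induction with
  | mem x hx =>
    obtain ⟨_, ⟨j, hj, rfl⟩, rfl⟩ := hx
    rw [h.hroot']
    exact nsmul_mem (root_mem_natSpan P hj) _
  | zero => rw [map_zero]; exact zero_mem _
  | add x y _ _ hx hy => rw [map_add]; exact add_mem hx hy

theorem lift (h : PMor P P' f g u q) {S : Set ι} {x : M} (hx : x ∈ natSpan P S) :
    ∃ (Q : ℕ) (y : M'), 0 < Q ∧ y ∈ natSpan P' (u '' S) ∧ f y = Q • x := by
  unfold natSpan at hx
  induction hx using AddSubmonoid.closure_induction with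
  | mem x hx =>
    obtain ⟨j, hj, rfl⟩ := hx
    exact ⟨q j, P'.root (u j), h.hq j, root_mem_natSpan P' ⟨j, hj, rfl⟩, h.hroot' j⟩
  | zero => exact ⟨1, 0, one_pos, zero_mem _, by simp⟩
  | add x y _ _ hx hy =>
    obtain ⟨Q₁, y₁, hQ₁, hy₁, e₁⟩ := hx
    obtain ⟨Q₂, y₂, hQ₂, hy₂, e₂⟩ := hy
    refine ⟨Q₁ * Q₂, Q₂ • y₁ + Q₁ • y₂, Nat.mul_pos hQ₁ hQ₂,
      add_mem (nsmul_mem hy₁ _) (nsmul_mem hy₂ _), ?_⟩
    rw [map_add, map_nsmul, map_nsmul, e₁, e₂, smul_add, ← mul_smul, ← mul_smul, mul_comm Q₂ Q₁]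

theorem transfer [Finite ι'] (h : PMor P P' f g u q) {S : Set ι} {k : ι} {n : ℕ} (hn : 0 < n)
    (hk : n • P.root k ∈ natSpan P S) :
    ∃ N : ℕ, 0 < N ∧ N • P'.root (u k) ∈ natSpan P' (u '' S) := by
  obtain ⟨Q, y, hQ, hy, hfy⟩ := h.lift hk
  refine ⟨Q * n, Nat.mul_pos hQ hn, ?_⟩
  have heq : (Q * n) • P'.root (u k) = q k • y := by
    apply h.inj
    · exact nsmul_mem (Submodule.subset_span (Set.mem_range_self (u k))) _
    · exact nsmul_mem (natSpan_le_rootSpan P' _ hy) _
    · rw [map_nsmul, map_nsmul, h.hroot', hfy, ← mul_smul, ← mul_smul, ← mul_smul]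
      congr 1
      ring
  rw [heq]
  exact nsmul_mem hy _

theorem isPosSys_iff [Finite ι] [Finite ι'] [P.IsReduced] (h : PMor P P' f g u q) (S : Set ι) :
    IsPosSys P S ↔ IsPosSys P' (u '' S) := by
  have hneg : ∀ i, u (P.reflectionPerm i i) = P'.reflectionPerm (u i) (u i) :=
    fun i => (h.u_refl i i).1
  constructor
  · intro hS
    refine ⟨?_, ?_, ?_⟩
    · rintro _ ⟨i, hi, rfl⟩ hi'
      rw [← hneg] at hi'
      obtain ⟨j, hj, hji⟩ := hi'
      rw [u.injective hji] at hj
      exact hS.disjoint hi hj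
    · intro i'
      obtain ⟨i, rfl⟩ := u.surjective i'
      rcases hS.cover i with h1 | h1
      · exact Or.inl ⟨i, h1, rfl⟩
      · right
        rw [← hneg]
        exact ⟨_, h1, rfl⟩
    · intro k' n hn hk'
      obtain ⟨k, rfl⟩ := u.surjective k'
      have := h.push hk'
      rw [map_nsmul, h.hroot', ← mul_smul] at this
      exact ⟨k, hS.sat _ (Nat.mul_pos hn (h.hq k)) this, rfl⟩
  · intro hS'
    refine ⟨?_, ?_, ?_⟩
    · intro i hi hi'
      exact hS'.disjoint ⟨i, hi, rfl⟩ (by rw [← hneg]; exact ⟨_, hi', rfl⟩)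
    · intro i
      rcases hS'.cover (u i) with h1 | h1
      · obtain ⟨j, hj, hji⟩ := h1
        left
        rwa [u.injective hji] at hj
      · rw [← hneg] at h1
        obtain ⟨j, hj, hji⟩ := h1
        right
        rwa [u.injective hji] at hj
    · intro k n hn hk
      obtain ⟨N, hN, hNk⟩ := h.transfer hn hk
      obtain ⟨j, hj, hjk⟩ := hS'.sat N hN hNk
      rwa [u.injective hjk] at hj

theorem ratCone_iff [Finite ι] [Finite ι'] [P.IsReduced] (h : PMor P P' f g u q) (Δ : Set ι) :
    RatCone P Δ ↔ RatCone P' (u '' Δ) := by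
  have hneg : ∀ i, u (P.reflectionPerm i i) = P'.reflectionPerm (u i) (u i) :=
    fun i => (h.u_refl i i).1
  constructor
  · intro hc k'
    obtain ⟨k, rfl⟩ := u.surjective k'
    obtain ⟨n, hn, h1 | h1⟩ := hc k
    · obtain ⟨N, hN, hNk⟩ := h.transfer hn h1
      exact ⟨N, hN, Or.inl hNk⟩
    · rw [← root_neg] at h1
      obtain ⟨N, hN, hNk⟩ := h.transfer hn h1
      rw [hneg, root_neg] at hNk
      exact ⟨N, hN, Or.inr hNk⟩
  · intro hc k
    obtain ⟨n, hn, h1 | h1⟩ := hc (u k)
    · have := h.push h1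
      rw [map_nsmul, h.hroot', ← mul_smul] at this
      exact ⟨n * q k, Nat.mul_pos hn (h.hq k), Or.inl this⟩
    · have := h.push h1
      rw [map_nsmul, map_neg, h.hroot', ← smul_neg, ← mul_smul] at this
      exact ⟨n * q k, Nat.mul_pos hn (h.hq k), Or.inr this⟩

theorem linearIndepOn_iff [Finite ι'] (h : PMor P P' f g u q) (Δ : Set ι) :
    LinearIndepOn ℤ P'.root (u '' Δ) ↔ LinearIndepOn ℤ P.root Δ := by
  have h1 : LinearIndepOn ℤ P'.root (u '' Δ) ↔ LinearIndepOn ℤ (P'.root ∘ u) Δ :=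
    ⟨fun hh => hh.comp_of_image u.injective.injOn, fun hh => hh.image_of_comp u P'.root⟩
  have hinj : Set.InjOn f (Submodule.span ℤ ((P'.root ∘ u) '' Δ)) := by
    intro x hx y hy hxy
    have hsub : Submodule.span ℤ ((P'.root ∘ u) '' Δ) ≤ Submodule.span ℤ (Set.range P'.root) :=
      Submodule.span_mono (by rintro _ ⟨i, _, rfl⟩; exact ⟨u i, rfl⟩)
    exact h.inj (hsub hx) (hsub hy) hxy
  have h2 := f.linearIndepOn_iff_of_injOn hinj
  have h3 : f ∘ (P'.root ∘ u) = fun i => (q i : ℤ) • P.root i := by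
    funext i
    exact h.hroot i
  rw [h1, ← h2, h3]
  exact linearIndependent_smul_iff (fun i : Δ => P.root i) (fun i : Δ => (q i : ℤ))
    (fun i => by exact_mod_cast (h.hq i).ne')

theorem isSimpleSys_iff [Finite ι] [Finite ι'] [P.IsReduced] [P'.IsReduced]
    (h : PMor P P' f g u q) (Δ : Set ι) : IsSimpleSys P Δ ↔ IsSimpleSys P' (u '' Δ) := by
  rw [isSimpleSys_iff_rat, isSimpleSys_iff_rat, h.linearIndepOn_iff, h.ratCone_iff]

theorem q_smul [Finite ι] [P.IsReduced] (h : PMor P P' f g u q) (w : P.Aut)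
    (hw : w ∈ P.weylGroup) (i : ι) : q (w • i) = q i := by
  induction hw using RootPairing.weylGroup.induction generalizing i with
  | mem j => exact (h.u_refl j i).2
  | one => rw [one_smul]
  | mul g₁ g₂ hg₁ hg₂ h₁ h₂ => rw [mul_smul, h₁, h₂]

/-- The isomorphism of Weyl groups induced by a `p`-morphism. -/
theorem exists_weylEquiv [Finite ι] [Finite ι'] [P.IsReduced] (h : PMor P P' f g u q) :
    ∃ ubar : P.weylGroup ≃* P'.weylGroup,
      (∀ i : ι, ubar (RootPairing.weylGroup.ofIdx P i) = RootPairing.weylGroup.ofIdx P' (u i)) ∧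
      ∀ (w : P.weylGroup) (i : ι), u ((w : P.Aut) • i) = ((ubar w : P'.weylGroup) : P'.Aut) • u i := by
  have hinj : Function.Injective P.weylGroupToPerm := Groth.Agent.S5452.result P
  have hinj' : Function.Injective P'.weylGroupToPerm := Groth.Agent.S5452.result P'
  let c : Equiv.Perm ι ≃* Equiv.Perm ι' := u.permCongrHom
  let φ : P.weylGroup →* Equiv.Perm ι' := c.toMonoidHom.comp P.weylGroupToPerm
  have hφinj : Function.Injective φ := c.injective.comp hinj
  have hc : ∀ i, c (P.reflectionPerm i) = P'.reflectionPerm (u i) := by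
    intro i
    ext j'
    show u (P.reflectionPerm i (u.symm j')) = P'.reflectionPerm (u i) j'
    rw [(h.u_refl i (u.symm j')).1, Equiv.apply_symm_apply]
  have hrange : φ.range = P'.weylGroupToPerm.range := by
    rw [P'.range_weylGroupToPerm, MonoidHom.range_comp, P.range_weylGroupToPerm,
      MonoidHom.map_closure]
    congr 1
    ext σ
    constructor
    · rintro ⟨_, ⟨i, rfl⟩, rfl⟩
      exact ⟨u i, (hc i).symm⟩
    · rintro ⟨i', rfl⟩
      exact ⟨_, ⟨u.symm i', rfl⟩, by
        show c (P.reflectionPerm (u.symm i')) = _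
        rw [hc, Equiv.apply_symm_apply]⟩
  let ubar : P.weylGroup ≃* P'.weylGroup :=
    (MonoidHom.ofInjective hφinj).trans
      ((MulEquiv.subgroupCongr hrange).trans (MonoidHom.ofInjective hinj').symm)
  have hubar : ∀ w, P'.weylGroupToPerm (ubar w) = φ w := by
    intro w
    show P'.weylGroupToPerm ((MonoidHom.ofInjective hinj').symm
      (MulEquiv.subgroupCongr hrange (MonoidHom.ofInjective hφinj w))) = φ w
    rw [MonoidHom.apply_ofInjective_symm]
    rfl
  refine ⟨ubar, ?_, ?_⟩
  · intro i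
    apply hinj'
    rw [hubar]
    show c (P.reflectionPerm i) = P'.reflectionPerm (u i)
    exact hc i
  · intro w i
    show u (P.weylGroupToPerm w i) = P'.weylGroupToPerm (ubar w) (u i)
    rw [hubar]
    show _ = u (P.weylGroupToPerm w (u.symm (u i)))
    rw [Equiv.symm_apply_apply]

end PMor

end PMor

end Groth.Agent.H27
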