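import Groth.Agent.H27.RootD
import Groth.Agent.H27.RootAut
import Mathlib.LinearAlgebra.RootSystem.Finite.Lemmas

set_option autoImplicit false

namespace Groth.Agent.H27

open RootD

variable {ι M N : Type*} [AddCommGroup M] [AddCommGroup N] (P : RootPairing ι ℤ M N)

theorem pairingIn_int_eq (i j : ι) : P.pairingIn ℤ i j = P.pairing i j := by
  simpa using P.algebraMap_pairingIn ℤ i j

theorem pairing_pos_symm [Finite ι] {i j : ι} (h : 0 < P.pairing i j) : 0 < P.pairing j i := by
  have := (P.zero_lt_pairingIn_iff' ℤ (i := i) (j := j)).mp (by rwa [pairingIn_int_eq])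
  rwa [pairingIn_int_eq] at this

theorem pairing_linearCombination (c : ι →₀ ℤ) (k : ι) :
    P.toLinearMap (Finsupp.linearCombination ℤ P.root c) (P.coroot k) =
      c.sum (fun l a => a * P.pairing l k) := by
  rw [Finsupp.linearCombination_apply, Finsupp.sum, map_sum, LinearMap.sum_apply, Finsupp.sum]
  apply Finset.sum_congr rfl
  intro l _
  rw [map_smul, LinearMap.smul_apply, P.root_coroot_eq_pairing, smul_eq_mul]

/-- A root which is a non-negative combination has a positive pairing with a root that occurs
with positive coefficient. -/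
theorem exists_pos_coeff_pairing_pos {c : ι →₀ ℤ} (hc0 : ∀ l, 0 ≤ c l) {k : ι}
    (hc : Finsupp.linearCombination ℤ P.root c = P.root k) :
    ∃ l, 0 < c l ∧ 0 < P.pairing l k := by
  have h2 : (2:ℤ) = c.sum (fun l a => a * P.pairing l k) := by
    rw [← pairing_linearCombination, hc, P.root_coroot_two k]
  obtain ⟨l, hl, hlpos⟩ : ∃ l ∈ c.support, 0 < c l * P.pairing l k := by
    by_contra hcon
    push Not at hcon
    have : c.sum (fun l a => a * P.pairing l k) ≤ 0 := Finset.sum_nonpos hcon
    omega
  have hcl : 0 < c l := lt_of_le_of_ne (hc0 l) (Ne.symm (Finsupp.mem_support_iff.mp hl))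
  exact ⟨l, hcl, (pos_iff_pos_of_mul_pos hlpos).mp hcl⟩

/-- If the coefficient vector of a root is concentrated at a single index `l`, the root is the
root `l` or twice it. -/
theorem root_eq_or_eq_two_smul_of_single {k l : ι} {a : ℤ} (ha : 0 ≤ a)
    (h : Finsupp.linearCombination ℤ P.root (Finsupp.single l a) = P.root k) :
    k = l ∨ (2 : ℤ) • P.root l = P.root k := by
  rw [Finsupp.linearCombination_single] at h
  have h2 : a * P.pairing l k = 2 := by
    have := P.root_coroot_two k
    rw [← h, map_smul, LinearMap.smul_apply, P.root_coroot_eq_pairing, smul_eq_mul] at this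
    exact this
  have hdvd : a ∣ 2 := ⟨_, h2.symm⟩
  have hle : a ≤ 2 := Int.le_of_dvd two_pos hdvd
  have hne : a ≠ 0 := by rintro rfl; simp at h2
  have : a = 1 ∨ a = 2 := by omega
  rcases this with rfl | rfl
  · left
    rw [one_smul] at h
    exact (P.root.injective h).symm
  · right
    exact h

end Groth.Agent.H27
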