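import Groth.Agent.H27.RootDom
import Groth.Agent.S5462

set_option autoImplicit false

namespace Groth.Agent.H27

open RootD RootPairing

variable {ι M N : Type*} [AddCommGroup M] [AddCommGroup N] (P : RootPairing ι ℤ M N)

theorem reflGroup_le_weylGroup (Δ' : Set ι) : reflGroup P Δ' ≤ P.weylGroup := by
  rw [reflGroup, Subgroup.closure_le]
  rintro _ ⟨i, -, rfl⟩
  exact P.reflection_mem_weylGroup i

/-- A non-trivial element of the subgroup generated by a part `Δ'` of the simple reflections makes
some root of `Δ'` negative. -/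
theorem exists_neg_of_ne_one [Finite ι] {Δ Δ' : Set ι} (hΔ : IsSimpleSys P Δ) (hsub : Δ' ⊆ Δ)
    {g : P.Aut} (hg : g ∈ reflGroup P Δ') (hne : g ≠ 1) : ∃ r ∈ Δ', g • r ∉ posOf P Δ := by
  classical
  by_contra hcon
  push Not at hcon
  have hS : IsPosSys P (posOf P Δ) := isPosSys_posOf P hΔ
  have hind : indec P (posOf P Δ) = Δ := (simpleSys_eq_indec P hΔ hS (subset_posOf P Δ)).symm
  apply hne
  apply eq_one_of_simple_mem P hS (reflGroup_le_weylGroup P Δ' hg)
  intro r hr
  rw [hind] at hr
  by_cases hr' : r ∈ Δ'
  · exact hcon r hr'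
  · have hnotin : r ∉ inSpan P Δ' := by
      intro hin
      have hin : P.root r ∈ Submodule.span ℤ (P.root '' Δ') := hin
      obtain ⟨d, hdS, hd⟩ := (Finsupp.mem_span_image_iff_linearCombination ℤ).mp hin
      have heq : d = Finsupp.single r 1 := by
        apply coeff_unique P hΔ.linInd (Finsupp.supported_mono hsub hdS)
          (Finsupp.single_mem_supported ℤ 1 hr)
        rw [hd]; simp
      have : d r ≠ 0 := by rw [heq]; simp
      exact hr' (hdS (Finsupp.mem_support_iff.mpr this))
    exact (Groth.Agent.S5462.result P Δ Δ' hΔ hsub g hg r (subset_posOf P Δ hr) hnotin).1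

theorem tot_pos_of_ne_zero {d : ι →₀ ℤ} (hd0 : ∀ l, 0 ≤ d l) (hd : d ≠ 0) : 0 < tot d := by
  classical
  obtain ⟨l, hl⟩ : ∃ l, d l ≠ 0 := by
    by_contra h
    push Not at h
    exact hd (Finsupp.ext h)
  have hlpos : 0 < d l := lt_of_le_of_ne (hd0 l) (Ne.symm hl)
  have h1 : tot d = tot (d - Finsupp.single l (d l)) + d l := by
    rw [map_sub, tot_single]; ring
  have h2 : 0 ≤ tot (d - Finsupp.single l (d l)) := by
    apply tot_nonneg
    intro l'
    by_cases h : l' = l
    · subst h; simp
    · simp [Ne.symm h, hd0 l']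
  omega

/-- The order of a root "dominant" for two simple roots does not increase under the group
generated by the two simple reflections. -/
theorem rank2_decrease [Finite ι] {Δ : Set ι} (hΔ : IsSimpleSys P Δ) {k i j : ι} (hi : i ∈ Δ)
    (hj : j ∈ Δ) (hα : 0 < P.pairing k i) (hβ : 0 ≤ P.pairing k j) :
    ∀ g ∈ reflGroup P {i, j}, ∃ d : ι →₀ ℤ, (∀ l, 0 ≤ d l) ∧ d ∈ Finsupp.supported ℤ ℤ Δ ∧
      Finsupp.linearCombination ℤ P.root d = P.root k - P.root (g • k) ∧
      (g ≠ 1 → g ≠ Equiv.reflection P j → d ≠ 0) := by
  classical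
  have hS : IsPosSys P (posOf P Δ) := isPosSys_posOf P hΔ
  have hind : indec P (posOf P Δ) = Δ := (simpleSys_eq_indec P hΔ hS (subset_posOf P Δ)).symm
  have hsub : ({i, j} : Set ι) ⊆ Δ := by
    rintro x (rfl | rfl)
    · exact hi
    · exact hj
  suffices key : ∀ n : ℕ, ∀ g : P.Aut, g ∈ reflGroup P {i, j} →
      {x | x ∈ posOf P Δ ∧ g • x ∉ posOf P Δ}.ncard = n →
      ∃ d : ι →₀ ℤ, (∀ l, 0 ≤ d l) ∧ d ∈ Finsupp.supported ℤ ℤ Δ ∧
        Finsupp.linearCombination ℤ P.root d = P.root k - P.root (g • k) ∧
        (g ≠ 1 → g ≠ Equiv.reflection P j → d ≠ 0) from fun g hg => key _ g hg rfl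
  intro n
  induction n using Nat.strong_induction_on with
  | _ n ih =>
  intro g hg hn
  by_cases h1 : g = 1
  · subst h1
    exact ⟨0, fun _ => le_rfl, zero_mem _, by simp, fun h => absurd rfl h⟩
  · obtain ⟨r, hr, hgr⟩ := exists_neg_of_ne_one P hΔ hsub hg h1
    have hrΔ : r ∈ Δ := hsub hr
    have hrΔ' : r ∈ indec P (posOf P Δ) := by rw [hind]; exact hrΔ
    have hg' : g * Equiv.reflection P r ∈ reflGroup P {i, j} :=
      mul_mem hg (refl_mem_reflGroup P hr)
    have hlt : {x | x ∈ posOf P Δ ∧ (g * Equiv.reflection P r) • x ∉ posOf P Δ}.ncard < n := by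
      rw [← hn]
      exact ncard_inv_lt P hS hrΔ' hgr
    obtain ⟨d', hd'0, hd'S, hd', hd'ne⟩ := ih _ hlt _ hg' rfl
    have hngr : P.reflectionPerm (g • r) (g • r) ∈ posOf P Δ := (hS.cover _).resolve_left hgr
    have hngr' : -P.root (g • r) ∈ natSpan P Δ := by
      have : P.root (P.reflectionPerm (g • r) (g • r)) ∈ natSpan P Δ := hngr
      rwa [root_neg] at this
    obtain ⟨e, he0, heS, he⟩ := exists_coeff_of_mem_natSpan P hngr'
    have hene : e ≠ 0 := by
      intro h
      rw [h, map_zero] at he
      exact P.ne_zero (g • r) (neg_eq_zero.mp he.symm)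
    have hpr : 0 ≤ P.pairing k r := by
      rcases hr with rfl | rfl
      · exact hα.le
      · exact hβ
    have hroot : P.root ((g * Equiv.reflection P r) • k) =
        P.root (g • k) - P.pairing k r • P.root (g • r) := by
      rw [mul_smul, refl_smul, root_smul, P.root_reflectionPerm, P.reflection_apply_root,
        smul_sub, smul_comm, ← root_smul, ← root_smul]
    refine ⟨d' + P.pairing k r • e, ?_, ?_, ?_, ?_⟩
    · intro l
      have := hd'0 l
      have := mul_nonneg hpr (he0 l)
      simp only [Finsupp.add_apply, Finsupp.smul_apply, smul_eq_mul]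
      omega
    · exact add_mem hd'S (Submodule.smul_mem _ _ heS)
    · rw [map_add, map_smul, hd', he, hroot]
      module
    · intro _ hgj
      have hd'' : (∃ l, 0 < d' l) ∨ (0 < P.pairing k r) := by
        rcases hr with rfl | rfl
        · exact Or.inr hα
        · left
          have hg'1 : g * Equiv.reflection P r ≠ 1 := by
            intro h
            apply hgj
            have : g = (g * Equiv.reflection P r) * Equiv.reflection P r := by
              rw [mul_assoc, refl_mul_self, mul_one]
            rw [this, h, one_mul]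
          have hg'j : g * Equiv.reflection P r ≠ Equiv.reflection P r := by
            intro h
            apply h1
            have : g = (g * Equiv.reflection P r) * Equiv.reflection P r := by
              rw [mul_assoc, refl_mul_self, mul_one]
            rw [this, h, refl_mul_self]
          have hne := hd'ne hg'1 hg'j
          by_contra hcon
          push Not at hcon
          apply hne
          ext l
          have := hd'0 l
          have := hcon l
          simp
          omega
      rcases hd'' with ⟨l, hl⟩ | hpos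
      · intro h
        have h2 := DFunLike.congr_fun h l
        simp only [Finsupp.add_apply, Finsupp.smul_apply, smul_eq_mul, Finsupp.zero_apply] at h2
        have := mul_nonneg hpr (he0 l)
        omega
      · obtain ⟨l, hl⟩ : ∃ l, e l ≠ 0 := by
          by_contra h
          push Not at h
          exact hene (Finsupp.ext h)
        have hlpos : 0 < e l := lt_of_le_of_ne (he0 l) (Ne.symm hl)
        intro h
        have h2 := DFunLike.congr_fun h l
        simp only [Finsupp.add_apply, Finsupp.smul_apply, smul_eq_mul, Finsupp.zero_apply] at h2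
        have := mul_pos hpos hlpos
        have := hd'0 l
        omega

end Groth.Agent.H27
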