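import Groth.Agent.H27.RootPara
import Groth.Agent.S5448
import Groth.Agent.S5467
import Groth.Agent.S5488
import Groth.Agent.S5503

set_option autoImplicit false

namespace Groth.Agent.H27

open RootD RootPairing

variable {ι M N : Type*} [AddCommGroup M] [AddCommGroup N] (P : RootPairing ι ℤ M N)

/-- The subgroup generated by the reflections in a set of roots. -/
noncomputable abbrev reflGroup (Δ : Set ι) : Subgroup P.Aut :=
  Subgroup.closure ((fun i : ι => Equiv.reflection P i) '' Δ)

theorem refl_mem_reflGroup {Δ : Set ι} {i : ι} (hi : i ∈ Δ) :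
    Equiv.reflection P i ∈ reflGroup P Δ :=
  Subgroup.subset_closure ⟨i, hi, rfl⟩

theorem refl_smul (i k : ι) : Equiv.reflection P i • k = P.reflectionPerm i k := rfl

theorem refl_mul_self (i : ι) : Equiv.reflection P i * Equiv.reflection P i = 1 := by
  have h := Equiv.reflection_inv P i
  calc Equiv.reflection P i * Equiv.reflection P i
      = (Equiv.reflection P i)⁻¹ * Equiv.reflection P i := by rw [h]
    _ = 1 := inv_mul_cancel _

theorem isIndiv_smul (g : P.Aut) {i : ι} (hi : IsIndiv P i) : IsIndiv P (g • i) := by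
  intro j hj
  apply hi (g⁻¹ • j)
  rw [root_smul, ← smul_comm, hj, root_smul, inv_smul_smul]

theorem isIndiv_neg {i : ι} (hi : IsIndiv P i) : IsIndiv P (P.reflectionPerm i i) := by
  intro j hj
  apply hi (P.reflectionPerm j j)
  rw [root_neg, smul_neg, hj, root_neg, neg_neg]

/-- Every indivisible positive root is conjugate to a simple root under the group generated by
the simple reflections. -/
theorem exists_reflGroup_smul_eq [Finite ι] {Δ : Set ι} (hΔ : IsSimpleSys P Δ) {k : ι}
    (hk : k ∈ posOf P Δ) (hind : IsIndiv P k) :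
    ∃ g ∈ reflGroup P Δ, ∃ j ∈ Δ, g • j = k := by
  classical
  suffices key : ∀ n : ℕ, ∀ (k : ι) (c : ι →₀ ℤ), (∀ j, 0 ≤ c j) →
      c ∈ Finsupp.supported ℤ ℤ Δ → Finsupp.linearCombination ℤ P.root c = P.root k →
      tot c < n → IsIndiv P k → ∃ g ∈ reflGroup P Δ, ∃ j ∈ Δ, g • j = k by
    obtain ⟨c, hc0, hcS, hc⟩ := exists_coeff_of_mem_natSpan P hk
    exact key ((tot c).toNat + 1) k c hc0 hcS hc (by
      have := tot_nonneg c hc0
      push_cast
      omega) hind
  intro n
  induction n with
  | zero =>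
    intro k c hc0 _ _ hn
    have := tot_nonneg c hc0
    simp at hn
    omega
  | succ n ih =>
    intro k c hc0 hcS hc hn hind
    by_cases hkΔ : k ∈ Δ
    · exact ⟨1, one_mem _, k, hkΔ, one_smul _ _⟩
    · have hkpos : k ∈ posOf P Δ := by
        show P.root k ∈ natSpan P Δ
        rw [← hc]; exact mem_natSpan_of_coeff P c hc0 hcS
      obtain ⟨i, hiΔ, hpos, hk'⟩ := Groth.Agent.S5467.result P Δ hΔ k hkpos hkΔ hind
      obtain ⟨c', hc'0, hc'S, hc'⟩ := exists_coeff_of_mem_natSpan P hk'
      have hceq : c' = c - Finsupp.single i (P.pairing k i) := by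
        apply coeff_unique P hΔ.linInd hc'S
          (sub_mem hcS (Finsupp.single_mem_supported ℤ _ hiΔ))
        rw [hc', map_sub, hc, P.root_reflectionPerm, P.reflection_apply_root]
        simp
      have htot : tot c' < n := by
        rw [hceq, map_sub, tot_single]
        push_cast at hn
        omega
      have hind' : IsIndiv P (P.reflectionPerm i k) := isIndiv_smul P (Equiv.reflection P i) hind
      obtain ⟨g, hg, j, hj, hgj⟩ := ih (P.reflectionPerm i k) c' hc'0 hc'S hc' htot hind'
      refine ⟨Equiv.reflection P i * g, mul_mem (refl_mem_reflGroup P hiΔ) hg, j, hj, ?_⟩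
      rw [mul_smul, hgj, refl_smul, P.reflectionPerm_self]

/-- The Weyl group is generated by the simple reflections. -/
theorem reflGroup_eq_weylGroup [Finite ι] {Δ : Set ι} (hΔ : IsSimpleSys P Δ) :
    reflGroup P Δ = P.weylGroup := by
  apply le_antisymm
  · rw [reflGroup, Subgroup.closure_le]
    rintro _ ⟨i, -, rfl⟩
    exact P.reflection_mem_weylGroup i
  · rw [← Groth.Agent.S5488.result P, Subgroup.closure_le]
    rintro _ ⟨i, hi, rfl⟩
    have hi : IsIndiv P i := hi
    show Equiv.reflection P i ∈ reflGroup P Δ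
    rcases (isPosSys_posOf P hΔ).cover i with h | h
    · obtain ⟨g, hg, j, hj, hgj⟩ := exists_reflGroup_smul_eq P hΔ h hi
      rw [← hgj, ← Groth.Agent.S5503.result P g j]
      exact mul_mem (mul_mem hg (refl_mem_reflGroup P hj)) (inv_mem hg)
    · obtain ⟨g, hg, j, hj, hgj⟩ := exists_reflGroup_smul_eq P hΔ h (isIndiv_neg P hi)
      have hgj' : (g * Equiv.reflection P j) • j = i := by
        apply P.root.injective
        rw [mul_smul, refl_smul, root_smul, root_neg, smul_neg, ← root_smul, hgj, root_neg,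
          neg_neg]
      rw [← hgj', ← Groth.Agent.S5503.result P (g * Equiv.reflection P j) j]
      have hmem : g * Equiv.reflection P j ∈ reflGroup P Δ :=
        mul_mem hg (refl_mem_reflGroup P hj)
      exact mul_mem (mul_mem hmem (refl_mem_reflGroup P hj)) (inv_mem hmem)


/-- The product of the reflections along a list of roots. -/
noncomputable def prodRefl (L : List ι) : P.Aut := (L.map (fun i => Equiv.reflection P i)).prod

theorem prodRefl_nil : prodRefl P [] = 1 := rfl

theorem prodRefl_cons (i : ι) (L : List ι) :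
    prodRefl P (i :: L) = Equiv.reflection P i * prodRefl P L := by
  simp [prodRefl]

theorem prodRefl_append (L₁ L₂ : List ι) :
    prodRefl P (L₁ ++ L₂) = prodRefl P L₁ * prodRefl P L₂ := by
  simp [prodRefl]

theorem prodRefl_mem {Δ : Set ι} (L : List ι) (hL : ∀ i ∈ L, i ∈ Δ) :
    prodRefl P L ∈ reflGroup P Δ := by
  induction L with
  | nil => exact one_mem _
  | cons i L ih =>
    rw [prodRefl_cons]
    exact mul_mem (refl_mem_reflGroup P (hL i (by simp))) (ih fun j hj => hL j (by simp [hj]))

theorem prodRefl_reverse (L : List ι) : prodRefl P L.reverse = (prodRefl P L)⁻¹ := by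
  induction L with
  | nil => simp [prodRefl]
  | cons i L ih =>
    rw [List.reverse_cons, prodRefl_append, ih, prodRefl_cons, prodRefl_cons, prodRefl_nil,
      mul_one, mul_inv_rev, Equiv.reflection_inv]

theorem exists_prodRefl_of_mem {Δ : Set ι} {g : P.Aut} (hg : g ∈ reflGroup P Δ) :
    ∃ L : List ι, (∀ i ∈ L, i ∈ Δ) ∧ prodRefl P L = g := by
  induction hg using Subgroup.closure_induction with
  | mem x hx =>
    obtain ⟨i, hi, rfl⟩ := hx
    exact ⟨[i], by simpa using hi, by simp [prodRefl]⟩
  | one => exact ⟨[], by simp, rfl⟩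
  | mul x y _ _ hx hy =>
    obtain ⟨L₁, h1, rfl⟩ := hx
    obtain ⟨L₂, h2, rfl⟩ := hy
    refine ⟨L₁ ++ L₂, ?_, prodRefl_append P L₁ L₂⟩
    intro i hi
    rcases List.mem_append.mp hi with h | h
    · exact h1 i h
    · exact h2 i h
  | inv x _ hx =>
    obtain ⟨L, h1, rfl⟩ := hx
    exact ⟨L.reverse, fun i hi => h1 i (List.mem_reverse.mp hi), prodRefl_reverse P L⟩

theorem exists_split {Δ : Set ι} (L : List ι) (k : ι) (hk : k ∈ posOf P Δ)
    (hneg : prodRefl P L • k ∉ posOf P Δ) :
    ∃ (L₁ : List ι) (j : ι) (L₂ : List ι), L = L₁ ++ j :: L₂ ∧ prodRefl P L₂ • k ∈ posOf P Δ ∧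
      P.reflectionPerm j (prodRefl P L₂ • k) ∉ posOf P Δ := by
  induction L with
  | nil =>
    rw [prodRefl_nil, one_smul] at hneg
    exact absurd hk hneg
  | cons i L ih =>
    by_cases h : prodRefl P L • k ∈ posOf P Δ
    · refine ⟨[], i, L, rfl, h, ?_⟩
      rwa [prodRefl_cons, mul_smul, refl_smul] at hneg
    · obtain ⟨L₁, j, L₂, rfl, h1, h2⟩ := ih h
      exact ⟨i :: L₁, j, L₂, rfl, h1, h2⟩

/-- A product of simple reflections preserving the positive roots is trivial. -/
theorem prodRefl_eq_one_of_pos [Finite ι] {Δ : Set ι} (hΔ : IsSimpleSys P Δ) :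
    ∀ n : ℕ, ∀ L : List ι, L.length = n → (∀ i ∈ L, i ∈ Δ) →
      (∀ k ∈ posOf P Δ, prodRefl P L • k ∈ posOf P Δ) → prodRefl P L = 1 := by
  intro n
  induction n using Nat.strong_induction_on with
  | _ n ih =>
  intro L hL hLΔ hpos
  rcases List.eq_nil_or_concat L with rfl | ⟨L', r, hLr⟩
  · rfl
  · rw [List.concat_eq_append] at hLr
    subst hLr
    have hrΔ : r ∈ Δ := hLΔ r (by simp)
    have hL'Δ : ∀ i ∈ L', i ∈ Δ := fun i hi => hLΔ i (by simp [hi])
    have hw : prodRefl P (L' ++ [r]) = prodRefl P L' * Equiv.reflection P r := by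
      rw [prodRefl_append, prodRefl_cons, prodRefl_nil, mul_one]
    have h1 := hpos r (subset_posOf P Δ hrΔ)
    rw [hw, mul_smul, refl_smul, smul_reflectionPerm_self] at h1
    have hneg : prodRefl P L' • r ∉ posOf P Δ :=
      fun h => (isPosSys_posOf P hΔ).disjoint h h1
    obtain ⟨L₁, j, L₂, rfl, hβpos, hβneg⟩ :=
      exists_split P L' r (subset_posOf P Δ hrΔ) hneg
    have hjΔ : j ∈ Δ := hL'Δ j (by simp)
    rcases reflectionPerm_mem_posOf_or P hΔ hjΔ hβpos with h | h | h
    · exact absurd h hβneg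
    · have hconj : Equiv.reflection P j * prodRefl P L₂ =
          prodRefl P L₂ * Equiv.reflection P r := by
        rw [← h, ← Groth.Agent.S5503.result P (prodRefl P L₂) r]
        group
      have hw2 : prodRefl P ((L₁ ++ j :: L₂) ++ [r]) = prodRefl P (L₁ ++ L₂) := by
        rw [hw, prodRefl_append, prodRefl_cons, prodRefl_append, mul_assoc, mul_assoc,
          ← mul_assoc (Equiv.reflection P j), hconj, mul_assoc, refl_mul_self, mul_one]
      rw [hw2]
      have hlen : (L₁ ++ L₂).length < n := by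
        simp at hL ⊢
        omega
      apply ih (L₁ ++ L₂).length hlen (L₁ ++ L₂) rfl
      · intro i hi
        rcases List.mem_append.mp hi with hi | hi
        · exact hL'Δ i (by simp [hi])
        · exact hL'Δ i (by simp [hi])
      · rw [← hw2]; exact hpos
    · exfalso
      exact isIndiv_smul P (prodRefl P L₂) (Groth.Agent.S5448.result P Δ hΔ r hrΔ) j h

/-- An element of the Weyl group stabilising a system of simple roots is trivial. -/
theorem eq_one_of_img_eq [Finite ι] {Δ : Set ι} (hΔ : IsSimpleSys P Δ) {w : P.Aut}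
    (hw : w ∈ P.weylGroup) (h : img P w Δ = Δ) : w = 1 := by
  rw [← reflGroup_eq_weylGroup P hΔ] at hw
  obtain ⟨L, hL, rfl⟩ := exists_prodRefl_of_mem P hw
  apply prodRefl_eq_one_of_pos P hΔ _ L rfl hL
  intro k hk
  have := smul_mem_natSpan P (prodRefl P L) hk
  rw [h, ← root_smul] at this
  exact this

/-- Every automorphism is uniquely the product of an element of the Weyl group and an
automorphism stabilising a given system of simple roots. -/
theorem existsUnique_weyl_img [Finite ι] {Δ : Set ι} (hΔ : IsSimpleSys P Δ) (u : P.Aut) :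
    ∃! w : P.weylGroup, img P ((w : P.Aut)⁻¹ * u) Δ = Δ := by
  obtain ⟨w, hw, hwΔ⟩ := exists_weyl_img_simple_eq P hΔ (isSimpleSys_img P u hΔ)
  refine ⟨⟨w, hw⟩, ?_, ?_⟩
  · show img P (w⁻¹ * u) Δ = Δ
    rw [← img_img, ← hwΔ, img_img, inv_mul_cancel, img_one]
  · rintro ⟨w', hw'⟩ hw'Δ
    have hw'Δ : img P (w'⁻¹ * u) Δ = Δ := hw'Δ
    have h1 : img P u Δ = img P w' Δ := by
      conv_rhs => rw [← hw'Δ, img_img, ← mul_assoc, mul_inv_cancel, one_mul]
    have h2 : img P (w⁻¹ * w') Δ = Δ := by
      rw [← img_img, ← h1, ← hwΔ, img_img, inv_mul_cancel, img_one]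
    have h3 := eq_one_of_img_eq P hΔ (mul_mem (inv_mem hw) hw') h2
    apply Subtype.ext
    show w' = w
    have : w' = w * (w⁻¹ * w') := by group
    rw [this, h3, mul_one]


/-- Every indivisible root belongs to a system of simple roots. -/
theorem exists_simpleSys_mem [Finite ι] {i : ι} (hind : IsIndiv P i) :
    ∃ Δ : Set ι, IsSimpleSys P Δ ∧ i ∈ Δ := by
  obtain ⟨Δ, hΔ⟩ := exists_isSimpleSys P
  rcases (isPosSys_posOf P hΔ).cover i with h | h
  · obtain ⟨g, -, j, hj, hgj⟩ := exists_reflGroup_smul_eq P hΔ h hind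
    exact ⟨img P g Δ, isSimpleSys_img P g hΔ, ⟨j, hj, hgj⟩⟩
  · obtain ⟨g, -, j, hj, hgj⟩ := exists_reflGroup_smul_eq P hΔ h (isIndiv_neg P hind)
    have hgj' : (g * Equiv.reflection P j) • j = i := by
      apply P.root.injective
      rw [mul_smul, refl_smul, root_smul, root_neg, smul_neg, ← root_smul, hgj, root_neg,
        neg_neg]
    exact ⟨img P (g * Equiv.reflection P j) Δ, isSimpleSys_img P _ hΔ, ⟨j, hj, hgj'⟩⟩

theorem natSpan_le_span (S : Set ι) {x : M} (hx : x ∈ natSpan P S) :
    x ∈ Submodule.span ℤ (P.root '' S) := by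
  have : natSpan P S ≤ (Submodule.span ℤ (P.root '' S)).toAddSubmonoid :=
    AddSubmonoid.closure_le.mpr Submodule.subset_span
  exact this hx

theorem span_simple_eq {Δ : Set ι} (hΔ : IsSimpleSys P Δ) :
    Submodule.span ℤ (P.root '' Δ) = Submodule.span ℤ (Set.range P.root) := by
  apply le_antisymm (Submodule.span_mono (Set.image_subset_range _ _))
  rw [Submodule.span_le]
  rintro _ ⟨k, rfl⟩
  rcases hΔ.mem_or_neg_mem k with h | h
  · exact natSpan_le_span P Δ h
  · have := natSpan_le_span P Δ h
    simpa using Submodule.neg_mem _ this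

/-- In an adjoint root datum, indivisible roots are indivisible elements of the lattice. -/
theorem indiv_of_adjoint [Finite ι] (had : Submodule.span ℤ (Set.range P.root) = ⊤)
    {i : ι} (hind : IsIndiv P i) (m : M) (n : ℤ) (h : n • m = P.root i) : n = 1 ∨ n = -1 := by
  classical
  obtain ⟨Δ, hΔ, hi⟩ := exists_simpleSys_mem P hind
  have hm : m ∈ Submodule.span ℤ (P.root '' Δ) := by
    rw [span_simple_eq P hΔ, had]; trivial
  obtain ⟨c, hcS, hc⟩ := (Finsupp.mem_span_image_iff_linearCombination ℤ).mp hm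
  have heq : n • c = Finsupp.single i 1 := by
    apply coeff_unique P hΔ.linInd (Submodule.smul_mem _ n hcS)
      (Finsupp.single_mem_supported ℤ 1 hi)
    rw [map_smul, hc, h]; simp
  have h1 := DFunLike.congr_fun heq i
  simp only [Finsupp.smul_apply, smul_eq_mul, Finsupp.single_eq_same] at h1
  exact Int.eq_one_or_neg_one_of_mul_eq_one h1

end Groth.Agent.H27
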