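import Groth.Agent.H27.RootSimpleTrans
import Groth.Agent.H27.RootIrr
import Groth.Agent.S5446
import Mathlib.Algebra.Module.Torsion.Basic
import Mathlib.LinearAlgebra.FreeModule.PID
import Mathlib.LinearAlgebra.Dimension.Free

set_option autoImplicit false

namespace Groth.Agent.H27

open RootD

variable {ι M N : Type*} [AddCommGroup M] [AddCommGroup N] (P : RootPairing ι ℤ M N)

/-- The lattice generated by the roots. -/
abbrev Qr : Submodule ℤ M := Submodule.span ℤ (Set.range P.root)

/-- A root, as an element of the root lattice. -/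
def rootQ (k : ι) : Qr P := ⟨P.root k, Submodule.subset_span ⟨k, rfl⟩⟩

@[simp] theorem coe_rootQ (k : ι) : ((rootQ P k : Qr P) : M) = P.root k := rfl

theorem rootQ_neg (k : ι) : rootQ P (P.reflectionPerm k k) = - rootQ P k :=
  Subtype.ext (root_neg P k)

theorem rootQ_add {i j k : ι} (h : P.root k = P.root i + P.root j) :
    rootQ P k = rootQ P i + rootQ P j :=
  Subtype.ext h

/-- The sublattice of the root lattice generated by the roots indexed by `R'`. -/
def Lq (R' : Set ι) : Submodule ℤ (Qr P) := Submodule.span ℤ (rootQ P '' R')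

theorem coe_mem_of_mem_Lq {R' : Set ι} {x : Qr P} (hx : x ∈ Lq P R') :
    (x : M) ∈ Submodule.span ℤ (P.root '' R') := by
  have := Submodule.apply_mem_span_image_of_mem_span (Qr P).subtype hx
  rw [Set.image_image] at this
  exact this

/-- A homomorphism from the root lattice to a lexicographically ordered free abelian group of finite
rank vanishing, among the roots, exactly on a given saturated set of roots. -/
theorem exists_sep [Finite ι] (R' : Set ι)
    (hsat : ∀ k : ι, (∃ n : ℕ, 0 < n ∧ n • P.root k ∈ Submodule.span ℤ (P.root '' R')) → k ∈ R') :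
    ∃ (r : ℕ) (ψ : Qr P →+ Lex (Fin r → ℤ)), ∀ k : ι, ψ (rootQ P k) = 0 ↔ k ∈ R' := by
  classical
  have hfinQ : Module.Finite ℤ (Qr P) := Module.Finite.span_of_finite ℤ (Set.finite_range _)
  let ψ₀ : Qr P →ₗ[ℤ] ((Qr P ⧸ Lq P R') ⧸ Submodule.torsion ℤ (Qr P ⧸ Lq P R')) :=
    (Submodule.torsion ℤ (Qr P ⧸ Lq P R')).mkQ ∘ₗ (Lq P R').mkQ
  let e := (Module.finBasis ℤ
    ((Qr P ⧸ Lq P R') ⧸ Submodule.torsion ℤ (Qr P ⧸ Lq P R'))).equivFun
  refine ⟨_, { toFun := fun x => toLex (e (ψ₀ x)), map_zero' := ?_, map_add' := ?_ }, ?_⟩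
  · rw [map_zero, map_zero]; rfl
  · intro x y
    rw [map_add, map_add]; rfl
  · intro k
    show toLex (e (ψ₀ (rootQ P k))) = 0 ↔ k ∈ R'
    have h1 : toLex (e (ψ₀ (rootQ P k))) = 0 ↔ ψ₀ (rootQ P k) = 0 := by
      constructor
      · intro h
        have h' : e (ψ₀ (rootQ P k)) = 0 := h
        exact e.map_eq_zero_iff.mp h'
      · intro h
        rw [h, map_zero]; rfl
    rw [h1]
    constructor
    · intro h
      have h2 : (Lq P R').mkQ (rootQ P k) ∈ Submodule.torsion ℤ (Qr P ⧸ Lq P R') := by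
        have h' : (Submodule.torsion ℤ (Qr P ⧸ Lq P R')).mkQ ((Lq P R').mkQ (rootQ P k)) = 0 := h
        rwa [Submodule.mkQ_apply, Submodule.Quotient.mk_eq_zero] at h'
      obtain ⟨a, ha⟩ := (Submodule.mem_torsion_iff _).mp h2
      have ha' : ((a : ℤ) • (Lq P R').mkQ (rootQ P k)) = 0 := ha
      have h3 : (a : ℤ) • rootQ P k ∈ Lq P R' := by
        rw [← map_smul, Submodule.mkQ_apply, Submodule.Quotient.mk_eq_zero] at ha'
        exact ha'
      have h4 : (a : ℤ) • P.root k ∈ Submodule.span ℤ (P.root '' R') := coe_mem_of_mem_Lq P h3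
      have ha0 : (a : ℤ) ≠ 0 := nonZeroDivisors.coe_ne_zero a
      apply hsat k
      refine ⟨(a : ℤ).natAbs, Int.natAbs_pos.mpr ha0, ?_⟩
      rw [← natCast_zsmul]
      rcases Int.natAbs_eq (a : ℤ) with h | h
      · rw [← h]; exact h4
      · have h5 := Submodule.neg_mem _ h4
        rw [← neg_smul] at h5
        have h6 : ((a : ℤ).natAbs : ℤ) = -(a : ℤ) := by omega
        rw [h6]; exact h5
    · intro hk
      have h2 : rootQ P k ∈ Lq P R' := Submodule.subset_span ⟨k, hk, rfl⟩
      show (Submodule.torsion ℤ (Qr P ⧸ Lq P R')).mkQ ((Lq P R').mkQ (rootQ P k)) = 0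
      rw [Submodule.mkQ_apply (Lq P R'), (Submodule.Quotient.mk_eq_zero _).mpr h2, map_zero]

/-- A two-level positive system: first by the sign of a homomorphism to a linearly ordered
group, then by membership in a set `T` behaving like a positive system on the kernel. -/
theorem isPosSys_twoLevel [Finite ι] {G : Type*} [AddCommGroup G] [LinearOrder G]
    [IsOrderedAddMonoid G] (ψ : Qr P →+ G) (T : Set ι)
    (hT1 : ∀ k, ψ (rootQ P k) = 0 → k ∈ T ∨ P.reflectionPerm k k ∈ T)
    (hT2 : ∀ k, ψ (rootQ P k) = 0 → k ∈ T → P.reflectionPerm k k ∉ T)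
    (hT3 : ∀ i j k, i ∈ T → j ∈ T → ψ (rootQ P i) = 0 → ψ (rootQ P j) = 0 →
      P.root k = P.root i + P.root j → k ∈ T) :
    IsPosSys P {k | 0 < ψ (rootQ P k) ∨ (ψ (rootQ P k) = 0 ∧ k ∈ T)} := by
  rw [isPosSys_iff_closed]
  have hneg : ∀ k, ψ (rootQ P (P.reflectionPerm k k)) = - ψ (rootQ P k) := by
    intro k; rw [rootQ_neg, map_neg]
  refine ⟨?_, ?_, ?_⟩
  · rintro i (hi | ⟨hi, hiT⟩) (hi' | ⟨hi', hiT'⟩)
    · rw [hneg] at hi'
      have := neg_pos.mp hi'
      exact lt_asymm hi this
    · rw [hneg, neg_eq_zero] at hi'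
      rw [hi'] at hi
      exact lt_irrefl _ hi
    · rw [hneg, hi, neg_zero] at hi'
      exact lt_irrefl _ hi'
    · exact hT2 i hi hiT hiT'
  · intro i
    rcases lt_trichotomy (ψ (rootQ P i)) 0 with h | h | h
    · right; left
      rw [hneg]; exact neg_pos.mpr h
    · rcases hT1 i h with h1 | h1
      · left; right; exact ⟨h, h1⟩
      · right; right
        exact ⟨by rw [hneg, h, neg_zero], h1⟩
    · left; left; exact h
  · intro i j k hi hj hk
    have hsum : ψ (rootQ P k) = ψ (rootQ P i) + ψ (rootQ P j) := by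
      rw [rootQ_add P hk, map_add]
    rcases hi with hi | ⟨hi, hiT⟩
    · left
      rw [hsum]
      rcases hj with hj | ⟨hj, -⟩
      · exact add_pos hi hj
      · rw [hj, add_zero]; exact hi
    · rcases hj with hj | ⟨hj, hjT⟩
      · left
        rw [hsum, hi, zero_add]; exact hj
      · right
        exact ⟨by rw [hsum, hi, hj, add_zero], hT3 i j k hiT hjT hi hj hk⟩

theorem nonneg_of_mem_twoLevel {G : Type*} [AddCommGroup G] [LinearOrder G]
    (ψ : Qr P →+ G) (T : Set ι) {k : ι}
    (hk : k ∈ {k | 0 < ψ (rootQ P k) ∨ (ψ (rootQ P k) = 0 ∧ k ∈ T)}) : 0 ≤ ψ (rootQ P k) := by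
  rcases hk with h | ⟨h, -⟩
  · exact h.le
  · exact h.ge

/-- If `R'` is the trace of a subspace on the roots, every simple system of `R'` extends to a
simple system of the whole root datum. -/
theorem exists_simpleSys_extending [Finite ι] (R' : Set ι)
    (hsat : ∀ k : ι, (∃ n : ℕ, 0 < n ∧ n • P.root k ∈ Submodule.span ℤ (P.root '' R')) → k ∈ R')
    (Δ' : Set ι) (hΔ'R : Δ' ⊆ R') (hli : LinearIndepOn ℤ P.root Δ')
    (hgen : ∀ k ∈ R', P.root k ∈ natSpan P Δ' ∨ -P.root k ∈ natSpan P Δ') :
    ∃ Δ : Set ι, IsSimpleSys P Δ ∧ Δ' ⊆ Δ ∧ R' = inSpan P Δ' := by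
  classical
  obtain ⟨r, ψ, hψ⟩ := exists_sep P R' hsat
  let T : Set ι := {k | P.root k ∈ natSpan P Δ'}
  have hS : IsPosSys P {k | 0 < ψ (rootQ P k) ∨ (ψ (rootQ P k) = 0 ∧ k ∈ T)} := by
    apply isPosSys_twoLevel P ψ T
    · intro k hk
      rcases hgen k ((hψ k).mp hk) with h | h
      · exact Or.inl h
      · right
        show P.root (P.reflectionPerm k k) ∈ natSpan P Δ'
        rw [root_neg]; exact h
    · intro k _ hk hk'
      have hk' : P.root (P.reflectionPerm k k) ∈ natSpan P Δ' := hk'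
      rw [root_neg] at hk'
      exact P.ne_zero k (eq_zero_of_mem_natSpan_of_neg_mem P hli hk hk')
    · intro i j k hi hj _ _ hk
      show P.root k ∈ natSpan P Δ'
      rw [hk]; exact add_mem hi hj
  set S : Set ι := {k | 0 < ψ (rootQ P k) ∨ (ψ (rootQ P k) = 0 ∧ k ∈ T)} with hSdef
  refine ⟨indec P S, isSimpleSys_indec P hS, ?_, ?_⟩
  · intro j hj
    have hjR : j ∈ R' := hΔ'R hj
    have hj0 : ψ (rootQ P j) = 0 := (hψ j).mpr hjR
    refine ⟨Or.inr ⟨hj0, root_mem_natSpan P hj⟩, ?_⟩
    intro a ha b hb hab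
    have ha0 := nonneg_of_mem_twoLevel P ψ T ha
    have hb0 := nonneg_of_mem_twoLevel P ψ T hb
    have hsum : ψ (rootQ P a) + ψ (rootQ P b) = 0 := by
      rw [← map_add, ← rootQ_add P hab, hj0]
    have hza : ψ (rootQ P a) = 0 := by
      rcases ha0.lt_or_eq with h | h
      · have := add_pos_of_pos_of_nonneg h hb0
        rw [hsum] at this
        exact absurd this (lt_irrefl _)
      · exact h.symm
    have hzb : ψ (rootQ P b) = 0 := by rw [hza, zero_add] at hsum; exact hsum
    have haT : P.root a ∈ natSpan P Δ' := by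
      rcases ha with h | ⟨-, h⟩
      · rw [hza] at h; exact absurd h (lt_irrefl _)
      · exact h
    have hbT : P.root b ∈ natSpan P Δ' := by
      rcases hb with h | ⟨-, h⟩
      · rw [hzb] at h; exact absurd h (lt_irrefl _)
      · exact h
    obtain ⟨ca, hca0, hcaS, hca⟩ := exists_coeff_of_mem_natSpan P haT
    obtain ⟨cb, hcb0, hcbS, hcb⟩ := exists_coeff_of_mem_natSpan P hbT
    have heq : Finsupp.single j 1 = ca + cb := by
      apply coeff_unique P hli (Finsupp.single_mem_supported ℤ 1 hj) (add_mem hcaS hcbS)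
      rw [map_add, hca, hcb, ← hab]; simp
    have hzero : ∀ l, l ≠ j → ca l = 0 ∧ cb l = 0 := by
      intro l hl
      have h1 := DFunLike.congr_fun heq l
      simp only [Finsupp.single_apply, if_neg (Ne.symm hl), Finsupp.add_apply] at h1
      have := hca0 l
      have := hcb0 l
      omega
    have hj1 := DFunLike.congr_fun heq j
    simp only [Finsupp.single_eq_same, Finsupp.add_apply] at hj1
    have h1 := hca0 j
    have h2 := hcb0 j
    have hcases : ca j = 0 ∨ cb j = 0 := by omega
    rcases hcases with h | h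
    · have : ca = 0 := by
        ext l
        by_cases hl : l = j
        · subst hl; simpa using h
        · simpa using (hzero l hl).1
      rw [this, map_zero] at hca
      exact P.ne_zero a hca.symm
    · have : cb = 0 := by
        ext l
        by_cases hl : l = j
        · subst hl; simpa using h
        · simpa using (hzero l hl).2
      rw [this, map_zero] at hcb
      exact P.ne_zero b hcb.symm
  · ext k
    constructor
    · intro hk
      show P.root k ∈ Submodule.span ℤ (P.root '' Δ')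
      rcases hgen k hk with h | h
      · exact natSpan_le_span P Δ' h
      · have := Submodule.neg_mem _ (natSpan_le_span P Δ' h)
        simpa using this
    · intro hk
      have hk : P.root k ∈ Submodule.span ℤ (P.root '' Δ') := hk
      apply hsat k
      refine ⟨1, one_pos, ?_⟩
      rw [one_smul]
      exact Submodule.span_mono (Set.image_mono hΔ'R) hk


/-- A homomorphism to a lexicographically ordered group that does not vanish on any root. -/
theorem exists_nonvanishing [Finite ι] :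
    ∃ (n : ℕ) (φ : M →+ Lex (Fin n → ℤ)), ∀ i, φ (P.root i) ≠ 0 := by
  classical
  obtain ⟨n, ⟨e⟩⟩ := Finite.exists_equiv_fin ι
  let φ : M →+ Lex (Fin n → ℤ) :=
    { toFun := fun m => toLex (fun j => P.toLinearMap m (P.coroot (e.symm j)))
      map_zero' := by
        apply ofLex.injective
        funext j
        simp
        rfl
      map_add' := by
        intro x y
        apply ofLex.injective
        funext j
        simp
        rfl }
  refine ⟨n, φ, ?_⟩
  intro i h
  have h1 : ofLex (φ (P.root i)) (e i) = 2 := by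
    show P.toLinearMap (P.root i) (P.coroot (e.symm (e i))) = 2
    simp
  rw [h] at h1
  have h2 : ofLex (0 : Lex (Fin n → ℤ)) (e i) = 0 := rfl
  rw [h2] at h1
  norm_num at h1

/-- A set of roots is the trace of a subspace iff it is the set of roots in the span of a part of
a system of simple roots. -/
theorem trace_iff [Finite ι] (R' : Set ι) :
    (∀ k : ι, (∃ n : ℕ, 0 < n ∧ n • P.root k ∈ Submodule.span ℤ (P.root '' R')) → k ∈ R') ↔
      ∃ Δ Δ' : Set ι, IsSimpleSys P Δ ∧ Δ' ⊆ Δ ∧ R' = inSpan P Δ' := by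
  classical
  constructor
  · intro hsat
    obtain ⟨r, ψ, hψ⟩ := exists_sep P R' hsat
    obtain ⟨n, φ, hφ⟩ := exists_nonvanishing P
    let T : Set ι := {k | 0 < φ (P.root k)}
    have hφneg : ∀ k, φ (P.root (P.reflectionPerm k k)) = - φ (P.root k) := by
      intro k; rw [root_neg, map_neg]
    have hS : IsPosSys P {k | 0 < ψ (rootQ P k) ∨ (ψ (rootQ P k) = 0 ∧ k ∈ T)} := by
      apply isPosSys_twoLevel P ψ T
      · intro k _
        rcases lt_trichotomy (φ (P.root k)) 0 with h | h | h
        · right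
          show 0 < φ (P.root (P.reflectionPerm k k))
          rw [hφneg]; exact neg_pos.mpr h
        · exact absurd h (hφ k)
        · exact Or.inl h
      · intro k _ hk hk'
        have hk' : 0 < φ (P.root (P.reflectionPerm k k)) := hk'
        rw [hφneg] at hk'
        exact lt_asymm hk (neg_pos.mp hk')
      · intro i j k hi hj _ _ hk
        show 0 < φ (P.root k)
        rw [hk, map_add]; exact add_pos hi hj
    set S : Set ι := {k | 0 < ψ (rootQ P k) ∨ (ψ (rootQ P k) = 0 ∧ k ∈ T)} with hSdef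
    have hΔ : IsSimpleSys P (indec P S) := isSimpleSys_indec P hS
    have hSeq : S = posOf P (indec P S) := posSys_eq_posOf P hΔ hS (indec_subset P S)
    refine ⟨indec P S, indec P S ∩ R', hΔ, Set.inter_subset_left, ?_⟩
    have hRneg : ∀ k, k ∈ R' → P.reflectionPerm k k ∈ R' := by
      intro k hk
      rw [← hψ] at hk ⊢
      rw [rootQ_neg, map_neg, hk, neg_zero]
    have key : ∀ k ∈ posOf P (indec P S), ψ (rootQ P k) = 0 →
        P.root k ∈ Submodule.span ℤ (P.root '' (indec P S ∩ R')) := by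
      intro k hk hk0
      obtain ⟨c, hc0, hcS, hc⟩ := exists_coeff_of_mem_natSpan P hk
      have hsupp := coeff_induction P hΔ
        (fun k c => ψ (rootQ P k) = 0 → c ∈ Finsupp.supported ℤ ℤ (indec P S ∩ R'))
        (fun i hi hi0 => Finsupp.single_mem_supported ℤ 1 ⟨hi, (hψ i).mp hi0⟩)
        (fun k k' l c hc0 hcS hc hl hkk ih hk0 => by
          have hk'S : k' ∈ S := by
            rw [hSeq]
            show P.root k' ∈ natSpan P (indec P S)
            rw [← hc]; exact mem_natSpan_of_coeff P c hc0 hcS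
          have hlS : l ∈ S := indec_subset P S hl
          have h1 := nonneg_of_mem_twoLevel P ψ T hk'S
          have h2 := nonneg_of_mem_twoLevel P ψ T hlS
          have hsum : ψ (rootQ P k') + ψ (rootQ P l) = 0 := by
            rw [← map_add, ← rootQ_add P hkk, hk0]
          have h3 := (add_eq_zero_iff_of_nonneg h1 h2).mp hsum
          exact add_mem (ih h3.1) (Finsupp.single_mem_supported ℤ 1 ⟨hl, (hψ l).mp h3.2⟩))
        k c hc0 hcS hc hk0
      rw [← hc]
      exact (Finsupp.mem_span_image_iff_linearCombination ℤ).mpr ⟨c, hsupp, rfl⟩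
    ext k
    constructor
    · intro hk
      show P.root k ∈ Submodule.span ℤ (P.root '' (indec P S ∩ R'))
      rcases hS.cover k with h | h
      · rw [hSeq] at h
        exact key k h ((hψ k).mpr hk)
      · rw [hSeq] at h
        have := key _ h ((hψ _).mpr (hRneg k hk))
        rw [root_neg] at this
        simpa using Submodule.neg_mem _ this
    · intro hk
      have hk : P.root k ∈ Submodule.span ℤ (P.root '' (indec P S ∩ R')) := hk
      apply hsat k
      refine ⟨1, one_pos, ?_⟩
      rw [one_smul]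
      exact Submodule.span_mono (Set.image_mono Set.inter_subset_right) hk
  · rintro ⟨Δ, Δ', hΔ, hsub, hR'⟩ k ⟨n, hn, hk⟩
    rw [hR']
    show P.root k ∈ Submodule.span ℤ (P.root '' Δ')
    have h1 : Submodule.span ℤ (P.root '' R') ≤ Submodule.span ℤ (P.root '' Δ') := by
      rw [hR', Submodule.span_le]
      rintro _ ⟨k', hk', rfl⟩
      exact hk'
    have h2 := h1 hk
    obtain ⟨d, hdS, hd⟩ := (Finsupp.mem_span_image_iff_linearCombination ℤ).mp h2
    obtain ⟨c, hcS, hc⟩ : ∃ c : ι →₀ ℤ, c ∈ Finsupp.supported ℤ ℤ Δ ∧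
        Finsupp.linearCombination ℤ P.root c = P.root k := by
      rcases hΔ.mem_or_neg_mem k with h | h
      · obtain ⟨c, -, hcS, hc⟩ := exists_coeff_of_mem_natSpan P h
        exact ⟨c, hcS, hc⟩
      · obtain ⟨c, -, hcS, hc⟩ := exists_coeff_of_mem_natSpan P h
        exact ⟨-c, neg_mem hcS, by rw [map_neg, hc, neg_neg]⟩
    have heq : (n : ℤ) • c = d := by
      apply coeff_unique P hΔ.linInd (Submodule.smul_mem _ _ hcS) (Finsupp.supported_mono hsub hdS)
      rw [map_smul, hc, hd, natCast_zsmul]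
    have hcS' : c ∈ Finsupp.supported ℤ ℤ Δ' := by
      intro l hl
      apply hdS
      rw [Finset.mem_coe, Finsupp.mem_support_iff] at hl ⊢
      rw [← heq, Finsupp.smul_apply, smul_eq_mul]
      have : (n : ℤ) ≠ 0 := by exact_mod_cast hn.ne'
      exact mul_ne_zero this hl
    rw [← hc]
    exact (Finsupp.mem_span_image_iff_linearCombination ℤ).mpr ⟨c, hcS', rfl⟩


/-- The coefficients of a positive root killed by the first level are supported on the simple
roots killed by the first level. -/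
theorem supported_of_twoLevel [Finite ι] {G : Type*} [AddCommGroup G] [LinearOrder G]
    [IsOrderedAddMonoid G] (ψ : Qr P →+ G) (T : Set ι)
    (hS : IsPosSys P {k | 0 < ψ (rootQ P k) ∨ (ψ (rootQ P k) = 0 ∧ k ∈ T)})
    (k : ι) (c : ι →₀ ℤ) (hc0 : ∀ l, 0 ≤ c l)
    (hcS : c ∈ Finsupp.supported ℤ ℤ
      (indec P {k | 0 < ψ (rootQ P k) ∨ (ψ (rootQ P k) = 0 ∧ k ∈ T)}))
    (hc : Finsupp.linearCombination ℤ P.root c = P.root k) (hk0 : ψ (rootQ P k) = 0) :
    c ∈ Finsupp.supported ℤ ℤ
      (indec P {k | 0 < ψ (rootQ P k) ∨ (ψ (rootQ P k) = 0 ∧ k ∈ T)} ∩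
        {l | ψ (rootQ P l) = 0}) := by
  classical
  set S : Set ι := {k | 0 < ψ (rootQ P k) ∨ (ψ (rootQ P k) = 0 ∧ k ∈ T)} with hSdef
  have hΔ : IsSimpleSys P (indec P S) := isSimpleSys_indec P hS
  have hSeq : S = posOf P (indec P S) := posSys_eq_posOf P hΔ hS (indec_subset P S)
  exact coeff_induction P hΔ
    (fun k c => ψ (rootQ P k) = 0 →
      c ∈ Finsupp.supported ℤ ℤ (indec P S ∩ {l | ψ (rootQ P l) = 0}))
    (fun i hi hi0 => Finsupp.single_mem_supported ℤ 1 ⟨hi, hi0⟩)
    (fun k k' l c hc0 hcS hc hl hkk ih hk0 => by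
      have hk'S : k' ∈ S := by
        rw [hSeq]
        show P.root k' ∈ natSpan P (indec P S)
        rw [← hc]; exact mem_natSpan_of_coeff P c hc0 hcS
      have hlS : l ∈ S := indec_subset P S hl
      have h1 := nonneg_of_mem_twoLevel P ψ T hk'S
      have h2 := nonneg_of_mem_twoLevel P ψ T hlS
      have hsum : ψ (rootQ P k') + ψ (rootQ P l) = 0 := by
        rw [← map_add, ← rootQ_add P hkk, hk0]
      have h3 := (add_eq_zero_iff_of_nonneg h1 h2).mp hsum
      exact add_mem (ih h3.1) (Finsupp.single_mem_supported ℤ 1 ⟨hl, h3.2⟩))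
    k c hc0 hcS hc hk0

/-- Given an indivisible root and a root not proportional to it, there is a simple system
containing the first and a second simple root such that the second root is a non-negative
combination of the two. -/
theorem exists_simpleSys_pair [Finite ι] (i k : ι) (hα : IsIndiv P i)
    (hli : LinearIndependent ℤ ![P.root i, P.root k]) :
    ∃ Δ : Set ι, IsSimpleSys P Δ ∧ i ∈ Δ ∧
      ∃ j ∈ Δ, ∃ a b : ℕ, P.root k = a • P.root i + b • P.root j := by
  classical
  have hRM : Module.IsReflexive ℤ M := .of_isPerfPair P.toLinearMap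
  have hRN : Module.IsReflexive ℤ N := .of_isPerfPair P.flip.toLinearMap
  let V : Submodule ℤ M := Submodule.span ℤ {P.root i, P.root k}
  let R' : Set ι := {l | ∃ m : ℕ, 0 < m ∧ m • P.root l ∈ V}
  have hiR : i ∈ R' := ⟨1, one_pos, by rw [one_smul]; exact Submodule.subset_span (by simp)⟩
  have hkR : k ∈ R' := ⟨1, one_pos, by rw [one_smul]; exact Submodule.subset_span (by simp)⟩
  have hsatV : ∀ x ∈ Submodule.span ℤ (P.root '' R'), ∃ m : ℕ, 0 < m ∧ m • x ∈ V := by
    intro x hx
    induction hx using Submodule.span_induction with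
    | mem x hx =>
      obtain ⟨l, ⟨m, hm, hl⟩, rfl⟩ := hx
      exact ⟨m, hm, hl⟩
    | zero => exact ⟨1, one_pos, by rw [smul_zero]; exact zero_mem _⟩
    | add x y _ _ hx hy =>
      obtain ⟨m, hm, hx⟩ := hx
      obtain ⟨m', hm', hy⟩ := hy
      refine ⟨m * m', Nat.mul_pos hm hm', ?_⟩
      rw [smul_add]
      apply add_mem
      · rw [mul_comm, mul_smul]; exact nsmul_mem hx m'
      · rw [mul_smul]; exact nsmul_mem hy m
    | smul a x _ hx =>
      obtain ⟨m, hm, hx⟩ := hx
      exact ⟨m, hm, by rw [smul_comm]; exact V.smul_mem a hx⟩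
  have hsat : ∀ l : ι,
      (∃ n : ℕ, 0 < n ∧ n • P.root l ∈ Submodule.span ℤ (P.root '' R')) → l ∈ R' := by
    rintro l ⟨n, hn, hl⟩
    obtain ⟨m, hm, h⟩ := hsatV _ hl
    exact ⟨m * n, Nat.mul_pos hm hn, by rw [mul_smul]; exact h⟩
  obtain ⟨r, ψ, hψ⟩ := exists_sep P R' hsat
  let g₂ : M →ₗ[ℤ] ℤ :=
    P.toLinearMap.flip ((2:ℤ) • P.coroot k - P.pairing i k • P.coroot i)
  have hg₂ : ∀ l, g₂ (P.root l) = 2 * P.pairing l k - P.pairing i k * P.pairing l i := by
    intro l
    show P.toLinearMap (P.root l) ((2:ℤ) • P.coroot k - P.pairing i k • P.coroot i) = _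
    rw [map_sub, map_smul, map_smul, P.root_coroot_eq_pairing, P.root_coroot_eq_pairing]
    simp
  have hg₂i : g₂ (P.root i) = 0 := by rw [hg₂, P.pairing_same]; ring
  have hDval : g₂ (P.root k) = 4 - P.pairing i k * P.pairing k i := by
    rw [hg₂, P.pairing_same]; ring
  have hDpos : 0 < g₂ (P.root k) := by
    have hset := P.pairingIn_pairingIn_mem_set_of_isCrystallographic i k
    rw [pairingIn_int_eq, pairingIn_int_eq] at hset
    have hne : P.pairing i k * P.pairing k i ≠ 4 := by
      intro h4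
      have h4' : P.coxeterWeight i k = 4 := h4
      exact (P.coxeterWeight_eq_four_iff_not_linearIndependent.mp h4') hli
    simp only [Set.mem_insert_iff, Set.mem_singleton_iff, Prod.mk.injEq] at hset
    rw [hDval]
    rcases hset with ⟨e1, e2⟩ | ⟨e1, e2⟩ | ⟨e1, e2⟩ | ⟨e1, e2⟩ | ⟨e1, e2⟩ | ⟨e1, e2⟩ | ⟨e1, e2⟩ |
      ⟨e1, e2⟩ | ⟨e1, e2⟩ | ⟨e1, e2⟩ | ⟨e1, e2⟩ | ⟨e1, e2⟩ | ⟨e1, e2⟩ | ⟨e1, e2⟩ | ⟨e1, e2⟩ |
      ⟨e1, e2⟩ | ⟨e1, e2⟩ <;> rw [e1, e2] at hne ⊢ <;> omega
  let T : Set ι := {l | 0 < g₂ (P.root l) ∨ (g₂ (P.root l) = 0 ∧ 0 < P.pairing l i)}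
  have hg₂neg : ∀ l, g₂ (P.root (P.reflectionPerm l l)) = - g₂ (P.root l) := by
    intro l; rw [root_neg, map_neg]
  have hpneg : ∀ l, P.pairing (P.reflectionPerm l l) i = - P.pairing l i :=
    fun l => P.pairing_reflectionPerm_self_left l i
  have hF4 : ∀ l ∈ R', g₂ (P.root l) = 0 →
      ∃ (m : ℕ) (a : ℤ), 0 < m ∧ m • P.root l = a • P.root i := by
    rintro l ⟨m, hm, hl⟩ hl0
    obtain ⟨a, b, hab⟩ := Submodule.mem_span_pair.mp hl
    have h1 := congrArg g₂ hab
    rw [map_add, map_smul, map_smul, hg₂i, map_nsmul, hl0, smul_zero, smul_zero, zero_add,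
      smul_eq_mul] at h1
    have hb : b = 0 := by
      rcases mul_eq_zero.mp h1 with h | h
      · exact h
      · omega
    refine ⟨m, a, hm, ?_⟩
    rw [← hab, hb, zero_smul, add_zero]
  have hF4' : ∀ l ∈ R', g₂ (P.root l) = 0 → P.pairing l i ≠ 0 := by
    intro l hl hl0 hp0
    obtain ⟨m, a, hm, h⟩ := hF4 l hl hl0
    have h1 := congrArg (fun x => P.toLinearMap x (P.coroot i)) h
    simp only [map_nsmul, map_smul, LinearMap.smul_apply, P.root_coroot_eq_pairing, hp0,
      P.pairing_same, smul_eq_mul, smul_zero] at h1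
    have ha : a = 0 := by omega
    rw [ha, zero_smul] at h
    exact nsmul_root_ne_zero P l hm h
  have hS : IsPosSys P {l | 0 < ψ (rootQ P l) ∨ (ψ (rootQ P l) = 0 ∧ l ∈ T)} := by
    apply isPosSys_twoLevel P ψ T
    · intro l hl
      have hlR : l ∈ R' := (hψ l).mp hl
      rcases lt_trichotomy (g₂ (P.root l)) 0 with h | h | h
      · right
        show 0 < g₂ (P.root (P.reflectionPerm l l)) ∨ _
        left; rw [hg₂neg]; omega
      · rcases lt_or_gt_of_ne (hF4' l hlR h) with h' | h'
        · right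
          show _ ∨ (g₂ (P.root (P.reflectionPerm l l)) = 0 ∧
            0 < P.pairing (P.reflectionPerm l l) i)
          right
          rw [hg₂neg, hpneg]
          constructor <;> omega
        · left
          exact Or.inr ⟨h, h'⟩
      · left
        exact Or.inl h
    · intro l _ hl hl'
      have hl' : 0 < g₂ (P.root (P.reflectionPerm l l)) ∨
          (g₂ (P.root (P.reflectionPerm l l)) = 0 ∧ 0 < P.pairing (P.reflectionPerm l l) i) :=
        hl'
      rw [hg₂neg, hpneg] at hl'
      have hl : 0 < g₂ (P.root l) ∨ (g₂ (P.root l) = 0 ∧ 0 < P.pairing l i) := hl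
      omega
    · intro i₁ i₂ l h1 h2 _ _ hl
      have e1 : g₂ (P.root l) = g₂ (P.root i₁) + g₂ (P.root i₂) := by rw [hl, map_add]
      have e2 : P.pairing l i = P.pairing i₁ i + P.pairing i₂ i := pairing_add_left P hl i
      have h1 : 0 < g₂ (P.root i₁) ∨ (g₂ (P.root i₁) = 0 ∧ 0 < P.pairing i₁ i) := h1
      have h2 : 0 < g₂ (P.root i₂) ∨ (g₂ (P.root i₂) = 0 ∧ 0 < P.pairing i₂ i) := h2
      show 0 < g₂ (P.root l) ∨ (g₂ (P.root l) = 0 ∧ 0 < P.pairing l i)
      omega
  set S : Set ι := {l | 0 < ψ (rootQ P l) ∨ (ψ (rootQ P l) = 0 ∧ l ∈ T)} with hSdef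
  have hΔ : IsSimpleSys P (indec P S) := isSimpleSys_indec P hS
  have hSeq : S = posOf P (indec P S) := posSys_eq_posOf P hΔ hS (indec_subset P S)
  have hψi : ψ (rootQ P i) = 0 := (hψ i).mpr hiR
  have hψk : ψ (rootQ P k) = 0 := (hψ k).mpr hkR
  have hiT : i ∈ T := Or.inr ⟨hg₂i, by rw [P.pairing_same]; norm_num⟩
  have hkT : k ∈ T := Or.inl hDpos
  have hiS : i ∈ S := Or.inr ⟨hψi, hiT⟩
  have hkS : k ∈ S := Or.inr ⟨hψk, hkT⟩
  have hiΔ : i ∈ indec P S := by
    refine ⟨hiS, ?_⟩
    intro a ha b hb hab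
    have ha0 := nonneg_of_mem_twoLevel P ψ T ha
    have hb0 := nonneg_of_mem_twoLevel P ψ T hb
    have hsum : ψ (rootQ P a) + ψ (rootQ P b) = 0 := by
      rw [← map_add, ← rootQ_add P hab, hψi]
    have hz := (add_eq_zero_iff_of_nonneg ha0 hb0).mp hsum
    have haT : 0 < g₂ (P.root a) ∨ (g₂ (P.root a) = 0 ∧ 0 < P.pairing a i) := by
      rcases ha with h | ⟨-, h⟩
      · rw [hz.1] at h; exact absurd h (lt_irrefl _)
      · exact h
    have hbT : 0 < g₂ (P.root b) ∨ (g₂ (P.root b) = 0 ∧ 0 < P.pairing b i) := by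
      rcases hb with h | ⟨-, h⟩
      · rw [hz.2] at h; exact absurd h (lt_irrefl _)
      · exact h
    have haR : a ∈ R' := (hψ a).mp hz.1
    have hbR : b ∈ R' := (hψ b).mp hz.2
    have e1 : g₂ (P.root a) + g₂ (P.root b) = 0 := by rw [← map_add, ← hab, hg₂i]
    have hga : g₂ (P.root a) = 0 ∧ 0 < P.pairing a i := by omega
    have hgb : g₂ (P.root b) = 0 ∧ 0 < P.pairing b i := by omega
    have hprop : ∀ l ∈ R', g₂ (P.root l) = 0 → 0 < P.pairing l i →
        ∃ t : ℕ, 0 < t ∧ P.root l = t • P.root i := by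
      intro l hlR hl0 hlp
      obtain ⟨m, a', hm, he⟩ := hF4 l hlR hl0
      have h1 := congrArg (fun x => P.toLinearMap x (P.coroot i)) he
      simp only [map_nsmul, map_smul, LinearMap.smul_apply, P.root_coroot_eq_pairing,
        P.pairing_same, smul_eq_mul, nsmul_eq_mul] at h1
      have hmpos : (0:ℤ) < m := by exact_mod_cast hm
      have hprod : (0:ℤ) < m * P.pairing l i := mul_pos hmpos hlp
      have ha' : 0 < a' := by linarith
      have he' : m • P.root l = a'.toNat • P.root i := by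
        rw [he, ← natCast_zsmul (P.root i), Int.toNat_of_nonneg ha'.le]
      rcases Groth.Agent.S5446.prop_root P hα hm (by omega) he' with h | h
      · exact ⟨1, one_pos, by rw [h, one_smul]⟩
      · exact ⟨2, two_pos, by rw [h, two_smul, two_nsmul]⟩
    obtain ⟨ta, hta, hea⟩ := hprop a haR hga.1 hga.2
    obtain ⟨tb, htb, heb⟩ := hprop b hbR hgb.1 hgb.2
    rw [hea, heb, ← add_smul] at hab
    obtain ⟨m, hm⟩ : ∃ m : ℕ, ta + tb = m + 1 := ⟨ta + tb - 1, by omega⟩
    rw [hm, add_smul, one_smul] at hab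
    have h0 : m • P.root i = 0 := by
      have := congrArg (fun x => x - P.root i) hab
      simpa using this.symm
    exact nsmul_root_ne_zero P i (by omega) h0
  have hkpos : k ∈ posOf P (indec P S) := by rw [← hSeq]; exact hkS
  obtain ⟨c, hc0, hcS, hc⟩ := exists_coeff_of_mem_natSpan P hkpos
  have hsupp := supported_of_twoLevel P ψ T hS k c hc0 hcS hc hψk
  have hR'span : ∀ l ∈ R', ∃ (m : ℕ) (a b : ℤ), 0 < m ∧
      (m : ℤ) • P.root l = a • P.root i + b • P.root k := by
    rintro l ⟨m, hm, hl⟩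
    obtain ⟨a, b, hab⟩ := Submodule.mem_span_pair.mp hl
    exact ⟨m, a, b, hm, by rw [natCast_zsmul]; exact hab.symm⟩
  have hsuppR : ∀ l, c l ≠ 0 → l ∈ indec P S ∧ l ∈ R' := by
    intro l hl
    have := hsupp (Finsupp.mem_support_iff.mpr hl)
    exact ⟨this.1, (hψ l).mp this.2⟩
  have huniq : ∀ j₁ j₂, c j₁ ≠ 0 → c j₂ ≠ 0 → j₁ ≠ i → j₂ ≠ i → j₁ = j₂ := by
    intro j₁ j₂ h1 h2 hn1 hn2
    by_contra hne
    obtain ⟨hj₁Δ, hj₁R⟩ := hsuppR j₁ h1
    obtain ⟨hj₂Δ, hj₂R⟩ := hsuppR j₂ h2
    obtain ⟨m₁, a₁, b₁, hm₁, e₁⟩ := hR'span j₁ hj₁R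
    obtain ⟨m₂, a₂, b₂, hm₂, e₂⟩ := hR'span j₂ hj₂R
    have hrel : Finsupp.linearCombination ℤ P.root
        (Finsupp.single j₁ (b₂ * m₁) - Finsupp.single j₂ (b₁ * m₂) -
          Finsupp.single i (b₂ * a₁ - b₁ * a₂)) = 0 := by
      simp only [map_sub, Finsupp.linearCombination_single]
      rw [mul_smul, mul_smul, e₁, e₂]
      module
    have hz := coeff_unique P hΔ.linInd
      (sub_mem (sub_mem (Finsupp.single_mem_supported ℤ _ hj₁Δ)
        (Finsupp.single_mem_supported ℤ _ hj₂Δ)) (Finsupp.single_mem_supported ℤ _ hiΔ))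
      (zero_mem _) (by rw [hrel, map_zero])
    have hz1 := DFunLike.congr_fun hz j₁
    simp only [Finsupp.sub_apply, Finsupp.single_apply, if_neg (Ne.symm hne), if_neg (Ne.symm hn1),
      if_true, Finsupp.zero_apply, sub_zero] at hz1
    have hm₁' : (m₁ : ℤ) ≠ 0 := by exact_mod_cast hm₁.ne'
    have hb₂ : b₂ = 0 := (mul_eq_zero.mp hz1).resolve_right hm₁'
    rw [hb₂, zero_smul, add_zero] at e₂
    have hrel2 : Finsupp.linearCombination ℤ P.root
        (Finsupp.single j₂ (m₂ : ℤ) - Finsupp.single i a₂) = 0 := by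
      simp only [map_sub, Finsupp.linearCombination_single]
      rw [e₂, sub_self]
    have hz' := coeff_unique P hΔ.linInd
      (sub_mem (Finsupp.single_mem_supported ℤ _ hj₂Δ) (Finsupp.single_mem_supported ℤ _ hiΔ))
      (zero_mem _) (by rw [hrel2, map_zero])
    have hz2 := DFunLike.congr_fun hz' j₂
    simp only [Finsupp.sub_apply, Finsupp.single_apply, if_neg (Ne.symm hn2), if_true,
      Finsupp.zero_apply, sub_zero] at hz2
    have : (m₂ : ℤ) ≠ 0 := by exact_mod_cast hm₂.ne'
    exact this hz2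
  by_cases hex : ∃ j, c j ≠ 0 ∧ j ≠ i
  · obtain ⟨j, hcj, hji⟩ := hex
    have hjΔ : j ∈ indec P S := (hsuppR j hcj).1
    refine ⟨indec P S, hΔ, hiΔ, j, hjΔ, (c i).toNat, (c j).toNat, ?_⟩
    have hceq : c = Finsupp.single i (c i) + Finsupp.single j (c j) := by
      ext l
      by_cases hl : l = i
      · subst hl
        simp [hji]
      · by_cases hlj : l = j
        · subst hlj
          simp [Ne.symm hl]
        · have h0 : c l = 0 := by
            by_contra h
            exact hlj (huniq l j h hcj hl hji)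
          simp [Ne.symm hl, Ne.symm hlj, h0]
    have hk' : P.root k = (c i) • P.root i + (c j) • P.root j := by
      have h := hc
      rw [hceq, map_add, Finsupp.linearCombination_single, Finsupp.linearCombination_single] at h
      exact h.symm
    rw [hk']
    congr 1
    · rw [← natCast_zsmul (P.root i), Int.toNat_of_nonneg (hc0 i)]
    · rw [← natCast_zsmul (P.root j), Int.toNat_of_nonneg (hc0 j)]
  · exfalso
    push Not at hex
    have hceq : c = Finsupp.single i (c i) := by
      ext l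
      by_cases hl : l = i
      · subst hl; simp
      · have h0 : c l = 0 := by
          by_contra h
          exact hl (hex l h)
        simp [Ne.symm hl, h0]
    have h := hc
    rw [hceq, Finsupp.linearCombination_single] at h
    have h2 := LinearIndependent.pair_iff.mp hli (c i) (-1) (by
      rw [h]; simp)
    exact absurd h2.2 (by norm_num)

end Groth.Agent.H27
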