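import Groth.Agent.H27.RootBase
import Mathlib.LinearAlgebra.RootSystem.WeylGroup

set_option autoImplicit false

namespace Groth.Agent.H27

open RootD

variable {ι M N : Type*} [AddCommGroup M] [AddCommGroup N] (P : RootPairing ι ℤ M N)

/-- The image of a set of indices under an automorphism. -/
abbrev img (g : P.Aut) (S : Set ι) : Set ι := (fun i : ι => g • i) '' S

theorem root_smul (g : P.Aut) (i : ι) : P.root (g • i) = g • P.root i :=
  RootPairing.Equiv.root_indexEquiv_eq_smul P i g

theorem smul_reflectionPerm_self (g : P.Aut) (i : ι) :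
    g • P.reflectionPerm i i = P.reflectionPerm (g • i) (g • i) := by
  apply P.root.injective
  rw [root_smul, root_neg, root_neg, smul_neg, root_smul]

theorem img_img (g h : P.Aut) (S : Set ι) : img P g (img P h S) = img P (g * h) S := by
  ext k
  simp only [img, Set.mem_image, exists_exists_and_eq_and, mul_smul]

theorem img_one (S : Set ι) : img P 1 S = S := by
  ext k
  simp [img]

theorem mem_img_iff (g : P.Aut) (S : Set ι) (k : ι) : k ∈ img P g S ↔ g⁻¹ • k ∈ S := by
  constructor
  · rintro ⟨j, hj, rfl⟩
    simpa using hj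
  · intro h
    exact ⟨g⁻¹ • k, h, by simp⟩

theorem smul_mem_natSpan (g : P.Aut) {S : Set ι} {x : M} (hx : x ∈ natSpan P S) :
    g • x ∈ natSpan P (img P g S) := by
  unfold natSpan at hx
  induction hx using AddSubmonoid.closure_induction with
  | mem x hx =>
    obtain ⟨i, hi, rfl⟩ := hx
    rw [← root_smul]
    exact root_mem_natSpan P ⟨i, hi, rfl⟩
  | zero => rw [smul_zero]; exact zero_mem _
  | add x y _ _ hx hy => rw [smul_add]; exact add_mem hx hy

theorem isPosSys_img (g : P.Aut) {S : Set ι} (hS : IsPosSys P S) : IsPosSys P (img P g S) := by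
  refine ⟨?_, ?_, ?_⟩
  · intro i hi hi'
    rw [mem_img_iff] at hi hi'
    rw [smul_reflectionPerm_self] at hi'
    exact hS.disjoint hi hi'
  · intro i
    rw [mem_img_iff, mem_img_iff, smul_reflectionPerm_self]
    exact hS.cover _
  · intro k n hn hk
    rw [mem_img_iff]
    apply hS.sat n hn
    have := smul_mem_natSpan P g⁻¹ hk
    rw [img_img, inv_mul_cancel, img_one, smul_comm, ← root_smul] at this
    exact this

theorem isSimpleSys_img (g : P.Aut) {Δ : Set ι} (hΔ : IsSimpleSys P Δ) :
    IsSimpleSys P (img P g Δ) := by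
  refine ⟨?_, ?_⟩
  · apply LinearIndepOn.image_of_comp (fun i : ι => g • i) P.root
    have h1 : P.root ∘ (fun i : ι => g • i) = g.toHom.weightMap ∘ P.root := by
      funext i
      exact root_smul P g i
    rw [h1]
    exact hΔ.linInd.map_injOn _ (g.bijective_weightMap.1.injOn)
  · intro i
    rcases hΔ.mem_or_neg_mem (g⁻¹ • i) with h | h
    · left
      have := smul_mem_natSpan P g h
      rwa [← root_smul, smul_inv_smul] at this
    · right
      have := smul_mem_natSpan P g h
      rwa [smul_neg, ← root_smul, smul_inv_smul] at this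


/-- The reflection in a simple root maps a positive root to a positive root, unless the latter is
the simple root or twice it. -/
theorem reflectionPerm_mem_posOf_or {Δ : Set ι} (hΔ : IsSimpleSys P Δ) {i k : ι} (hi : i ∈ Δ)
    (hk : k ∈ posOf P Δ) :
    P.reflectionPerm i k ∈ posOf P Δ ∨ k = i ∨ (2 : ℤ) • P.root i = P.root k := by
  classical
  obtain ⟨c, hc0, hcS, hc⟩ := exists_coeff_of_mem_natSpan P hk
  by_cases hex : ∃ l, l ≠ i ∧ 0 < c l
  · obtain ⟨l, hli', hcl⟩ := hex
    exact Or.inl (reflectionPerm_mem_posOf_of_coeff_pos P hΔ hi hli' c hcS hc hcl)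
  · right
    push Not at hex
    have hc' : c = Finsupp.single i (c i) := by
      ext l
      by_cases hl : l = i
      · subst hl; simp
      · rw [Finsupp.single_apply, if_neg (Ne.symm hl)]
        have := hex l hl
        have := hc0 l
        omega
    rw [hc'] at hc
    exact root_eq_or_eq_two_smul_of_single P (hc0 i) hc

theorem posSys_eq_of_subset {S S' : Set ι} (hS : IsPosSys P S) (hS' : IsPosSys P S')
    (h : S ⊆ S') : S = S' := by
  apply Set.Subset.antisymm h
  intro k hk
  rcases hS.cover k with h1 | h1
  · exact h1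
  · exact absurd (h h1) (hS'.disjoint hk)

/-- The Weyl group acts transitively on systems of positive roots. -/
theorem exists_weyl_img_eq [Finite ι] {S S' : Set ι} (hS : IsPosSys P S) (hS' : IsPosSys P S') :
    ∃ g : P.Aut, g ∈ P.weylGroup ∧ img P g S = S' := by
  classical
  suffices key : ∀ n : ℕ, ∀ S : Set ι, IsPosSys P S → (S \ S').ncard = n →
      ∃ g : P.Aut, g ∈ P.weylGroup ∧ img P g S = S' from key _ S hS rfl
  intro n
  induction n using Nat.strong_induction_on with
  | _ n ih =>
  intro S hS hn
  by_cases hsub : S ⊆ S'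
  · exact ⟨1, one_mem _, by rw [img_one]; exact posSys_eq_of_subset P hS hS' hsub⟩
  · have hΔ : IsSimpleSys P (indec P S) := isSimpleSys_indec P hS
    have hSeq : S = posOf P (indec P S) := posSys_eq_posOf P hΔ hS (indec_subset P S)
    obtain ⟨i, hiΔ, hiS'⟩ : ∃ i ∈ indec P S, i ∉ S' := by
      by_contra hcon
      push Not at hcon
      have : S' = posOf P (indec P S) := posSys_eq_posOf P hΔ hS' hcon
      exact hsub (by rw [this, ← hSeq])
    have hiS : i ∈ S := indec_subset P S hiΔ
    have hnegi : P.reflectionPerm i i ∈ S' := (hS'.cover i).resolve_left hiS'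
    let s : P.Aut := RootPairing.Equiv.reflection P i
    have hs : s ∈ P.weylGroup := P.reflection_mem_weylGroup i
    have hS1 : IsPosSys P (img P s S) := isPosSys_img P s hS
    have hsub1 : img P s S \ S' ⊆ (S \ S') \ {i} := by
      rintro k ⟨⟨k', hk', rfl⟩, hkS'⟩
      have hkS' : P.reflectionPerm i k' ∉ S' := hkS'
      show P.reflectionPerm i k' ∈ (S \ S') \ {i}
      rw [hSeq] at hk'
      rcases reflectionPerm_mem_posOf_or P hΔ hiΔ hk' with h | h | h
      · refine ⟨⟨?_, hkS'⟩, ?_⟩
        · rw [hSeq]; exact h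
        · intro hki
          have hki : P.reflectionPerm i k' = i := hki
          have : k' = P.reflectionPerm i i := by
            have h3 := congrArg (P.reflectionPerm i) hki
            rwa [P.reflectionPerm_self] at h3
          rw [this, ← hSeq] at hk'
          exact hS.disjoint hiS hk'
      · exfalso
        subst h
        exact hkS' hnegi
      · exfalso
        apply hkS'
        apply hS'.sat 1 one_pos
        rw [one_smul, P.root_reflectionPerm, ← h, map_smul, P.reflection_apply_self,
          ← root_neg]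
        have h1 := root_mem_natSpan P hnegi
        have h2 := add_mem h1 h1
        rw [← two_smul ℤ] at h2
        exact h2
    have hlt : (img P s S \ S').ncard < n := by
      rw [← hn]
      apply Set.ncard_lt_ncard _ (Set.toFinite _)
      refine ⟨fun k hk => (hsub1 hk).1, fun hcon => ?_⟩
      have := hsub1 (hcon ⟨hiS, hiS'⟩)
      exact this.2 rfl
    obtain ⟨g, hg, hgS⟩ := ih _ hlt _ hS1 rfl
    exact ⟨g * s, mul_mem hg hs, by rw [← img_img]; exact hgS⟩


/-- The Weyl group acts transitively on systems of simple roots. -/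
theorem exists_weyl_img_simple_eq [Finite ι] {Δ Δ' : Set ι} (hΔ : IsSimpleSys P Δ)
    (hΔ' : IsSimpleSys P Δ') :
    ∃ g : P.Aut, g ∈ P.weylGroup ∧ img P g Δ = Δ' := by
  obtain ⟨g, hg, hgS⟩ := exists_weyl_img_eq P (isPosSys_posOf P hΔ) (isPosSys_posOf P hΔ')
  refine ⟨g, hg, ?_⟩
  have h1 : IsSimpleSys P (img P g Δ) := isSimpleSys_img P g hΔ
  have h2 : img P g Δ ⊆ posOf P Δ' := by
    rw [← hgS]
    exact Set.image_mono (subset_posOf P Δ)
  rw [simpleSys_eq_indec P h1 (isPosSys_posOf P hΔ') h2,
    ← simpleSys_eq_indec P hΔ' (isPosSys_posOf P hΔ') (subset_posOf P Δ')]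

end Groth.Agent.H27
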