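import Mathlib.LinearAlgebra.RootSystem.Finite.Lemmas
import Mathlib.LinearAlgebra.RootSystem.Reduced
import Mathlib.LinearAlgebra.RootSystem.IsValuedIn

set_option autoImplicit false
set_option linter.unusedSectionVars false

namespace Groth.Agent.H27

open RootPairing Module

variable {ι R M N : Type*} [CommRing R] [IsDomain R] [CharZero R] [AddCommGroup M] [Module R M]
  [AddCommGroup N] [Module R N] (P : RootPairing ι R M N) [P.IsCrystallographic] [Finite ι]

include P in
/-- The weight module of a root pairing over a domain of characteristic zero has no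
`ℤ`-torsion. -/
theorem isTorsionFree_int_left : Module.IsTorsionFree ℤ M := by
  have : Module.IsReflexive R M := .of_isPerfPair P.toLinearMap
  exact Module.IsTorsionFree.trans R

instance instIsReflexiveRootSpanInt : Module.IsReflexive ℤ (P.rootSpan ℤ) := by
  have := isTorsionFree_int_left P
  have h1 : Module.IsTorsionFree ℤ (P.rootSpan ℤ) := inferInstance
  have h2 : Module.Free ℤ (P.rootSpan ℤ) := inferInstance
  infer_instance

theorem coroot'In_injective : Function.Injective (P.coroot'In ℤ) := by
  intro i j h
  have := isTorsionFree_int_left P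
  have : IsAddTorsionFree M := .of_isTorsionFree ℤ M
  have hk : ∀ k, P.pairing k i = P.pairing k j := by
    intro k
    have h1 : P.pairingIn ℤ k i = P.pairingIn ℤ k j := DFunLike.congr_fun h (P.rootSpanMem ℤ k)
    rw [← P.algebraMap_pairingIn ℤ k i, ← P.algebraMap_pairingIn ℤ k j, h1]
  apply P.coroot.injective
  apply P.injOn_dualMap_subtype_span_root_coroot (Set.mem_range_self i) (Set.mem_range_self j)
  apply LinearMap.ext
  rintro ⟨x, hx⟩
  show P.toLinearMap x (P.coroot i) = P.toLinearMap x (P.coroot j)
  induction hx using Submodule.span_induction with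
  | mem y hy =>
    obtain ⟨k, rfl⟩ := hy
    exact hk k
  | zero => simp
  | add y z _ _ hy hz => rw [map_add, LinearMap.add_apply, LinearMap.add_apply, hy, hz]
  | smul t y _ hy => rw [map_smul, LinearMap.smul_apply, LinearMap.smul_apply, hy]

/-- The `ℤ`-form of a crystallographic root pairing over a domain of characteristic zero: the
root lattice and its dual, with the same indexing set, reflection permutations and Cartan
integers. -/
noncomputable def zform : RootPairing ι ℤ (P.rootSpan ℤ) (Dual ℤ (P.rootSpan ℤ)) where
  toLinearMap := Dual.eval ℤ (P.rootSpan ℤ)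
  isPerfPair_toLinearMap := inferInstance
  root := ⟨P.rootSpanMem ℤ, fun i j h => P.root.injective (congrArg Subtype.val h)⟩
  coroot := ⟨P.coroot'In ℤ, coroot'In_injective P⟩
  root_coroot_two i := by
    show P.coroot'In ℤ i (P.rootSpanMem ℤ i) = 2
    rw [coroot'In_rootSpanMem_eq_pairingIn]
    exact P.pairingIn_same ℤ i
  reflectionPerm := P.reflectionPerm
  reflectionPerm_root i j := by
    apply Subtype.ext
    show P.root j - (P.coroot'In ℤ i (P.rootSpanMem ℤ j)) • P.root i =
      P.root (P.reflectionPerm i j)
    rw [coroot'In_rootSpanMem_eq_pairingIn, P.root_reflectionPerm, P.reflection_apply_root' ℤ]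
  reflectionPerm_coroot i j := by
    apply LinearMap.ext
    intro x
    apply FaithfulSMul.algebraMap_injective ℤ R
    show algebraMap ℤ R ((P.coroot'In ℤ j - (P.coroot'In ℤ j (P.rootSpanMem ℤ i)) •
      P.coroot'In ℤ i) x) = algebraMap ℤ R (P.coroot'In ℤ (P.reflectionPerm i j) x)
    simp only [LinearMap.sub_apply, LinearMap.smul_apply, smul_eq_mul, map_sub, map_mul,
      algebraMap_coroot'In_apply]
    rw [P.coroot'_reflectionPerm, LinearMap.comp_apply, LinearEquiv.coe_coe, P.reflection_apply,
      map_sub, map_smul, smul_eq_mul]
    ring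

theorem zform_root (i : ι) : ((zform P).root i : M) = P.root i := rfl

theorem zform_reflectionPerm (i j : ι) : (zform P).reflectionPerm i j = P.reflectionPerm i j := rfl

theorem zform_pairing (i j : ι) : (zform P).pairing i j = P.pairingIn ℤ i j := rfl

theorem zform_linearCombination (c : ι →₀ ℤ) :
    ((Finsupp.linearCombination ℤ (zform P).root c : P.rootSpan ℤ) : M) =
      Finsupp.linearCombination ℤ (fun i => P.root i) c := by
  have := Finsupp.apply_linearCombination ℤ (P.rootSpan ℤ).subtype (zform P).root c
  exact this

/-- In the reduced case no root of the `ℤ`-form is twice a root. -/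
theorem zform_two_smul_ne [P.IsReduced] (i j : ι) :
    (2 : ℤ) • (zform P).root j ≠ (zform P).root i := by
  intro h
  have := isTorsionFree_int_left P
  have : IsAddTorsionFree M := .of_isTorsionFree ℤ M
  have h1 : (2 : ℤ) • P.root j = P.root i := congrArg Subtype.val h
  apply P.nsmul_notMem_range_root (n := 2) (i := j)
  refine ⟨i, ?_⟩
  rw [← h1, two_smul, two_nsmul]

end Groth.Agent.H27
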