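import Mathlib
import Groth.Agent.H68.SpreadMain
import Groth.Agent.H27.Gonf

/-!
# helper27: glue for S5127

`cover_to_stalk` generalises `Groth.Agent.H68.Spread.completion_to_stalk` from the completion
morphism to an arbitrary flat surjective quasi-compact morphism onto `Spec 𝒪_{S,a}`.
-/

set_option autoImplicit false
set_option backward.isDefEq.respectTransparency false
set_option backward.isDefEq.respectTransparency.types false
universe u
open CategoryTheory CategoryTheory.Limits AlgebraicGeometry Opposite Desc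

namespace Groth.Agent.H27.S5127Glue

open Groth.Agent.H51.DescCrit Groth.Agent.H49 Groth.Agent.H24 Groth.Agent.H68.SubmFpqc
  Groth.Agent.H68.Spread

section Cover

variable {S S' : Scheme.{u}} [IsLocallyNoetherian S] (g : S' ⟶ S) (hg : SGA1.UnivSubmersive g)
  [LocallyOfFinitePresentation g] [QuasiCompact g] [QuasiSeparated g]
  (D : SchDDFam (fun _ : PUnit.{1} => g)) [Etale (D.obj PUnit.unit).hom]
  [QuasiCompact (D.obj PUnit.unit).hom] [IsSeparated (D.obj PUnit.unit).hom]

include hg in
/-- A solution over a flat surjective quasi-compact cover of `Spec 𝒪_{S,a}` gives a solution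
over the local ring. -/
theorem cover_to_stalk (a : S) {T : Scheme.{u}} (c : T ⟶ Spec (S.presheaf.stalk a))
    [Flat c] [Surjective c] [QuasiCompact c]
    (Uc : Over T) [Etale Uc.hom]
    (e : (toDDFam (fun _ : PUnit.{1} => pullback.snd g (c ≫ S.fromSpecStalk a))).obj Uc ≅
      D₁ g (c ≫ S.fromSpecStalk a) D) :
    ∃ Ua : Over (Spec (S.presheaf.stalk a)), Etale Ua.hom ∧
      Nonempty ((toDDFam (fun _ : PUnit.{1} => pullback.snd g (S.fromSpecStalk a))).obj Ua ≅
        D₁ g (S.fromSpecStalk a) D) := by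
  set φ := S.fromSpecStalk a with hφ
  have hsc := (isSol_canonical (f := fun _ : PUnit.{1} => pullback.snd g (c ≫ φ)) Uc).of_iso e
  obtain ⟨kc, hkc⟩ : ∃ kc : ∀ i, ((D₁ g (c ≫ φ) D).obj i).left ⟶ Uc.left,
      IsSol (D₁ g (c ≫ φ) D) Uc kc := ⟨_, hsc⟩
  have hgc := Groth.Agent.H65.EtLocEff.univSubmersive_snd g hg (c ≫ φ)
  haveI : Surjective (pullback.snd g (c ≫ φ)) := surjective_of_univSubmersive _ hgc
  have sqc : IsPullback (kc PUnit.unit)
      (pullback.snd (D.obj PUnit.unit).hom (pullback.fst g (c ≫ φ))) Uc.hom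
      (pullback.snd g (c ≫ φ)) := hkc.sq PUnit.unit
  haveI : QuasiCompact Uc.hom := quasiCompact_of_isPullback sqc
  haveI : IsSeparated Uc.hom := isSeparated_of_isPullback sqc hgc
  obtain ⟨k', hk'⟩ := isSol_rebase g D φ c Uc kc hkc
  let U₁ : Over T := Over.mk (pullback.snd Uc.hom (𝟙 _))
  haveI : Etale U₁.hom := inferInstanceAs (Etale (pullback.snd Uc.hom (𝟙 _)))
  haveI : IsSeparated U₁.hom := inferInstanceAs (IsSeparated (pullback.snd Uc.hom (𝟙 _)))
  haveI : QuasiCompact U₁.hom := inferInstanceAs (QuasiCompact (pullback.snd Uc.hom (𝟙 _)))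
  obtain ⟨e₁⟩ := hk'.nonempty_iso
  obtain ⟨U, hU1, -, -, hU4⟩ := Groth.Agent.H68.SubmFpqc.backward (pullback.snd g φ)
    (D₁ g φ D) c (Groth.Agent.H65.EtLocEff.univSubmersive_snd g hg φ) U₁ e₁
  exact ⟨U, hU1, hU4⟩

end Cover

/-- `Spec` of a faithfully flat algebra is flat and surjective. -/
theorem flat_surjective_of_faithfullyFlat (R B : Type u) [CommRing R] [CommRing B] [Algebra R B]
    [Module.FaithfullyFlat R B] :
    Flat (Spec.map (CommRingCat.ofHom (algebraMap R B))) ∧
    Surjective (Spec.map (CommRingCat.ofHom (algebraMap R B))) := by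
  refine ⟨?_, ⟨?_⟩⟩
  · rw [HasRingHomProperty.Spec_iff (P := @Flat)]
    exact (RingHom.flat_algebraMap_iff).mpr inferInstance
  · intro x
    obtain ⟨y, hy⟩ := PrimeSpectrum.comap_surjective_of_faithfullyFlat (A := R) (B := B) x
    exact ⟨y, hy⟩

end Groth.Agent.H27.S5127Glue
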