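import Mathlib
set_option autoImplicit false
universe u
open IsLocalRing Polynomial

namespace Groth.Agent.H27.TameR3

/-- (R3) from the norm to the characteristic polynomial over an infinite field. -/
theorem charpoly_map_eq_prod {A B K : Type u} [CommRing A] [Field K] [Infinite K] [CommRing B]
    [Algebra A B] [Module.Finite A B] [Module.Free A B]
    (evA : A →+* K) (hevA : Function.Surjective evA) (L : List (B →+* K))
    (hL : ∀ φ ∈ L, ∀ a : A, φ (algebraMap A B a) = evA a)
    (hlen : L.length = Module.finrank A B)
    (hN : ∀ x : B, evA (Algebra.norm A x) = (L.map (fun φ => φ x)).prod) (x : B) :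
    (LinearMap.charpoly (Algebra.lmul A B x)).map evA = (L.map (fun φ => X - C (φ x))).prod := by
  refine Polynomial.funext fun r => ?_
  obtain ⟨c, rfl⟩ := hevA r
  rw [Polynomial.eval_map, Polynomial.eval₂_at_apply, LinearMap.eval_charpoly]
  have h1 : (algebraMap A (Module.End A B) c - Algebra.lmul A B x)
      = Algebra.lmul A B (algebraMap A B c - x) := by
    apply LinearMap.ext
    intro b
    simp [Algebra.smul_def, sub_mul]
  rw [h1, ← Algebra.norm_apply, hN, Polynomial.eval_list_prod, List.map_map]
  congr 1
  apply List.map_congr_left
  intro φ hφ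
  simp [hL φ hφ c]

end Groth.Agent.H27.TameR3
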