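import Mathlib

set_option autoImplicit false

/-! Helpers for S14909: ideal arithmetic in `R[[x,y]]`, order ideals, coefficient lemmas. -/

namespace Groth.Agent.H27.WC2

open MvPowerSeries

theorem sup_pow_le {S : Type*} [CommRing S] (I Z : Ideal S) (n : ℕ) :
    (I ⊔ Z) ^ n ≤ I ⊔ Z ^ n := by
  induction n with
  | zero => simp
  | succ n ih =>
    rw [pow_succ, pow_succ]
    calc (I ⊔ Z) ^ n * (I ⊔ Z) ≤ (I ⊔ Z ^ n) * (I ⊔ Z) := Ideal.mul_mono_left ih
      _ ≤ I ⊔ Z ^ n * Z := by
        rw [Ideal.sup_mul, Ideal.mul_sup, Ideal.mul_sup]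
        refine sup_le (sup_le ?_ ?_) (sup_le ?_ ?_)
        · exact le_sup_of_le_left Ideal.mul_le_left
        · exact le_sup_of_le_left Ideal.mul_le_left
        · exact le_sup_of_le_left Ideal.mul_le_right
        · exact le_sup_right

variable {R : Type*} [CommRing R]

/-- The exponent `x^i y^j`. -/
noncomputable def e (i j : ℕ) : Fin 2 →₀ ℕ := Finsupp.single 0 i + Finsupp.single 1 j

@[simp] theorem e_apply_zero (i j : ℕ) : e i j 0 = i := by simp [e]
@[simp] theorem e_apply_one (i j : ℕ) : e i j 1 = j := by simp [e]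

theorem e_le_iff (i j i' j' : ℕ) : e i j ≤ e i' j' ↔ i ≤ i' ∧ j ≤ j' := by
  rw [Finsupp.le_def, Fin.forall_fin_two]; simp

theorem e_sub (i j i' j' : ℕ) : e i' j' - e i j = e (i' - i) (j' - j) := by
  ext k; fin_cases k <;> simp

theorem e_degree (i j : ℕ) : (e i j).degree = i + j := by
  simp [e]

theorem e_inj {i j i' j' : ℕ} (h : e i j = e i' j') : i = i' ∧ j = j' := by
  have h0 := DFunLike.congr_fun h 0
  have h1 := DFunLike.congr_fun h 1
  simpa using And.intro h0 h1

theorem X0_pow_mul_X1_pow (i j : ℕ) :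
    (X 0 : MvPowerSeries (Fin 2) R) ^ i * X 1 ^ j = monomial (e i j) 1 := by
  rw [X_pow_eq, X_pow_eq, monomial_mul_monomial, one_mul]; rfl

/-- Power series all of whose coefficients of degree `< n` vanish. -/
def O (R : Type*) [CommRing R] (n : ℕ) : Ideal (MvPowerSeries (Fin 2) R) where
  carrier := {h | ∀ d : Fin 2 →₀ ℕ, d.degree < n → coeff d h = 0}
  add_mem' := by
    intro a b ha hb d hd
    rw [map_add, ha d hd, hb d hd, add_zero]
  zero_mem' := by intro d _; simp
  smul_mem' := by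
    intro s h hh d hd
    classical
    rw [smul_eq_mul, coeff_mul]
    apply Finset.sum_eq_zero
    rintro ⟨i, j⟩ hij
    have hij : i + j = d := Finset.HasAntidiagonal.mem_antidiagonal.mp hij
    have hj : j.degree < n := by
      have : d.degree = i.degree + j.degree := by rw [← hij, map_add]
      omega
    simp only
    rw [hh j hj, mul_zero]

theorem mem_O {n : ℕ} {h : MvPowerSeries (Fin 2) R} :
    h ∈ O R n ↔ ∀ d : Fin 2 →₀ ℕ, d.degree < n → coeff d h = 0 := Iff.rfl

theorem O_mul_le (a b : ℕ) : O R a * O R b ≤ O R (a + b) := by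
  classical
  rw [Ideal.mul_le]
  intro r hr s hs d hd
  rw [coeff_mul]
  apply Finset.sum_eq_zero
  rintro ⟨i, j⟩ hij
  have hij : i + j = d := Finset.HasAntidiagonal.mem_antidiagonal.mp hij
  have : d.degree = i.degree + j.degree := by rw [← hij, map_add]
  simp only
  by_cases hi : i.degree < a
  · rw [hr i hi, zero_mul]
  · have hj : j.degree < b := by omega
    rw [hs j hj, mul_zero]

theorem X_mem_O_one (s : Fin 2) : (X s : MvPowerSeries (Fin 2) R) ∈ O R 1 := by
  classical
  intro d hd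
  have hd0 : d = 0 := by
    rw [← Finsupp.degree_eq_zero_iff]; omega
  rw [coeff_X, if_neg]
  rw [hd0]
  intro h
  have := DFunLike.congr_fun h s
  simp at this

theorem span_pow_le_O (n : ℕ) :
    (Ideal.span {(X 0 : MvPowerSeries (Fin 2) R), X 1}) ^ n ≤ O R n := by
  induction n with
  | zero => intro h _ d hd; omega
  | succ n ih =>
    rw [pow_succ]
    refine le_trans (Ideal.mul_mono ih ?_) (O_mul_le n 1)
    rw [Ideal.span_le]
    rintro z (rfl | rfl)
    · exact X_mem_O_one 0
    · exact X_mem_O_one 1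

/-- Decomposition of powers of `(x, y)`. -/
theorem span_pow_add_two_le (n : ℕ) :
    (Ideal.span {(X 0 : MvPowerSeries (Fin 2) R), X 1}) ^ (n + 2) ≤
      Ideal.span {(X 0 : MvPowerSeries (Fin 2) R) ^ 2} ⊔
        Ideal.span {(X 1 : MvPowerSeries (Fin 2) R) ^ (n + 2), X 0 * X 1 ^ (n + 1)} := by
  induction n with
  | zero =>
    rw [zero_add, pow_two, Ideal.span_pair_mul_span_pair, Ideal.span_le]
    rintro z (rfl | rfl | rfl | rfl)
    · exact Ideal.mem_sup_left (Ideal.mem_span_singleton.mpr ⟨1, by ring⟩)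
    · exact Ideal.mem_sup_right (Ideal.subset_span (by simp))
    · exact Ideal.mem_sup_right (Ideal.subset_span (by right; simp [mul_comm]))
    · exact Ideal.mem_sup_right (Ideal.subset_span (by left; simp [pow_two]))
  | succ n ih =>
    rw [show n + 1 + 2 = (n + 2) + 1 by ring, pow_succ]
    refine le_trans (Ideal.mul_mono_left ih) ?_
    rw [Ideal.sup_mul]
    refine sup_le (le_sup_of_le_left Ideal.mul_le_left) ?_
    rw [Ideal.span_pair_mul_span_pair, Ideal.span_le]
    rintro z (rfl | rfl | rfl | rfl)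
    · refine Ideal.mem_sup_right (Ideal.subset_span ?_)
      right; simp only [Set.mem_singleton_iff]; ring
    · refine Ideal.mem_sup_right (Ideal.subset_span ?_)
      left; ring
    · refine Ideal.mem_sup_left (Ideal.mem_span_singleton.mpr ⟨X 1 ^ (n + 1), by ring⟩)
    · refine Ideal.mem_sup_right (Ideal.subset_span ?_)
      right; simp only [Set.mem_singleton_iff]; ring

end Groth.Agent.H27.WC2

namespace Groth.Agent.H27.WC2

open MvPowerSeries

section
variable {S : Type*} [CommRing S] (B Y : Ideal S) (p : S)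

theorem pow_mem_of_mem (hp : p ∈ B ⊔ Y ^ 2) (n : ℕ) : p ^ n ∈ B ⊔ Y ^ (2 * n) := by
  have h1 : p ^ n ∈ (B ⊔ Y ^ 2) ^ n := Ideal.pow_mem_pow hp n
  have h2 := sup_pow_le B (Y ^ 2) n h1
  rwa [← pow_mul] at h2

theorem mul_pow_mul_mem (hp : p ∈ B ⊔ Y ^ 2) (n k : ℕ) (r z : S) (hz : z ∈ Y ^ k) :
    r * p ^ n * z ∈ B ⊔ Y ^ (2 * n + k) := by
  obtain ⟨b, hb, t, ht, hbt⟩ := Submodule.mem_sup.mp (pow_mem_of_mem B Y p hp n)
  rw [← hbt]
  have : r * (b + t) * z = (r * z) * b + r * (t * z) := by ring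
  rw [this]
  refine Submodule.add_mem _ (Ideal.mem_sup_left (Ideal.mul_mem_left _ _ hb))
    (Ideal.mem_sup_right (Ideal.mul_mem_left _ _ ?_))
  rw [pow_add]
  exact Ideal.mul_mem_mul ht hz

theorem pow_le_of_le (M : Ideal S) (hM : M ≤ B ⊔ Y) (n : ℕ) : M ^ n ≤ B ⊔ Y ^ n :=
  (Ideal.pow_right_mono hM n).trans (sup_pow_le B Y n)

end

end Groth.Agent.H27.WC2
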